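import Groth.Agent.OmegaSh.K584.Univ

/-!
# The universal thickening of `Z` over `Y` from those of `Z` and `Y` over `X`
-/

set_option autoImplicit false
universe u
open CategoryTheory CategoryTheory.Limits AlgebraicGeometry TopologicalSpace

namespace K584.Univ

open Groth.Agent.UnramB.FirstOrderNbhd (SqZ)
open OmegaSh

/-- If `ℓ ≫ g` is a first order thickening and `g` is a closed immersion then `ℓ` is a first order thickening. -/
theorem fot_of_comp {Z P Q : Scheme.{u}} (l : Z ⟶ P) (g : P ⟶ Q) [IsClosedImmersion g] (h : FOT (l ≫ g)) :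
    FOT l := by
  have := h.closed
  have := h.surj
  have h1 : IsClosedImmersion l := IsClosedImmersion.of_comp_isClosedImmersion l g
  have h2 : Surjective l := by
    refine ⟨fun p => ?_⟩
    obtain ⟨z, hz⟩ := (l ≫ g).surjective (g p)
    refine ⟨z, ?_⟩
    apply g.isEmbedding.injective
    rw [← Scheme.Hom.comp_apply]
    exact hz
  refine fot_of_sqZ l ?_
  intro V x y hx hy
  refine P.IsSheaf.section_ext ?_
  intro p hp
  obtain ⟨V', hV'⟩ : ∃ V' : Q.Opens, g ⁻¹ᵁ V' = V := by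
    obtain ⟨t, ht, e⟩ := g.isEmbedding.isInducing.isOpen_iff.mp V.isOpen
    exact ⟨⟨t, ht⟩, Opens.ext e⟩
  subst hV'
  obtain ⟨_, ⟨W, hW, rfl⟩, hzW, hWV⟩ :=
    Q.isBasis_affineOpens.exists_subset_of_mem_open (show g p ∈ V' from hp) V'.2
  refine ⟨g ⁻¹ᵁ W, fun q hq => hWV hq, hzW, ?_⟩
  have key : ∀ c : Γ(P, g ⁻¹ᵁ V'), l.app (g ⁻¹ᵁ V') c = 0 →
      ∃ d : Γ(Q, W), (l ≫ g).app W d = 0 ∧
        g.app W d = P.presheaf.map (homOfLE (fun q hq => hWV hq : g ⁻¹ᵁ W ≤ g ⁻¹ᵁ V')).op c := by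
    intro c hc
    obtain ⟨d, hd⟩ := g.app_surjective W hW (P.presheaf.map (homOfLE (fun q hq => hWV hq : g ⁻¹ᵁ W ≤ g ⁻¹ᵁ V')).op c)
    refine ⟨d, ?_, hd⟩
    rw [Scheme.Hom.comp_app]
    change l.app _ (g.app W d) = 0
    rw [hd]
    have := ConcreteCategory.congr_hom
      (l.naturality (homOfLE (fun q hq => hWV hq : g ⁻¹ᵁ W ≤ g ⁻¹ᵁ V')).op) c
    refine this.trans ?_
    change Z.presheaf.map _ (l.app _ c) = 0
    rw [hc, map_zero]
  obtain ⟨x', hx', ex⟩ := key x hx
  obtain ⟨y', hy', ey⟩ := key y hy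
  have h3 := h.sqZ W x' y' hx' hy'
  change P.presheaf.map _ (x * y) = P.presheaf.map _ 0
  rw [map_mul, map_zero]
  refine (congrArg₂ (· * ·) ex.symm ey.symm).trans ?_
  change g.app W x' * g.app W y' = 0
  rw [← map_mul, h3, map_zero]

section Comp

variable {Z Y X Z' Y' : Scheme.{u}} (a : Z ⟶ Y) (b : Y ⟶ X) (i : Z ⟶ Z') (c : Z' ⟶ X)
  (hZ : IsUnivThickening (a ≫ b) i c) (j : Y ⟶ Y') (d : Y' ⟶ X) (hY : IsUnivThickening b j d)
  (m : Z' ⟶ Y') (hm : i ≫ m = a ≫ j) (hmd : m ≫ d = c)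

include hZ hY hmd in
/-- The universal thickening of `Z` over `Y` is `Y ×_{Y'} Z'`. -/
theorem isUnivThickening_comp : IsUnivThickening a (pullback.lift a i hm.symm) (pullback.fst j m) := by
  have hj : IsClosedImmersion j := hY.1.1.1
  have hsnd : IsClosedImmersion (pullback.snd j m) := inferInstance
  refine ⟨fot_of_comp _ (pullback.snd j m) ?_, pullback.lift_fst _ _ _, ?_⟩
  · rw [pullback.lift_snd]
    exact hZ.1
  · intro T T' t β α ht w
    obtain ⟨γ, ⟨h1, h2⟩, h3⟩ := hZ.2.2 T T' t (β ≫ b) α ht (by rw [← Category.assoc, w, Category.assoc])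
    have h4 : γ ≫ m = β ≫ j := by
      refine (hY.2.2 T T' t (β ≫ b) (α ≫ a) ht (by rw [← Category.assoc, w])).unique ⟨?_, ?_⟩ ⟨?_, ?_⟩
      · rw [← Category.assoc, h1, Category.assoc, hm, Category.assoc]
      · rw [Category.assoc, hmd, h2]
      · rw [← Category.assoc, w]
      · rw [Category.assoc, hY.2.1]
    refine ⟨pullback.lift β γ h4.symm, ⟨?_, ?_⟩, ?_⟩
    · apply pullback.hom_ext
      · rw [Category.assoc, Category.assoc, pullback.lift_fst, pullback.lift_fst, w]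
      · rw [Category.assoc, Category.assoc, pullback.lift_snd, pullback.lift_snd, h1]
    · rw [pullback.lift_fst]
    · rintro δ ⟨g1, g2⟩
      apply pullback.hom_ext
      · rw [pullback.lift_fst, g2]
      · rw [pullback.lift_snd]
        apply h3
        refine ⟨?_, ?_⟩
        · rw [← Category.assoc, g1, Category.assoc, pullback.lift_snd]
        · rw [Category.assoc, ← hmd, ← pullback.condition_assoc, hY.2.1, ← Category.assoc, g2]

include hZ hY hm hmd in
/-- Any universal thickening `Z''` of `Z` over `Y`, with its map to `Z'`, is the fibre product `Y ×_{Y'} Z'`. -/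
theorem isPullback_of_univ {Z'' : Scheme.{u}} (i'' : Z ⟶ Z'') (e : Z'' ⟶ Y) (hZ'' : IsUnivThickening a i'' e)
    (n : Z'' ⟶ Z') (hn₁ : i'' ≫ n = i) (hn₂ : n ≫ c = e ≫ b) : IsPullback e n j m := by
  have hP := isUnivThickening_comp a b i c hZ j d hY m hm hmd
  obtain ⟨ε, h1, h2⟩ := isUnivThickening_unique a i'' e _ _ hZ'' hP
  have h3 : ε.hom ≫ pullback.snd j m = n := by
    refine (hZ.2.2 Z Z'' i'' (e ≫ b) (𝟙 Z) hZ''.1 (by
      rw [← Category.assoc, hZ''.2.1, Category.id_comp])).unique ⟨?_, ?_⟩ ⟨?_, ?_⟩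
    · rw [← Category.assoc, h1, pullback.lift_snd, Category.id_comp]
    · rw [Category.assoc, ← hmd, ← pullback.condition_assoc, hY.2.1, ← Category.assoc, h2]
    · rw [hn₁, Category.id_comp]
    · exact hn₂
  refine IsPullback.of_iso_pullback ⟨?_⟩ ε h2 h3
  rw [← h2, ← h3, Category.assoc, Category.assoc, pullback.condition]

end Comp

end K584.Univ
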