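import Groth.Agent.OmegaSh.K584.PullCon
import Groth.Agent.OmegaSh.K584.UnivComp
import Groth.Agent.Divis.IdealComap

/-!
# Conormal maps on sections; the transitivity sequence of conormal sheaves of universal thickenings
-/

set_option autoImplicit false
universe u
open CategoryTheory CategoryTheory.Limits AlgebraicGeometry Opposite TopologicalSpace

namespace K584.ConTrans

open Groth.Agent.PerfA.IdealModule Groth.Agent.VarietyB Groth.Agent.Sga67.Sec
open Groth.Agent.Dual.H366.ConSec Groth.Agent.Dual.H366.Conormal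
open K584.PullCon K584.Univ OmegaSh
open Groth.Agent.UnramB.FirstOrderNbhd (SqZ)

section Basis

variable {X : Scheme.{u}}

theorem exact_of_basis {S : ShortComplex X.Modules} (P : X.Opens → Prop)
    (hP : ∀ (x : X) (U : X.Opens), x ∈ U → ∃ V, V ≤ U ∧ x ∈ V ∧ P V)
    (H : ∀ U, P U → ∀ s : Sec S.X₂ U, appS S.g U s = 0 → ∃ t : Sec S.X₁ U, appS S.f U t = s) : S.Exact := by
  apply exact_of_locally
  intro U s hs x hx
  obtain ⟨V, hV, hxV, hPV⟩ := hP x U hx
  refine ⟨V, hV, hxV, H V hPV (res _ hV s) ?_⟩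
  rw [appS_res, hs, map_zero]

theorem epi_of_basis {M N : X.Modules} (f : M ⟶ N) (P : X.Opens → Prop)
    (hP : ∀ (x : X) (U : X.Opens), x ∈ U → ∃ V, V ≤ U ∧ x ∈ V ∧ P V)
    (H : ∀ U, P U → Function.Surjective (appS f U)) : Epi f := by
  apply epi_of_locally_surjective
  intro U s x hx
  obtain ⟨V, hV, hxV, hPV⟩ := hP x U hx
  exact ⟨V, hV, hxV, H V hPV _⟩

theorem mono_of_basis {M N : X.Modules} (f : M ⟶ N) (P : X.Opens → Prop)
    (hP : ∀ (x : X) (U : X.Opens), x ∈ U → ∃ V, V ≤ U ∧ x ∈ V ∧ P V)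
    (H : ∀ U, P U → Function.Injective (appS f U)) : Mono f := by
  apply mono_of_locally_injective
  intro x U hx
  obtain ⟨V, hV, hxV, hPV⟩ := hP x U hx
  exact ⟨V, hV, hxV, fun s hs => H V hPV (by rw [hs, map_zero])⟩

theorem hom_ext_of_basis {M N : X.Modules} (f g : M ⟶ N) (P : X.Opens → Prop)
    (hP : ∀ (x : X) (U : X.Opens), x ∈ U → ∃ V, V ≤ U ∧ x ∈ V ∧ P V)
    (H : ∀ U, P U → ∀ s, appS f U s = appS g U s) : f = g := by
  apply hom_ext_of_locally
  intro x U hx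
  obtain ⟨V, hV, hxV, hPV⟩ := hP x U hx
  exact ⟨V, hV, hxV, H V hPV⟩

end Basis

section ConMap

variable {Z X Z' X' : Scheme.{u}} {i : Z ⟶ X} {i' : Z' ⟶ X'} {g : X ⟶ X'} {gZ : Z ⟶ Z'}
  [QuasiCompact i] [QuasiCompact i']

/-- A section of the ideal of `i` over `U ≤ g⁻¹ U'` with value `g♯ s'`. -/
theorem exists_valS (w : gZ ≫ i' = i ≫ g) {U' : X'.Opens} {U : X.Opens} (e : U ≤ g ⁻¹ᵁ U')
    (s' : Sec (ClSub.idealMod i'.ker) U') :
    ∃ s : Sec (ClSub.idealMod i.ker) U, valS i U s = g.appLE U' U e (valS i' U' s') := by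
  obtain ⟨s, hs⟩ := (app_eq_zero_iffS i U (g.appLE U' U e (valS i' U' s'))).mp (by
    have h0 : i'.app U' (valS i' U' s') = 0 := (app_eq_zero_iffS i' U' _).mpr ⟨s', rfl⟩
    have h1 : i.app U (g.appLE U' U e (valS i' U' s')) =
        (i ≫ g).appLE U' (i ⁻¹ᵁ U) (i.preimage_mono e) (valS i' U' s') := by
      have := Scheme.Hom.appLE_comp_appLE i g U' U (i ⁻¹ᵁ U) e le_rfl
      rw [← this, Scheme.Hom.app_eq_appLE]
      rfl
    rw [h1]
    have h2 : (i ≫ g).appLE U' (i ⁻¹ᵁ U) (i.preimage_mono e) =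
        (gZ ≫ i').appLE U' (i ⁻¹ᵁ U) (by rw [w]; exact i.preimage_mono e) := by
      congr 1
      exact w.symm
    rw [h2]
    have h3 := Scheme.Hom.comp_appLE gZ i' U' (i ⁻¹ᵁ U) (by rw [w]; exact i.preimage_mono e)
    rw [h3]
    change (gZ.appLE _ _ _) (i'.app U' (valS i' U' s')) = 0
    rw [h0, map_zero])
  exact ⟨s, hs⟩

/-- The conormal map on sections, over smaller opens. -/
theorem appS_conormalMap {φ : (Scheme.Modules.pullback gZ).obj (Omega.conormal i') ⟶ Omega.conormal i}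
    (h : IsConormalMap i i' g gZ φ) {U' : X'.Opens} {U : X.Opens} (e : U ≤ g ⁻¹ᵁ U')
    (s' : Sec (ClSub.idealMod i'.ker) U') (s : Sec (ClSub.idealMod i.ker) U)
    (hs : valS i U s = g.appLE U' U e (valS i' U' s')) (V : Z.Opens) (h₁ : V ≤ gZ ⁻¹ᵁ (i' ⁻¹ᵁ U'))
    (h₂ : V ≤ i ⁻¹ᵁ U) :
    appS φ V (res _ h₁ (secS gZ (Omega.conormal i') (i' ⁻¹ᵁ U') (cS i' U' s'))) =
      res _ h₂ (cS i U s) := by
  obtain ⟨s₀, hs₀⟩ := exists_valS (i := i) h.1 (le_refl (g ⁻¹ᵁ U')) s'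
  have e1 : s = res _ e s₀ := by
    apply valS_injective
    rw [valS_res, hs, hs₀]
    change _ = (X.presheaf.map (homOfLE e).op) (g.appLE U' (g ⁻¹ᵁ U') le_rfl (valS i' U' s'))
    rw [← ConcreteCategory.comp_apply, Scheme.Hom.appLE_map]
  have h3 := h.2 U' s' s₀ (by
    have : g.appLE U' (g ⁻¹ᵁ U') le_rfl = g.app U' := by rw [Scheme.Hom.app_eq_appLE]
    rw [this] at hs₀
    exact hs₀) V h₁ (h₂.trans (i.preimage_mono e))
  have h4 : res _ h₂ (cS i U s) = res _ (h₂.trans (i.preimage_mono e)) (cS i (g ⁻¹ᵁ U') s₀) := by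
    rw [e1]
    have := secS_res i (ClSub.idealMod i.ker) e s₀
    change res _ h₂ (secS i (ClSub.idealMod i.ker) U (res _ e s₀)) = _
    rw [this, res_res]
    rfl
  rw [h4, appS_res]
  have h5 : conormalSect i (g ⁻¹ᵁ U') s₀ = cS i (g ⁻¹ᵁ U') s₀ := (secS_eq i _ s₀).symm
  have h6 : pullSect gZ (Omega.conormal i') (i' ⁻¹ᵁ U') (conormalSect i' U' s') =
      secS gZ (Omega.conormal i') (i' ⁻¹ᵁ U') (cS i' U' s') := by
    have : conormalSect i' U' s' = cS i' U' s' := (secS_eq i' _ s').symm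
    rw [this]
    exact (secS_eq gZ _ _).symm
  rw [h5, h6] at h3
  exact h3

end ConMap

end K584.ConTrans
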