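import Groth.Agent.OmegaSh.K584.UnivSpec

/-!
# Existence of universal first order thickenings: gluing
-/

set_option autoImplicit false
universe u
open CategoryTheory CategoryTheory.Limits AlgebraicGeometry TopologicalSpace

namespace K584.UnivGlue

open K584.Univ K584.UnivOpen OmegaSh

/-- Opens over which a universal thickening exists. -/
def Good {Z X : Scheme.{u}} (h : Z ⟶ X) (V : Z.Opens) : Prop :=
  ∃ (V' : Scheme.{u}) (i : V.toScheme ⟶ V') (h' : V' ⟶ X), IsUnivThickening (V.ι ≫ h) i h'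

theorem Good.mono {Z X : Scheme.{u}} {h : Z ⟶ X} {V W : Z.Opens} (hW : Good h W) (e : V ≤ W) : Good h V := by
  obtain ⟨W', i, h', hu⟩ := hW
  obtain ⟨V', q', k, hq', H⟩ := exists_isPullback hu.1 (Z.homOfLE e)
  have := isUniv_of_isPullback hu H
  rw [← Category.assoc, Scheme.homOfLE_ι] at this
  exact ⟨V', k, _, this⟩

section

variable {Z X : Scheme.{u}} (h : Z ⟶ X)

/-- The poset of good opens. -/
abbrev J : Type u := {V : Z.Opens // Good h V}

/-- The chosen thickening. -/
noncomputable def obj (V : J h) : Scheme.{u} := V.2.choose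

/-- The inclusion. -/
noncomputable def inc (V : J h) : V.1.toScheme ⟶ obj h V := V.2.choose_spec.choose

/-- The structure map. -/
noncomputable def str (V : J h) : obj h V ⟶ X := V.2.choose_spec.choose_spec.choose

theorem univ (V : J h) : IsUnivThickening (V.1.ι ≫ h) (inc h V) (str h V) :=
  V.2.choose_spec.choose_spec.choose_spec

theorem existsUnique_trans {V W : J h} (e : V ≤ W) :
    ∃! t : obj h V ⟶ obj h W, inc h V ≫ t = Z.homOfLE e ≫ inc h W ∧ t ≫ str h W = str h V :=
  (univ h W).2.2 _ _ (inc h V) (str h V) (Z.homOfLE e) (univ h V).1 (by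
    rw [(univ h V).2.1, ← Category.assoc, Scheme.homOfLE_ι])

/-- The transition maps. -/
noncomputable def trans {V W : J h} (e : V ≤ W) : obj h V ⟶ obj h W := (existsUnique_trans h e).choose

theorem inc_trans {V W : J h} (e : V ≤ W) : inc h V ≫ trans h e = Z.homOfLE e ≫ inc h W :=
  (existsUnique_trans h e).choose_spec.1.1

theorem trans_str {V W : J h} (e : V ≤ W) : trans h e ≫ str h W = str h V :=
  (existsUnique_trans h e).choose_spec.1.2

theorem trans_unique {V W : J h} (e : V ≤ W) (t : obj h V ⟶ obj h W)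
    (h1 : inc h V ≫ t = Z.homOfLE e ≫ inc h W) (h2 : t ≫ str h W = str h V) : t = trans h e :=
  (existsUnique_trans h e).choose_spec.2 t ⟨h1, h2⟩

/-- The diagram. -/
noncomputable def F : J h ⥤ Scheme.{u} where
  obj := obj h
  map f := trans h (leOfHom f)
  map_id V := by
    refine (trans_unique h (le_refl V) (𝟙 _) ?_ (Category.id_comp _)).symm
    have : Z.homOfLE (le_refl V) = 𝟙 _ := by
      rw [← cancel_mono V.1.ι, Scheme.homOfLE_ι, Category.id_comp]
    rw [Category.comp_id, this, Category.id_comp]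
  map_comp {U V W} f g := by
    refine (trans_unique h _ _ ?_ ?_).symm
    · rw [← Category.assoc, inc_trans, Category.assoc, inc_trans, ← Category.assoc, Scheme.homOfLE_homOfLE]
    · rw [Category.assoc, trans_str, trans_str]

theorem isPullback_trans {V W : J h} (e : V ≤ W) :
    IsOpenImmersion (trans h e) ∧ IsPullback (inc h V) (Z.homOfLE e) (trans h e) (inc h W) := by
  obtain ⟨V', q', k, hq', H⟩ := exists_isPullback (univ h W).1 (Z.homOfLE e)
  have h1 := isUniv_of_isPullback (univ h W) H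
  rw [← Category.assoc, Scheme.homOfLE_ι] at h1
  obtain ⟨ε, e1, e2⟩ := isUnivThickening_unique _ _ _ _ _ (univ h V) h1
  have h2 : ε.hom ≫ q' = trans h e := by
    apply trans_unique
    · rw [← Category.assoc, e1, H.w]
    · rw [Category.assoc, e2]
  refine ⟨h2 ▸ inferInstance, ?_⟩
  refine IsPullback.of_iso H (Iso.refl _) ε.symm (Iso.refl _) (Iso.refl _) ?_ ?_ ?_ ?_
  · rw [Iso.symm_hom, Iso.refl_hom, Category.id_comp, ← e1, Category.assoc, Iso.hom_inv_id, Category.comp_id]
  · simp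
  · rw [Iso.refl_hom, Category.comp_id, Iso.symm_hom, ← h2, Iso.inv_hom_id_assoc]
  · simp

instance {V W : J h} (f : V ⟶ W) : IsOpenImmersion ((F h).map f) :=
  (isPullback_trans h (leOfHom f)).1

/-- Intersections of good opens. -/
def inf (V W : J h) : J h := ⟨V.1 ⊓ W.1, V.2.mono inf_le_left⟩

theorem inf_left (V W : J h) : inf h V W ≤ V := show V.1 ⊓ W.1 ≤ V.1 from inf_le_left

theorem inf_right (V W : J h) : inf h V W ≤ W := show V.1 ⊓ W.1 ≤ W.1 from inf_le_right

theorem homOfLE_apply {U V : Z.Opens} (e : U ≤ V) (x : U) : (Z.homOfLE e x).1 = x.1 :=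
  Scheme.homOfLE_apply e x

theorem inc_inj (V : J h) : Function.Injective (inc h V) := by
  have := (univ h V).1.1.1
  exact (inc h V).isClosedEmbedding.injective

instance : ((F h) ⋙ Scheme.forget).IsLocallyDirected where
  cond {V W K} fV fW x y hxy := by
    obtain ⟨v, rfl⟩ := (univ h V).1.1.2.surj x
    obtain ⟨w, rfl⟩ := (univ h W).1.1.2.surj y
    have e1 : trans h (leOfHom fV) (inc h V v) = inc h K (Z.homOfLE (leOfHom fV) v) := by
      rw [← Scheme.Hom.comp_apply, inc_trans, Scheme.Hom.comp_apply]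
    have e2 : trans h (leOfHom fW) (inc h W w) = inc h K (Z.homOfLE (leOfHom fW) w) := by
      rw [← Scheme.Hom.comp_apply, inc_trans, Scheme.Hom.comp_apply]
    have e3 : Z.homOfLE (leOfHom fV) v = Z.homOfLE (leOfHom fW) w :=
      inc_inj h K (e1.symm.trans (Eq.trans hxy e2))
    have e4 : v.1 = w.1 := by
      rw [← homOfLE_apply (leOfHom fV) v, e3, homOfLE_apply]
    let u : (inf h V W).1 := ⟨v.1, v.2, e4 ▸ w.2⟩
    refine ⟨inf h V W, homOfLE (inf_left h V W), homOfLE (inf_right h V W), inc h (inf h V W) u, ?_, ?_⟩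
    · change trans h (inf_left h V W) (inc h (inf h V W) u) = inc h V v
      rw [← Scheme.Hom.comp_apply, inc_trans, Scheme.Hom.comp_apply]
      congr 1
      exact Subtype.ext (homOfLE_apply _ u)
    · change trans h (inf_right h V W) (inc h (inf h V W) u) = inc h W w
      rw [← Scheme.Hom.comp_apply, inc_trans, Scheme.Hom.comp_apply]
      congr 1
      exact Subtype.ext ((homOfLE_apply _ u).trans e4)

/-- The glued scheme. -/
noncomputable def glued : Scheme.{u} := colimit (F h)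

/-- The pieces. -/
noncomputable def ι (V : J h) : obj h V ⟶ glued h := colimit.ι (F h) V

instance (V : J h) : IsOpenImmersion (ι h V) :=
  inferInstanceAs (IsOpenImmersion (colimit.ι (F h) V))

theorem trans_ι {V W : J h} (e : V ≤ W) : trans h e ≫ ι h W = ι h V := colimit.w (F h) (homOfLE e)

theorem exists_ι (x : glued h) : ∃ (V : J h) (y : obj h V), ι h V y = x :=
  Scheme.IsLocallyDirected.ι_jointly_surjective (F h) x

theorem ι_eq {V W : J h} {x : obj h V} {y : obj h W} (e : ι h V x = ι h W y) :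
    ∃ (U : J h) (hV : U ≤ V) (hW : U ≤ W) (z : obj h U), trans h hV z = x ∧ trans h hW z = y := by
  obtain ⟨k, fi, fj, z, h1, h2⟩ := (Scheme.IsLocallyDirected.ι_eq_ι_iff (F h)).mp e
  exact ⟨k, leOfHom fi, leOfHom fj, z, h1, h2⟩

/-- The structure map of the glued scheme. -/
noncomputable def gstr : glued h ⟶ X :=
  colimit.desc (F h) {
    pt := X
    ι := {
      app := fun V => str h V
      naturality := fun V W f => by
        change trans h _ ≫ str h W = str h V ≫ 𝟙 X
        rw [trans_str, Category.comp_id] } }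

theorem ι_gstr (V : J h) : ι h V ≫ gstr h = str h V := colimit.ι_desc _ _

instance : FormallyUnramified (gstr h) := by
  have : FormallyUnramified (X := colimit (F h)) (gstr h) := by
    rw [IsZariskiLocalAtSource.iff_of_openCover (P := @FormallyUnramified)
      (Scheme.IsLocallyDirected.openCover (F h))]
    intro V
    change FormallyUnramified (ι h V ≫ gstr h)
    rw [ι_gstr]
    exact K584.UnivAff.formallyUnramified_of_isUnivThickening _ _ _ (univ h V)
  exact this

variable (hJ : ∀ z : Z, ∃ V : J h, z ∈ V.1)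

include hJ in
theorem exists_ginc : ∃ i : Z ⟶ glued h, ∀ V : J h, V.1.ι ≫ i = inc h V ≫ ι h V := by
  let 𝒰 : Z.OpenCover := {
    I₀ := J h
    X V := V.1.toScheme
    f V := V.1.ι
    mem₀ := by
      rw [Scheme.presieve₀_mem_precoverage_iff]
      refine ⟨fun x ↦ ?_, inferInstance⟩
      obtain ⟨V, hV⟩ := hJ x
      exact ⟨V, by simpa using hV⟩ }
  have key : ∀ V W : J h, pullback.fst V.1.ι W.1.ι ≫ inc h V ≫ ι h V =
      pullback.snd V.1.ι W.1.ι ≫ inc h W ≫ ι h W := by
    intro V W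
    have hr : Set.range (pullback.fst V.1.ι W.1.ι ≫ V.1.ι) ⊆ Set.range (inf h V W).1.ι := by
      rintro _ ⟨p, rfl⟩
      rw [Scheme.Opens.range_ι]
      constructor
      · rw [Scheme.Hom.comp_apply]
        exact (pullback.fst V.1.ι W.1.ι p).2
      · rw [pullback.condition, Scheme.Hom.comp_apply]
        exact (pullback.snd V.1.ι W.1.ι p).2
    let l := IsOpenImmersion.lift (inf h V W).1.ι (pullback.fst V.1.ι W.1.ι ≫ V.1.ι) hr
    have hl : l ≫ (inf h V W).1.ι = pullback.fst V.1.ι W.1.ι ≫ V.1.ι := IsOpenImmersion.lift_fac _ _ _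
    have h1 : pullback.fst V.1.ι W.1.ι = l ≫ Z.homOfLE (inf_left h V W) := by
      rw [← cancel_mono V.1.ι, Category.assoc, Scheme.homOfLE_ι, hl]
    have h2 : pullback.snd V.1.ι W.1.ι = l ≫ Z.homOfLE (inf_right h V W) := by
      rw [← cancel_mono W.1.ι, Category.assoc, Scheme.homOfLE_ι, hl, pullback.condition]
    rw [h1, h2, Category.assoc, Category.assoc, ← Category.assoc (Z.homOfLE (inf_left h V W)),
      ← Category.assoc (Z.homOfLE (inf_right h V W)),
      ← inc_trans h (inf_left h V W), ← inc_trans h (inf_right h V W), Category.assoc, Category.assoc,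
      trans_ι, trans_ι]
  refine ⟨𝒰.glueMorphisms (fun V => inc h V ≫ ι h V) key, fun V => ?_⟩
  exact 𝒰.ι_glueMorphisms _ _ V

include hJ in
theorem isPullback_ginc (i : Z ⟶ glued h) (hi : ∀ V : J h, V.1.ι ≫ i = inc h V ≫ ι h V) (V : J h) :
    IsPullback (inc h V) V.1.ι (ι h V) i := by
  refine IsOpenImmersion.isPullback _ _ _ _ (hi V) ?_
  rw [Scheme.Opens.opensRange_ι]
  ext z
  constructor
  · rintro ⟨y, hy⟩
    obtain ⟨W, hW⟩ := hJ z
    have h1 : ι h V y = ι h W (inc h W ⟨z, hW⟩) := by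
      rw [hy, ← Scheme.Hom.comp_apply, ← hi W, Scheme.Hom.comp_apply]
      rfl
    obtain ⟨U, hUV, hUW, u, -, e2⟩ := ι_eq h h1
    obtain ⟨u, rfl⟩ := (univ h U).1.1.2.surj u
    rw [← Scheme.Hom.comp_apply, inc_trans, Scheme.Hom.comp_apply] at e2
    have e3 := inc_inj h W e2
    have e4 : u.1 = z := by
      rw [← homOfLE_apply hUW u, e3]
    rw [← e4]
    exact hUV u.2
  · intro hz
    refine ⟨inc h V ⟨z, hz⟩, ?_⟩
    rw [← Scheme.Hom.comp_apply, ← hi V, Scheme.Hom.comp_apply]
    rfl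

include hJ in
/-- Universal thickenings glue. -/
theorem exists_univ_of_good : ∃ (Z' : Scheme.{u}) (i : Z ⟶ Z') (h' : Z' ⟶ X), IsUnivThickening h i h' := by
  obtain ⟨i, hi⟩ := exists_ginc h hJ
  have hp := isPullback_ginc h hJ i hi
  have hfot : FOT i := by
    refine fot_of_local i fun z' => ?_
    obtain ⟨V, y, hy⟩ := exists_ι h z'
    exact ⟨_, _, inc h V, V.1.ι, ι h V, inferInstance, ⟨y, hy⟩, hp V, (univ h V).1⟩
  have hw : i ≫ gstr h = h := by
    refine Scheme.hom_ext_of_forall _ _ fun z => ?_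
    obtain ⟨V, hV⟩ := hJ z
    refine ⟨V.1, hV, ?_⟩
    rw [← Category.assoc, hi, Category.assoc, ι_gstr, (univ h V).2.1]
  refine ⟨glued h, i, gstr h, hfot, hw, ?_⟩
  intro T T' j b a hj w
  have hj : FOT j := hj
  have hjc : IsClosedImmersion j := hj.closed
  have hjs : Surjective j := hj.surj
  obtain ⟨l, hl1, hl2⟩ := Groth.Agent.Flat2H.FSLift.exists_lift_of_local (gstr h) j hj.nilp (a ≫ i) b (by
    intro t'
    obtain ⟨t, rfl⟩ := hj.surj.surj t'
    obtain ⟨V, hV⟩ := hJ (a t)
    obtain ⟨W, hW⟩ := exists_open hj (a ⁻¹ᵁ V.1)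
    refine ⟨W, ?_, ?_⟩
    · have : t ∈ j ⁻¹ᵁ W := by rw [hW]; exact hV
      exact this
    have hr : Set.range ((j ⁻¹ᵁ W).ι ≫ a) ⊆ Set.range V.1.ι := by
      rintro _ ⟨p, rfl⟩
      rw [Scheme.Opens.range_ι, Scheme.Hom.comp_apply]
      have hp' : (j ⁻¹ᵁ W).ι p ∈ a ⁻¹ᵁ V.1 := by rw [← hW]; exact p.2
      exact hp'
    obtain ⟨l, ⟨h1, h2⟩, -⟩ := (univ h V).2.2 _ _ (j ∣_ W) (W.ι ≫ b)
      (IsOpenImmersion.lift V.1.ι ((j ⁻¹ᵁ W).ι ≫ a) hr) (fot_morphismRestrict hj W) (by
        rw [← Category.assoc, ← Category.assoc, morphismRestrict_ι, IsOpenImmersion.lift_fac, Category.assoc, w,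
          Category.assoc])
    refine ⟨l ≫ ι h V, ?_, ?_⟩
    · rw [← Category.assoc, h1, Category.assoc, ← hi V, ← Category.assoc, IsOpenImmersion.lift_fac, Category.assoc]
    · rw [Category.assoc, ι_gstr, h2])
  refine ⟨l, ⟨hl1, hl2⟩, ?_⟩
  rintro l' ⟨g1, g2⟩
  exact FormallyUnramified.hom_ext j hj.nilp (gstr h) (g1.trans hl1.symm) (g2.trans hl2.symm)

end

/-- Existence of the universal first order thickening of a formally unramified morphism. -/
theorem exists_univ {Z X : Scheme.{u}} (h : Z ⟶ X) [FormallyUnramified h] :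
    ∃ (Z' : Scheme.{u}) (i : Z ⟶ Z') (h' : Z' ⟶ X), IsUnivThickening h i h' := by
  refine exists_univ_of_good h fun z => ?_
  obtain ⟨U, hU, hzU⟩ : ∃ U : X.Opens, IsAffineOpen U ∧ h z ∈ U := by
    obtain ⟨_, ⟨U, hU, rfl⟩, hzU, -⟩ :=
      X.isBasis_affineOpens.exists_subset_of_mem_open (Set.mem_univ (h z)) isOpen_univ
    exact ⟨U, hU, hzU⟩
  obtain ⟨_, ⟨V, hV, rfl⟩, hzV, hVU⟩ :=
    Z.isBasis_affineOpens.exists_subset_of_mem_open (a := z) (u := (h ⁻¹ᵁ U : Z.Opens)) hzU (h ⁻¹ᵁ U).2
  exact ⟨⟨V, K584.UnivSpec.exists_univ_affine h hU hV hVU⟩, hzV⟩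

end K584.UnivGlue
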