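import Groth.Agent.Dual.H366.ConSec
import Groth.Prelude.Def_Omega3
import Groth.Agent.UnramB.FirstOrderNbhd

/-!
# Sections of pull-backs and of conormal sheaves over affine opens

* `secS_nat`, `secS_id_bijective`: naturality of pulled back sections, pull-back along the identity;
* `span_ps`, `ps_eq_zero`: sections of a pull-back over affine opens;
* `cS_surjective`, `cS_injective`: over an affine open, the conormal sheaf of a closed immersion is the ideal modulo
  its square; for a square-zero thickening it is the ideal.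
-/

set_option autoImplicit false
universe u
open CategoryTheory CategoryTheory.Limits AlgebraicGeometry Opposite TopologicalSpace

namespace K584.PullCon

open scoped TensorProduct

open Groth.Agent.PerfA.IdealModule Groth.Agent.VarietyB Groth.Agent.Sga67.Sec
open Groth.Agent.Dual.H366.ConSec Groth.Agent.Dual.H366.Conormal

section Pull

variable {X W : Scheme.{u}} (s : X ⟶ W)

/-- Naturality of pulled back sections. -/
theorem secS_nat {M N : W.Modules} (f : M ⟶ N) (V : W.Opens) (x : Sec M V) :
    secS s N V (appS f V x) = appS ((Scheme.Modules.pullback s).map f) (s ⁻¹ᵁ V) (secS s M V x) := by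
  have h1 := (Scheme.Modules.pullbackPushforwardAdjunction s).unit.naturality f
  have h2 := congr(appS $h1 V x)
  simp only [appS_comp] at h2
  have h3 : ∀ (K : W.Modules) (y : Sec K V), secS s K V y =
      appS ((Scheme.Modules.pullbackPushforwardAdjunction s).unit.app K) V y := by
    intro K y
    exact res_self ((Scheme.Modules.pullback s).obj K) (le_refl (s ⁻¹ᵁ V)) _
  rw [h3, h3]
  exact h2

theorem secS_eq {K : W.Modules} (V : W.Opens) (y : Sec K V) : secS s K V y =
      appS ((Scheme.Modules.pullbackPushforwardAdjunction s).unit.app K) V y :=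
  res_self ((Scheme.Modules.pullback s).obj K) (le_refl (s ⁻¹ᵁ V)) _

theorem pullSect_eq_secS (M : W.Modules) (V : W.Opens) (x : Sec M V) :
    OmegaSh.pullSect s M V x = secS s M V x := (secS_eq s V x).symm

/-- Pull-back along the identity is bijective on sections. -/
theorem secS_id_bijective {X : Scheme.{u}} (M : X.Modules) (V : X.Opens) :
    Function.Bijective (secS (𝟙 X) M V) := by
  have h : IsIso ((Scheme.Modules.pullbackPushforwardAdjunction (𝟙 X)).unit.app M) := by
    have : (Scheme.Modules.pushforward (𝟙 X)).IsEquivalence := by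
      exact Functor.isEquivalence_of_iso (Scheme.Modules.pushforwardId X).symm
    infer_instance
  have h2 : Function.Bijective (appS ((Scheme.Modules.pullbackPushforwardAdjunction (𝟙 X)).unit.app M) V) := by
    let e := asIso ((Scheme.Modules.pullbackPushforwardAdjunction (𝟙 X)).unit.app M)
    exact ⟨Function.LeftInverse.injective (g := appS e.inv V) (fun x => appS_hom_inv e V x),
      Function.RightInverse.surjective (g := appS e.inv V) (fun x => appS_inv_hom e V x)⟩
  have h3 : (secS (𝟙 X) M V : Sec M V → _) =
      appS ((Scheme.Modules.pullbackPushforwardAdjunction (𝟙 X)).unit.app M) V := by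
    funext x
    exact secS_eq _ V x
  rw [h3]
  exact h2

/-- Pull-back of sections along the identity. -/
noncomputable def idS {X : Scheme.{u}} (M : X.Modules) (V : X.Opens) :
    Sec M V →ₗ[Γ(X, V)] Sec ((Scheme.Modules.pullback (𝟙 X)).obj M) V where
  toFun := secS (𝟙 X) M V
  map_add' := map_add (secS (𝟙 X) M V)
  map_smul' a x := by
    have h := secS_smul (𝟙 X) M V a x
    rw [Scheme.Hom.id_app] at h
    exact h

theorem idS_apply {X : Scheme.{u}} (M : X.Modules) (V : X.Opens) (x : Sec M V) :
    idS M V x = secS (𝟙 X) M V x := rfl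

theorem idS_bijective {X : Scheme.{u}} (M : X.Modules) (V : X.Opens) : Function.Bijective (idS M V) :=
  secS_id_bijective M V

theorem idS_nat {X : Scheme.{u}} {M N : X.Modules} (f : M ⟶ N) (V : X.Opens) (x : Sec M V) :
    idS N V (appS f V x) = appS ((Scheme.Modules.pullback (𝟙 X)).map f) V (idS M V x) :=
  secS_nat (𝟙 X) f V x

theorem idS_res {X : Scheme.{u}} (M : X.Modules) {V V' : X.Opens} (h : V' ≤ V) (x : Sec M V) :
    idS M V' (res M h x) = res _ h (idS M V x) := secS_res (𝟙 X) M h x

end Pull

section Affine

variable {Z X : Scheme.{u}} (i : Z ⟶ X) [IsClosedImmersion i]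

/-- Pull-back along a closed immersion is surjective on sections over affine opens. -/
theorem secS_surjective (M : X.Modules) (hM : Coh.IsQCoh M) {V : X.Opens} (hV : IsAffineOpen V) :
    Function.Surjective (secS i M V) := by
  intro y
  have hU := hV.preimage i
  have h := span_secS i M hM hV hU (fun x : Sec M V => x) (by
    rw [eq_top_iff]
    rintro x -
    exact Submodule.subset_span ⟨x, rfl⟩)
  have hy : y ∈ Submodule.span Γ(Z, i ⁻¹ᵁ V) (Set.range (fun x : Sec M V => secS i M V x)) := by
    rw [h]; trivial
  induction hy using Submodule.span_induction with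
  | mem z hz => exact hz
  | zero => exact ⟨0, map_zero _⟩
  | add a b _ _ ha hb =>
    obtain ⟨a, rfl⟩ := ha
    obtain ⟨b, rfl⟩ := hb
    exact ⟨a + b, map_add _ _ _⟩
  | smul a b _ hb =>
    obtain ⟨b, rfl⟩ := hb
    obtain ⟨a, rfl⟩ := i.app_surjective V hV a
    exact ⟨a • b, secS_smul i M V a b⟩

omit [IsClosedImmersion i] in
theorem _root_.K584.PullCon.mem_smul_top_of_isBaseChange {A B M N : Type*} [CommRing A] [CommRing B] [Algebra A B]
    (hs : Function.Surjective (algebraMap A B)) [AddCommGroup M] [Module A M] [AddCommGroup N] [Module A N]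
    [Module B N] [IsScalarTower A B N] (f : M →ₗ[A] N) (hf : IsBaseChange B f) (x : M) (hx : f x = 0) :
    x ∈ (RingHom.ker (algebraMap A B)) • (⊤ : Submodule A M) := by
  let e : TensorProduct A B M ≃ₗ[B] N := hf.equiv
  have h1 : (1 : B) ⊗ₜ[A] x = 0 := by
    apply e.injective
    rw [map_zero, ← hx]
    simp [e]
  let ι : RingHom.ker (algebraMap A B) →ₗ[A] A := Submodule.subtype _
  have hex : Function.Exact ι (Algebra.linearMap A B) := by
    intro a
    constructor
    · intro h
      exact ⟨⟨a, h⟩, rfl⟩
    · rintro ⟨b, rfl⟩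
      exact b.2
  have h2 := rTensor_exact M hex hs
  have h3 : (LinearMap.rTensor M (Algebra.linearMap A B)) ((1 : A) ⊗ₜ[A] x) = 0 := by
    rw [LinearMap.rTensor_tmul, Algebra.linearMap_apply, map_one, h1]
  obtain ⟨y, hy⟩ := (h2 _).mp h3
  have h4 : x = TensorProduct.lid A M (LinearMap.rTensor M ι y) := by
    rw [hy, TensorProduct.lid_tmul, one_smul]
  rw [h4]
  clear h4 hy
  induction y using TensorProduct.induction_on with
  | zero => rw [map_zero, map_zero]; exact Submodule.zero_mem _
  | tmul a m =>
    rw [LinearMap.rTensor_tmul, TensorProduct.lid_tmul]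
    exact Submodule.smul_mem_smul a.2 trivial
  | add a b ha hb => rw [map_add, map_add]; exact Submodule.add_mem _ ha hb

theorem mem_smul_of_secS_eq_zero (M : X.Modules) (hM : Coh.IsQCoh M) {V : X.Opens} (hV : IsAffineOpen V)
    (x : Sec M V) (hx : secS i M V x = 0) :
    x ∈ RingHom.ker (i.app V).hom • (⊤ : Submodule Γ(X, V) (Sec M V)) := by
  let := algS i V
  let := modS i ((Scheme.Modules.pullback i).obj M) V
  have := tower i ((Scheme.Modules.pullback i).obj M) V
  have h := isBaseChange_secS i M hM hV (hV.preimage i)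
  have h2 := mem_smul_top_of_isBaseChange (A := Γ(X, V)) (B := Γ(Z, i ⁻¹ᵁ V)) (by
    intro b
    obtain ⟨a, rfl⟩ := i.app_surjective V hV b
    refine ⟨a, ?_⟩
    change i.appLE V (i ⁻¹ᵁ V) le_rfl a = _
    rw [Scheme.Hom.app_eq_appLE]) _ h x hx
  have h3 : RingHom.ker (algebraMap Γ(X, V) Γ(Z, i ⁻¹ᵁ V)) = RingHom.ker (i.app V).hom := by
    ext a
    change i.appLE V (i ⁻¹ᵁ V) le_rfl a = 0 ↔ i.app V a = 0
    rw [Scheme.Hom.app_eq_appLE]
  rw [h3] at h2
  exact h2

/-- Over an affine open, the sections of the conormal sheaf of a closed immersion are the classes of sections of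
the ideal. -/
theorem cS_surjective {V : X.Opens} (hV : IsAffineOpen V) : Function.Surjective (cS i V) :=
  secS_surjective i (ClSub.idealMod i.ker) (isQCoh_idealMod _) hV

/-- The kernel of `I → I/I²`. -/
theorem val_mem_of_cS_eq_zero {V : X.Opens} (hV : IsAffineOpen V) (x : Sec (ClSub.idealMod i.ker) V)
    (hx : cS i V x = 0) : valS i V x ∈ RingHom.ker (i.app V).hom ^ 2 := by
  have h := mem_smul_of_secS_eq_zero i (ClSub.idealMod i.ker) (isQCoh_idealMod _) hV x hx
  have h2 : ∀ y : Sec (ClSub.idealMod i.ker) V, valS i V y ∈ RingHom.ker (i.app V).hom := fun y =>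
    (app_eq_zero_iffS i V _).mpr ⟨y, rfl⟩
  rw [sq]
  clear hx
  induction h using Submodule.smul_induction_on' with
  | smul a ha n _ =>
    rw [map_smul]
    exact Ideal.mul_mem_mul ha (h2 n)
  | add a _ b _ ha hb =>
    rw [map_add]
    exact Ideal.add_mem _ ha hb

/-- For a square-zero closed immersion the conormal sheaf is the ideal. -/
theorem cS_injective (hi : Groth.Agent.UnramB.FirstOrderNbhd.SqZ i) {V : X.Opens} (hV : IsAffineOpen V) :
    Function.Injective (cS i V) := by
  rw [injective_iff_map_eq_zero]
  intro x hx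
  have h := val_mem_of_cS_eq_zero i hV x hx
  apply valS_injective
  rw [map_zero]
  have h2 : RingHom.ker (i.app V).hom ^ 2 = ⊥ := by
    rw [sq, eq_bot_iff, Ideal.mul_le]
    intro a ha b hb
    exact hi V a b ha hb
  rw [h2] at h
  exact h

end Affine

end K584.PullCon
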