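import Groth.Agent.OmegaSh.K584.UnivRing
import Mathlib.Algebra.TrivSqZeroExt.Basic
import Mathlib.RingTheory.Ideal.Quotient.Operations

/-!
# Ring-level universal first order thickenings: differentials

* `exists_lift`, `eq_of_lift`: the universal property in convenient form;
* `formallyUnramified`: `A → B'` is formally unramified;
* `exists_der`: derivations of `A` into `B`-modules extend to `B'`;
* `bijective_baseChange`: `B ⊗ (B' ⊗ Ω_A) → B ⊗ Ω_{B'}` is bijective.
-/

set_option autoImplicit false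
universe u v
open scoped TensorProduct

namespace K584.UnivRing

open KaehlerDifferential OmegaSh

section UP

variable {R S S' : Type u} [CommRing R] [CommRing S] [CommRing S'] [Algebra R S] [Algebra R S']
  {π : S' →ₐ[R] S} (hu : IsUnivThickeningRing R S S' π)

include hu

theorem exists_lift {A : Type u} [CommRing A] [Algebra R A] (I : Ideal A) (hI : I ^ 2 = ⊥)
    (g : S' →ₐ[R] A ⧸ I) (hg : ∀ x, π x = 0 → g x = 0) :
    ∃ φ : S' →ₐ[R] A, ∀ x, Ideal.Quotient.mk I (φ x) = g x := by
  let e : (S' ⧸ RingHom.ker π) ≃ₐ[R] S := Ideal.quotientKerAlgEquivOfSurjective hu.1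
  let a : S →ₐ[R] A ⧸ I := (Ideal.Quotient.liftₐ (RingHom.ker π) g (fun x hx => hg x hx)).comp e.symm.toAlgHom
  obtain ⟨φ, h1, -⟩ := hu.2.2 A I hI a
  refine ⟨φ, fun x => ?_⟩
  have h2 := DFunLike.congr_fun h1 x
  change Ideal.Quotient.mk I (φ x) = Ideal.Quotient.liftₐ (RingHom.ker π) g (fun x hx => hg x hx) (e.symm (π x)) at h2
  rw [h2]
  have h3 : e.symm (π x) = Ideal.Quotient.mk _ x := by
    rw [AlgEquiv.symm_apply_eq]
    rfl
  rw [h3]
  rfl

theorem eq_of_lift {A : Type u} [CommRing A] [Algebra R A] (I : Ideal A) (hI : I ^ 2 = ⊥)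
    (φ₁ φ₂ : S' →ₐ[R] A) (hk : ∀ x, π x = 0 → φ₁ x ∈ I) (h : ∀ x, φ₁ x - φ₂ x ∈ I) : φ₁ = φ₂ := by
  let e : (S' ⧸ RingHom.ker π) ≃ₐ[R] S := Ideal.quotientKerAlgEquivOfSurjective hu.1
  let g : S' →ₐ[R] A ⧸ I := (Ideal.Quotient.mkₐ R I).comp φ₁
  have hg : ∀ x, π x = 0 → g x = 0 := fun x hx => Ideal.Quotient.eq_zero_iff_mem.mpr (hk x hx)
  let a : S →ₐ[R] A ⧸ I := (Ideal.Quotient.liftₐ (RingHom.ker π) g (fun x hx => hg x hx)).comp e.symm.toAlgHom
  have ha : ∀ x, a (π x) = Ideal.Quotient.mk I (φ₁ x) := by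
    intro x
    change Ideal.Quotient.liftₐ (RingHom.ker π) g (fun x hx => hg x hx) (e.symm (π x)) = _
    have h3 : e.symm (π x) = Ideal.Quotient.mk _ x := by
      rw [AlgEquiv.symm_apply_eq]
      rfl
    rw [h3]
    rfl
  obtain ⟨φ, h1, h2⟩ := hu.2.2 A I hI a
  rw [h2 φ₁ (AlgHom.ext fun x => (ha x).symm), h2 φ₂ (AlgHom.ext fun x => by
    change Ideal.Quotient.mk I (φ₂ x) = a (π x)
    rw [ha, Ideal.Quotient.mk_eq_mk_iff_sub_mem, ← neg_sub]
    exact I.neg_mem (h x))]

theorem ker_mul {x y : S'} (hx : π x = 0) (hy : π y = 0) : x * y = 0 := by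
  have := Ideal.mul_mem_mul (I := RingHom.ker π.toRingHom) (J := RingHom.ker π.toRingHom) hx hy
  rw [← sq, hu.2.1] at this
  exact this

/-- An endomorphism over `S` is the identity. -/
theorem eq_id (φ : S' →ₐ[R] S') (h : ∀ x, π (φ x) = π x) : φ = AlgHom.id R S' := by
  refine (eq_of_lift hu (RingHom.ker π.toRingHom) hu.2.1 (AlgHom.id R S') φ (fun x hx => hx) fun x => ?_).symm
  change π (x - φ x) = 0
  rw [map_sub, h, sub_self]

/-- The universal thickening of a ring map is formally unramified. -/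
theorem formallyUnramified : Algebra.FormallyUnramified R S' := by
  rw [Algebra.FormallyUnramified.iff_comp_injective]
  intro C _ _ I hI f₁ f₂ h
  -- one step
  have step : ∀ (I : Ideal C), I ^ 2 = ⊥ → (∀ x, f₁ x - f₂ x ∈ I) →
      ∀ x, f₁ x - f₂ x ∈ I * (RingHom.ker π.toRingHom).map f₁.toRingHom := by
    intro I hI h x
    let L := (RingHom.ker π.toRingHom).map f₁.toRingHom
    have hL2 : L ^ 2 = ⊥ := by
      change ((RingHom.ker π.toRingHom).map f₁.toRingHom) ^ 2 = ⊥
      rw [← Ideal.map_pow, hu.2.1, Ideal.map_bot]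
    let K := I * L
    let q : C →ₐ[R] C ⧸ K := Ideal.Quotient.mkₐ R K
    let I₁ : Ideal (C ⧸ K) := (I ⊔ L).map q.toRingHom
    have hI₁ : I₁ ^ 2 = ⊥ := by
      change ((I ⊔ L).map q.toRingHom) ^ 2 = ⊥
      rw [← Ideal.map_pow, eq_bot_iff, Ideal.map_le_iff_le_comap]
      have h1 : (I ⊔ L) ^ 2 ≤ K := by
        rw [sq, Ideal.sup_mul, Ideal.mul_sup, Ideal.mul_sup, ← sq, ← sq, hI, hL2, mul_comm L I]
        simp [K]
      intro z hz
      exact Ideal.Quotient.eq_zero_iff_mem.mpr (h1 hz)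
    have h2 : q.comp f₁ = q.comp f₂ := by
      refine eq_of_lift hu I₁ hI₁ _ _ ?_ ?_
      · intro y hy
        exact Ideal.mem_map_of_mem _ (Ideal.mem_sup_right (Ideal.mem_map_of_mem f₁.toRingHom hy))
      · intro y
        have : q.comp f₁ y - q.comp f₂ y = q (f₁ y - f₂ y) := (map_sub q _ _).symm
        rw [this]
        exact Ideal.mem_map_of_mem _ (Ideal.mem_sup_left (h y))
    have h3 := DFunLike.congr_fun h2 x
    exact (Ideal.Quotient.mk_eq_mk_iff_sub_mem _ _).mp h3
  have h0 : ∀ x, f₁ x - f₂ x ∈ I := fun x => by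
    have := DFunLike.congr_fun h x
    exact (Ideal.Quotient.mk_eq_mk_iff_sub_mem _ _).mp this
  have h1 := step I hI h0
  have h2 := step (I * (RingHom.ker π.toRingHom).map f₁.toRingHom) (by
    rw [mul_pow, hI, Ideal.bot_mul]) h1
  ext x
  have h3 := h2 x
  rw [mul_assoc, ← sq, ← Ideal.map_pow, hu.2.1, Ideal.map_bot, Ideal.mul_bot] at h3
  exact sub_eq_zero.mp h3

end UP

section Der

variable {A B B' : Type u} [CommRing A] [CommRing B] [CommRing B'] [Algebra A B] [Algebra A B']
  {π : B' →ₐ[A] B} (hu : IsUnivThickeningRing A B B' π)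

include hu in
/-- Derivations of `A` with values in a module killed by the kernel of `π` extend to `B'`. -/
theorem exists_der {N : Type u} [AddCommGroup N] [Module B' N] (hN : ∀ x, π x = 0 → ∀ n : N, x • n = 0)
    (D : A →+ N) (hD : ∀ a b, D (a * b) = algebraMap A B' a • D b + algebraMap A B' b • D a) :
    ∃ D' : B' →+ N, (∀ a b, D' (a * b) = a • D' b + b • D' a) ∧ ∀ a, D' (algebraMap A B' a) = D a := by
  let _ : Module B'ᵐᵒᵖ N := Module.compHom N ((RingHom.id B').fromOpposite fun _ _ => mul_comm _ _)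
  have : IsCentralScalar B' N := ⟨fun r m => rfl⟩
  have hD1 : D 1 = 0 := by
    have := hD 1 1
    rw [mul_one, (algebraMap A B').map_one, one_smul] at this
    simpa using this
  let σ : A →+* TrivSqZeroExt B' N :=
    { toFun := fun a => TrivSqZeroExt.inl (algebraMap A B' a) + TrivSqZeroExt.inr (D a)
      map_one' := by rw [map_one, hD1, TrivSqZeroExt.inr_zero, add_zero, TrivSqZeroExt.inl_one]
      map_zero' := by rw [map_zero, map_zero, TrivSqZeroExt.inr_zero, add_zero, TrivSqZeroExt.inl_zero]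
      map_mul' := fun a b => by
        ext
        · simp
        · simp [hD, add_comm]
      map_add' := fun a b => by
        ext
        · simp
        · simp }
  let _ : Algebra A (TrivSqZeroExt B' N) := σ.toAlgebra
  let I : Ideal (TrivSqZeroExt B' N) := (RingHom.ker π.toRingHom).comap (TrivSqZeroExt.fstHom B' B' N).toRingHom
  have hI : I ^ 2 = ⊥ := by
    rw [eq_bot_iff, sq, Ideal.mul_le]
    intro x hx y hy
    have hx' : π x.fst = 0 := hx
    have hy' : π y.fst = 0 := hy
    rw [Submodule.mem_bot]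
    ext
    · rw [TrivSqZeroExt.fst_mul, ker_mul hu hx' hy']
      rfl
    · rw [TrivSqZeroExt.snd_mul, hN _ hx']
      have : MulOpposite.op y.fst • x.snd = y.fst • x.snd := rfl
      rw [this, hN _ hy', add_zero]
      rfl
  let g : B' →ₐ[A] TrivSqZeroExt B' N ⧸ I :=
    { toRingHom := (Ideal.Quotient.mk I).comp (TrivSqZeroExt.inlHom B' N)
      commutes' := fun a => by
        change Ideal.Quotient.mk I (TrivSqZeroExt.inl (algebraMap A B' a)) =
          Ideal.Quotient.mk I (TrivSqZeroExt.inl (algebraMap A B' a) + TrivSqZeroExt.inr (D a))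
        rw [eq_comm, Ideal.Quotient.mk_eq_mk_iff_sub_mem, add_sub_cancel_left]
        change π (TrivSqZeroExt.inr (D a) : TrivSqZeroExt B' N).fst = 0
        rw [TrivSqZeroExt.fst_inr, map_zero] }
  obtain ⟨φ, hφ⟩ := exists_lift hu I hI g (by
    intro x hx
    change Ideal.Quotient.mk I (TrivSqZeroExt.inl x) = 0
    rw [Ideal.Quotient.eq_zero_iff_mem]
    exact hx)
  let ψ : B' →ₐ[A] B' :=
    { toRingHom := (TrivSqZeroExt.fstHom B' B' N).toRingHom.comp φ.toRingHom
      commutes' := fun a => by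
        change (φ (algebraMap A B' a)).fst = _
        rw [AlgHom.commutes]
        change (TrivSqZeroExt.inl (algebraMap A B' a) + TrivSqZeroExt.inr (D a) : TrivSqZeroExt B' N).fst = _
        rw [TrivSqZeroExt.fst_add, TrivSqZeroExt.fst_inl, TrivSqZeroExt.fst_inr, add_zero] }
  have hψ : ψ = AlgHom.id A B' := by
    apply eq_id hu
    intro x
    have h1 := hφ x
    change Ideal.Quotient.mk I (φ x) = Ideal.Quotient.mk I (TrivSqZeroExt.inl x) at h1
    rw [Ideal.Quotient.mk_eq_mk_iff_sub_mem] at h1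
    have h2 : π (φ x - TrivSqZeroExt.inl x : TrivSqZeroExt B' N).fst = 0 := h1
    rw [TrivSqZeroExt.fst_sub, TrivSqZeroExt.fst_inl, map_sub, sub_eq_zero] at h2
    exact h2
  have hfst : ∀ x, (φ x).fst = x := fun x => DFunLike.congr_fun hψ x
  refine ⟨{ toFun := fun x => (φ x).snd
            map_zero' := by rw [map_zero]; rfl
            map_add' := fun a b => by rw [map_add]; rfl }, fun a b => ?_, fun a => ?_⟩
  · change (φ (a * b)).snd = a • (φ b).snd + b • (φ a).snd
    rw [map_mul, TrivSqZeroExt.snd_mul, hfst, hfst]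
    rfl
  · change (φ (algebraMap A B' a)).snd = D a
    rw [AlgHom.commutes]
    change (TrivSqZeroExt.inl (algebraMap A B' a) + TrivSqZeroExt.inr (D a) : TrivSqZeroExt B' N).snd = _
    rw [TrivSqZeroExt.snd_add, TrivSqZeroExt.snd_inl, TrivSqZeroExt.snd_inr, zero_add]

end Der

end K584.UnivRing
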