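import Groth.Agent.OmegaSh.K584.Univ
import Groth.Agent.OmegaSh.K584.UnivRing2

/-!
# Universal first order thickenings on affine opens: the ring-level universal property
-/

set_option autoImplicit false
universe u
open CategoryTheory CategoryTheory.Limits AlgebraicGeometry TopologicalSpace

namespace K584.UnivAff

open K584.Univ OmegaSh

/-- Spectra of square zero quotients are first order thickenings. -/
theorem fot_SpecMap {R S : CommRingCat.{u}} (φ : R ⟶ S) (hφ : Function.Surjective φ.hom)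
    (h : RingHom.ker φ.hom ^ 2 = ⊥) : FOT (Spec.map φ) :=
  ⟨⟨IsClosedImmersion.spec_of_surjective φ hφ,
    Groth.Agent.UnramB.FirstOrderNbhd.surjective_SpecMap_of_ker_sq φ hφ h⟩,
    by rw [← sq]; exact Groth.Agent.UnramB.FirstOrderNbhd.ker_sq_SpecMap φ h⟩

theorem isAffineOpen_preimage {Z Z' : Scheme.{u}} {i : Z ⟶ Z'} (hi : FOT i) {V' : Z'.Opens}
    (hV' : IsAffineOpen V') : IsAffineOpen (i ⁻¹ᵁ V') := by
  have := hi.closed
  exact hV'.preimage i

/-- The universal property of a universal thickening on affine opens, for ring maps. -/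
theorem existsUnique_lift {Z Z' X : Scheme.{u}} {h : Z ⟶ X} {i : Z ⟶ Z'} {h' : Z' ⟶ X}
    (hu : IsUnivThickening h i h') {U : X.Opens} (hU : IsAffineOpen U) {V' : Z'.Opens} (hV' : IsAffineOpen V')
    (e : V' ≤ h' ⁻¹ᵁ U) (A : CommRingCat.{u}) (I : Ideal A) (hI : I ^ 2 = ⊥) (β : Γ(X, U) ⟶ A)
    (a : Γ(Z, i ⁻¹ᵁ V') ⟶ CommRingCat.of (A ⧸ I))
    (w : β ≫ CommRingCat.ofHom (Ideal.Quotient.mk I) = h'.appLE U V' e ≫ i.app V' ≫ a) :
    ∃! φ : Γ(Z', V') ⟶ A, φ ≫ CommRingCat.ofHom (Ideal.Quotient.mk I) = i.app V' ≫ a ∧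
      h'.appLE U V' e ≫ φ = β := by
  have hV := isAffineOpen_preimage hu.1 hV'
  let j : Spec (CommRingCat.of (A ⧸ I)) ⟶ Spec A := Spec.map (CommRingCat.ofHom (Ideal.Quotient.mk I))
  have hj : FOT j := fot_SpecMap _ Ideal.Quotient.mk_surjective (by
    rw [CommRingCat.hom_ofHom, Ideal.mk_ker]; exact hI)
  have s1 : Spec.map (i.app V') ≫ hV'.fromSpec = hV.fromSpec ≫ i := by
    rw [← IsAffineOpen.SpecMap_appLE_fromSpec i hV' hV le_rfl, Scheme.Hom.app_eq_appLE]
  have s2 : Spec.map (h'.appLE U V' e) ≫ hU.fromSpec = hV'.fromSpec ≫ h' :=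
    IsAffineOpen.SpecMap_appLE_fromSpec h' hU hV' e
  obtain ⟨γ, ⟨g1, g2⟩, g3⟩ := hu.2.2 _ _ j (Spec.map β ≫ hU.fromSpec) (Spec.map a ≫ hV.fromSpec) hj (by
    rw [← hu.2.1, Category.assoc, ← reassoc_of% s1, ← s2, ← Category.assoc, ← Spec.map_comp, w,
      Spec.map_comp, Spec.map_comp, Category.assoc, Category.assoc])
  have hr : Set.range γ ⊆ Set.range hV'.fromSpec := by
    rintro _ ⟨t, rfl⟩
    obtain ⟨s, rfl⟩ := hj.surj.surj t
    rw [← Scheme.Hom.comp_apply, g1, Category.assoc, ← s1, ← Category.assoc]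
    exact ⟨_, (Scheme.Hom.comp_apply _ _ _).symm⟩
  let ℓ := IsOpenImmersion.lift hV'.fromSpec γ hr
  have hℓ : ℓ ≫ hV'.fromSpec = γ := IsOpenImmersion.lift_fac _ _ _
  obtain ⟨φ, hφ⟩ := Spec.homEquiv.symm.surjective ℓ
  have hφ' : Spec.map φ = ℓ := hφ
  refine ⟨φ, ⟨?_, ?_⟩, ?_⟩
  · apply Spec.map_injective
    rw [← cancel_mono hV'.fromSpec, Spec.map_comp, Spec.map_comp, Category.assoc, Category.assoc, hφ', hℓ, s1]
    exact g1.trans (Category.assoc _ _ _)
  · apply Spec.map_injective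
    rw [← cancel_mono hU.fromSpec, Spec.map_comp, Category.assoc, s2, hφ', ← Category.assoc, hℓ, g2]
  · rintro ψ ⟨p1, p2⟩
    apply Spec.map_injective
    rw [← cancel_mono hV'.fromSpec, hφ', hℓ]
    refine g3 _ ⟨?_, ?_⟩
    · have := congrArg (fun k => Spec.map k ≫ hV'.fromSpec) p1
      simp only [Spec.map_comp, Category.assoc] at this
      rw [s1] at this
      exact this.trans (Category.assoc _ _ _).symm
    · rw [Category.assoc, ← s2, ← Category.assoc, ← Spec.map_comp, p2]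

theorem app_surjective {Z Z' : Scheme.{u}} {i : Z ⟶ Z'} (hi : FOT i) {V' : Z'.Opens}
    (hV' : IsAffineOpen V') : Function.Surjective (i.app V').hom := by
  have := hi.closed
  exact i.app_surjective V' hV'

theorem ker_sq {Z Z' : Scheme.{u}} {i : Z ⟶ Z'} (hi : FOT i) (V' : Z'.Opens) :
    RingHom.ker (i.app V').hom ^ 2 = ⊥ := by
  rw [eq_bot_iff, sq, Ideal.mul_le]
  intro x hx y hy
  exact hi.sqZ V' x y hx hy

/-- On affine opens a universal thickening is a ring-level universal thickening. -/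
theorem isUnivThickeningRing {Z Z' X : Scheme.{u}} {h : Z ⟶ X} {i : Z ⟶ Z'} {h' : Z' ⟶ X}
    (hu : IsUnivThickening h i h') {U : X.Opens} (hU : IsAffineOpen U) {V' : Z'.Opens} (hV' : IsAffineOpen V')
    (e : V' ≤ h' ⁻¹ᵁ U) [Algebra Γ(X, U) Γ(Z', V')] [Algebra Γ(X, U) Γ(Z, i ⁻¹ᵁ V')]
    (e1 : algebraMap Γ(X, U) Γ(Z', V') = (h'.appLE U V' e).hom)
    (π : Γ(Z', V') →ₐ[Γ(X, U)] Γ(Z, i ⁻¹ᵁ V')) (hπ : π.toRingHom = (i.app V').hom) :
    IsUnivThickeningRing Γ(X, U) Γ(Z, i ⁻¹ᵁ V') Γ(Z', V') π := by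
  refine ⟨?_, ?_, ?_⟩
  · have h1 := app_surjective hu.1 hV'
    rw [← hπ] at h1
    exact h1
  · rw [hπ]
    exact ker_sq hu.1 V'
  · intro A _ _ I hI a
    obtain ⟨φ, ⟨h1, h2⟩, h3⟩ := existsUnique_lift hu hU hV' e (CommRingCat.of A) I hI
      (CommRingCat.ofHom (algebraMap Γ(X, U) A)) (CommRingCat.ofHom a.toRingHom) (by
        ext x
        change algebraMap _ (A ⧸ I) x = a (i.app V' (h'.appLE U V' e x))
        have h4 : i.app V' (h'.appLE U V' e x) = algebraMap _ _ x := by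
          have h5 : h'.appLE U V' e x = algebraMap Γ(X, U) Γ(Z', V') x := by rw [e1]
          rw [h5]
          have h6 := RingHom.congr_fun hπ (algebraMap Γ(X, U) Γ(Z', V') x)
          exact h6.symm.trans (π.commutes x)
        rw [h4, a.commutes])
    refine ⟨{ toRingHom := φ.hom, commutes' := fun r => ?_ }, ?_, ?_⟩
    · have h4 := ConcreteCategory.congr_hom h2 r
      change φ (algebraMap Γ(X, U) Γ(Z', V') r) = _
      rw [e1]
      exact h4
    · ext x
      have h4 := ConcreteCategory.congr_hom h1 x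
      have h5 := RingHom.congr_fun hπ x
      change Ideal.Quotient.mk I (φ x) = a (π x)
      have h6 : π x = i.app V' x := h5
      rw [h6]
      exact h4
    · intro ψ hψ
      have h4 := h3 (CommRingCat.ofHom ψ.toRingHom) ⟨by
        ext x
        have h5 := DFunLike.congr_fun hψ x
        have h6 : π x = i.app V' x := RingHom.congr_fun hπ x
        change Ideal.Quotient.mk I (ψ x) = a (i.app V' x)
        rw [← h6]
        exact h5, by
        ext x
        change ψ (h'.appLE U V' e x) = algebraMap _ _ x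
        rw [← ψ.commutes, e1]⟩
      ext x
      exact ConcreteCategory.congr_hom h4 x

/-- The universal thickening is formally unramified. -/
theorem formallyUnramified_of_isUnivThickening {Z Z' X : Scheme.{u}} (h : Z ⟶ X)
    (i : Z ⟶ Z') (h' : Z' ⟶ X) (hu : IsUnivThickening h i h') : FormallyUnramified h' := by
  refine ⟨fun {U} hU {V'} hV' e => ?_⟩
  let _ : Algebra Γ(X, U) Γ(Z', V') := (h'.appLE U V' e).hom.toAlgebra
  let _ : Algebra Γ(X, U) Γ(Z, i ⁻¹ᵁ V') := ((i.app V').hom.comp (h'.appLE U V' e).hom).toAlgebra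
  let π : Γ(Z', V') →ₐ[Γ(X, U)] Γ(Z, i ⁻¹ᵁ V') :=
    { toRingHom := (i.app V').hom, commutes' := fun r => rfl }
  exact K584.UnivRing.formallyUnramified (isUnivThickeningRing hu hU hV' e rfl π rfl)

end K584.UnivAff
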