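import Groth.Agent.OmegaSh.K584.UnivAff
import Groth.Agent.OmegaSh.K583.BaseChange

/-!
# Differentials of the universal first order thickening

* `isBC_of_univ`: if `B → C' → C` is a universal first order thickening then `C ⊗ Ω_B → C ⊗ Ω_{C'}` is bijective,
  in the `IsBC` formalism;
* `isIso_pullback_diffCompat`: `i^* (h'^* Ω_X → Ω_{Z'})` is an isomorphism.
-/

set_option autoImplicit false
universe u
open CategoryTheory CategoryTheory.Limits AlgebraicGeometry TopologicalSpace Opposite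

namespace K584.UnivDiff

open K584.Univ K584.UnivRing OmegaSh
open Groth.Agent.CohqA.BaseChangeMod Groth.Agent.CohqA.PullbackQCoh Groth.Agent.CohqA.PullbackSections K583.AlgUniv K583.DerAffine K583.UnivAffine
  K583.BaseChange

section Ring

variable {A B : Type u} [CommRing A] [CommRing B] [Algebra A B] [Algebra.FormallyUnramified A B]

/-- Derivations of a formally unramified algebra are determined by their restriction. -/
theorem der_eq_of_unramified {Q : Type u} [AddCommGroup Q] [Module B Q] (g₁ g₂ : B →+ Q)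
    (h₁ : ∀ a b, g₁ (a * b) = a • g₁ b + b • g₁ a) (h₂ : ∀ a b, g₂ (a * b) = a • g₂ b + b • g₂ a)
    (h : ∀ a : A, g₁ (algebraMap A B a) = g₂ (algebraMap A B a)) : g₁ = g₂ := by
  have h3 : IsDer (algebraMap A B) (g₁ - g₂) := by
    refine ⟨fun a b => ?_, fun a => ?_⟩
    · change g₁ (a * b) - g₂ (a * b) = a • (g₁ b - g₂ b) + b • (g₁ a - g₂ a)
      rw [h₁, h₂, smul_sub, smul_sub]
      abel
    · change g₁ _ - g₂ _ = 0
      rw [h, sub_self]
  obtain ⟨L, hL, -⟩ := (isAlgUniv_D (A := A) (B := B)).lift Q _ h3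
  ext b
  have h4 : L (KaehlerDifferential.D A B b) = (g₁ - g₂) b := hL b
  have h5 : KaehlerDifferential.D A B b = 0 := Subsingleton.elim _ _
  rw [h5, map_zero] at h4
  exact (sub_eq_zero.mp h4.symm)

end Ring

/-- `C ⊗ Ω_B → C ⊗ Ω_{C'}` is bijective for a universal thickening `B → C' → C`. -/
theorem isBC_of_univ {R B C C' : Type u} [CommRing R] [CommRing B] [CommRing C] [CommRing C'] [Algebra B C]
    [Algebra B C'] {π : C' →ₐ[B] C} (hu : IsUnivThickeningRing B C C' π) (σ : R →+* B)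
    {M M' N : Type u} [AddCommGroup M] [Module B M] [AddCommGroup M'] [Module C' M'] [AddCommGroup N] [Module C N]
    {δ : B →+ M} (hδ : IsAlgUniv σ δ) {δ' : C' →+ M'} (hδ' : IsAlgUniv ((algebraMap B C').comp σ) δ')
    (g : M →+ M') (hg : ∀ (r : B) (m : M), g (r • m) = algebraMap B C' r • g m)
    (hgd : ∀ b, g (δ b) = δ' (algebraMap B C' b)) {p : M' →+ N} (hp : IsBC π.toRingHom p) :
    IsBC (π.toRingHom.comp (algebraMap B C')) (p.comp g) := by
  have hur := formallyUnramified hu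
  refine ⟨fun r x => ?_, fun Q _ _ t ht => ?_⟩
  · change p (g (r • x)) = _
    rw [hg, hp.map_smul]
    rfl
  let _ : Module C' Q := Module.compHom Q π.toRingHom
  have hsm : ∀ (c : C') (q : Q), c • q = π c • q := fun _ _ => rfl
  obtain ⟨D', h1, h2⟩ := exists_der hu (N := Q) (fun x hx n => by rw [hsm, hx, zero_smul])
    (t.comp δ) (fun a b => by
      change t (δ (a * b)) = algebraMap B C' a • t (δ b) + algebraMap B C' b • t (δ a)
      rw [hδ.leibniz, map_add, ht, ht]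
      rfl)
  have hD' : IsDer ((algebraMap B C').comp σ) D' := ⟨h1, fun c => by
    rw [RingHom.comp_apply, h2]
    change t (δ (σ c)) = 0
    rw [hδ.zero, map_zero]⟩
  obtain ⟨L, hL, -⟩ := hδ'.lift Q D' hD'
  obtain ⟨L', hL', -⟩ := hp.lift Q L.toAddMonoidHom (fun r x => L.map_smul r x)
  refine ⟨L', fun x => ?_, fun L'' hL'' => ?_⟩
  · -- `L' (p (g x)) = t x`
    have h3 : L' (p (g x)) = L (g x) := hL' _
    refine h3.trans ?_
    let _ : Module B Q := Module.compHom Q (algebraMap B C')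
    let L₁ : M →ₗ[B] Q :=
      { toFun := fun m => L (g m)
        map_add' := fun a b => by rw [map_add, map_add]
        map_smul' := fun r m => by
          rw [hg, map_smul]
          rfl }
    let L₂ : M →ₗ[B] Q := { t with map_smul' := fun r m => ht r m }
    have : L₁ = L₂ := hδ.hom_ext fun b => by
      change L (g (δ b)) = t (δ b)
      rw [hgd, hL, h2]
      rfl
    exact LinearMap.congr_fun this x
  · have key : ∀ m', L'' (p m') = L' (p m') := by
      let L₁ : M' →ₗ[C'] Q :=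
        { toFun := fun m => L'' (p m)
          map_add' := fun a b => by rw [map_add, map_add]
          map_smul' := fun r m => by
            rw [hp.map_smul, map_smul]
            rfl }
      let L₂ : M' →ₗ[C'] Q :=
        { toFun := fun m => L' (p m)
          map_add' := fun a b => by rw [map_add, map_add]
          map_smul' := fun r m => by
            rw [hp.map_smul, map_smul]
            rfl }
      have : L₁ = L₂ := hδ'.hom_ext fun b => by
        have h4 := der_eq_of_unramified (A := B) (B := C') (L₁.toAddMonoidHom.comp δ') (L₂.toAddMonoidHom.comp δ')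
          (hδ'.toIsDer.comp L₁).leibniz (hδ'.toIsDer.comp L₂).leibniz (fun b => by
            change L'' (p (δ' (algebraMap B C' b))) = L' (p (δ' (algebraMap B C' b)))
            rw [← hgd]
            have h5 : L'' (p (g (δ b))) = t (δ b) := hL'' _
            have h6 : L' (p (g (δ b))) = L (g (δ b)) := hL' _
            rw [h5, h6, hgd, hL, h2]
            rfl)
        exact DFunLike.congr_fun h4 b
      exact fun m' => LinearMap.congr_fun this m'
    exact hp.hom_ext key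

theorem pbSec_naturality {Y Y' : Scheme.{u}} (h : Y' ⟶ Y) {M C : Y.Modules} (c : M ⟶ C) (V : Y.Opens)
    (V' : Y'.Opens) (hVV : V' ≤ h ⁻¹ᵁ V) (x : Γ(M, V)) :
    ((Scheme.Modules.pullback h).map c).app V' (pbSec h M V V' hVV x) = pbSec h C V V' hVV (c.app V x) := by
  have h1 : pbUnit h M ≫ (Scheme.Modules.pushforward h).map ((Scheme.Modules.pullback h).map c) =
      c ≫ pbUnit h C :=
    ((Scheme.Modules.pullbackPushforwardAdjunction h).unit.naturality c).symm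
  have h2 := secMap_comp h (pbUnit h M) ((Scheme.Modules.pullback h).map c) V V' hVV x
  change ((Scheme.Modules.pullback h).map c).app V'
    (Groth.Agent.CohqA.PullbackAffine.secMap h (pbUnit h M) V V' hVV x) = _
  rw [← h2, h1]
  rfl

/-- Affine opens around a point and its images. -/
theorem exists_affine_triple {Z Z' X S : Scheme.{u}} {i : Z ⟶ Z'} (hi : FOT i) (h' : Z' ⟶ X) (q : X ⟶ S) (z : Z) :
    ∃ (W : S.Opens) (U : X.Opens) (V' : Z'.Opens) (_ : IsAffineOpen W) (_ : IsAffineOpen U) (_ : IsAffineOpen V')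
      (_ : IsAffineOpen (i ⁻¹ᵁ V')), z ∈ i ⁻¹ᵁ V' ∧ U ≤ q ⁻¹ᵁ W ∧ V' ≤ h' ⁻¹ᵁ U := by
  obtain ⟨_, ⟨W, hW, rfl⟩, hzW, -⟩ := S.isBasis_affineOpens.exists_subset_of_mem_open
    (Set.mem_univ (q (h' (i z)))) isOpen_univ
  obtain ⟨_, ⟨U, hU, rfl⟩, hzU, e⟩ := X.isBasis_affineOpens.exists_subset_of_mem_open
    (show h' (i z) ∈ (q ⁻¹ᵁ W : Set X) from hzW) (q ⁻¹ᵁ W).isOpen
  obtain ⟨_, ⟨V', hV', rfl⟩, hzV', e'⟩ := Z'.isBasis_affineOpens.exists_subset_of_mem_open
    (show i z ∈ (h' ⁻¹ᵁ U : Set Z') from hzU) (h' ⁻¹ᵁ U).isOpen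
  exact ⟨W, U, V', hW, hU, hV', K584.UnivAff.isAffineOpen_preimage hi hV', hzV', e, e'⟩

/-- `i^* (h'^* Ω_X → Ω_{Z'})` is an isomorphism for a universal thickening `(i, h')`. -/
theorem isIso_pullback_diffCompat {Z X S Z' : Scheme.{u}} {h : Z ⟶ X} {q : X ⟶ S}
    {i : Z ⟶ Z'} {h' : Z' ⟶ X} (hu : IsUnivThickening h i h')
    {ΩX : X.Modules} {dX : Der q ΩX} (hdX : IsUniversal dX)
    {ΩZ' : Z'.Modules} {dZ' : Der (h' ≫ q) ΩZ'} (hdZ' : IsUniversal dZ')
    {c : (Scheme.Modules.pullback h').obj ΩX ⟶ ΩZ'} (hc : IsDiffCompat h' dX dZ' c) :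
    IsIso ((Scheme.Modules.pullback i).map c) := by
  have : ΩX.IsQuasicoherent := isQuasicoherent_of_isUniversal hdX
  have : ΩZ'.IsQuasicoherent := isQuasicoherent_of_isUniversal hdZ'
  choose W U V' hW hU hV' hV hz e e' using fun z => exists_affine_triple hu.1 h' q z
  refine isIso_of_bijective_affineCover _ (fun z => i ⁻¹ᵁ (V' z)) ?_ hV fun z => ?_
  · exact top_le_iff.1 fun y _ => Opens.mem_iSup.2 ⟨y, hz y⟩
  let _ : Algebra Γ(X, U z) Γ(Z', V' z) := (h'.appLE (U z) (V' z) (e' z)).hom.toAlgebra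
  let _ : Algebra Γ(X, U z) Γ(Z, i ⁻¹ᵁ (V' z)) :=
    ((i.app (V' z)).hom.comp (h'.appLE (U z) (V' z) (e' z)).hom).toAlgebra
  let π : Γ(Z', V' z) →ₐ[Γ(X, U z)] Γ(Z, i ⁻¹ᵁ (V' z)) :=
    { toRingHom := (i.app (V' z)).hom, commutes' := fun r => rfl }
  have hur := K584.UnivAff.isUnivThickeningRing hu (hU z) (hV' z) (e' z) rfl π rfl
  have hpi : ∀ M : Z'.Modules, M.IsQuasicoherent →
      IsBC (i.app (V' z)).hom (pbSec i M (V' z) (i ⁻¹ᵁ (V' z)) le_rfl).hom := by
    intro M hM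
    have := isBC_pbSec i M (hV' z) (hV z) le_rfl
    rwa [← Scheme.Hom.app_eq_appLE] at this
  have h1 := isBC_pbSec h' ΩX (hU z) (hV' z) (e' z)
  have h2 := h1.comp (hpi _ inferInstance)
  have ele : V' z ≤ (h' ≫ q) ⁻¹ᵁ W z := (e' z).trans (h'.preimage_mono (e z))
  have h3 := isAlgUniv_app hdX (hU z) (hW z) (e z)
  have h4 := isAlgUniv_app hdZ' (hV' z) (hW z) ele
  have h5 : ((h' ≫ q).appLE (W z) (V' z) ele).hom =
      (algebraMap Γ(X, U z) Γ(Z', V' z)).comp (q.appLE (W z) (U z) (e z)).hom := by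
    exact congrArg CommRingCat.Hom.hom (Scheme.Hom.appLE_comp_appLE _ _ _ _ _ (e z) (e' z)).symm
  rw [h5] at h4
  have h6 := isBC_of_univ hur (q.appLE (W z) (U z) (e z)).hom h3 h4 (compSec h' c (U z) (V' z) (e' z))
    (compSec_smul h' c (U z) (V' z) (e' z)) (fun s => compSec_app hc (U z) (V' z) (e' z) s) (hpi ΩZ' inferInstance)
  refine h2.bijective_of_isBC h6
    { (((Scheme.Modules.pullback i).map c).app (i ⁻¹ᵁ (V' z))).hom with
      map_smul' := fun r x => Scheme.Modules.Hom.app_smul _ r x } (fun x => ?_)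
  exact pbSec_naturality i c (V' z) (i ⁻¹ᵁ (V' z)) le_rfl _

/-- Universal derivations over a formally unramified extension of the base. -/
theorem isAlgUniv_comp_unramified {A A' B : Type u} [CommRing A] [CommRing A'] [CommRing B] [Algebra A A']
    [Algebra.FormallyUnramified A A'] {φ : A' →+* B} {M : Type u} [AddCommGroup M] [Module B M] {δ : B →+ M}
    (h : IsAlgUniv φ δ) : IsAlgUniv (φ.comp (algebraMap A A')) δ := by
  refine ⟨⟨h.leibniz, fun c => h.zero _⟩, fun Q _ _ g hg => ?_⟩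
  refine h.lift Q g ⟨hg.leibniz, fun c => ?_⟩
  let _ : Module A' Q := Module.compHom Q φ
  have h1 := der_eq_of_unramified (A := A) (B := A') (g.comp φ.toAddMonoidHom) 0 (fun a b => by
    change g (φ (a * b)) = φ a • g (φ b) + φ b • g (φ a)
    rw [map_mul, hg.leibniz]) (fun a b => by simp) (fun a => hg.zero a)
  exact DFunLike.congr_fun h1 c

/-- For a square with étale horizontal maps the canonical map of differentials is an isomorphism. -/
theorem isIso_of_etale_etale {X₁ S₁ X₂ S₂ : Scheme.{u}} {p₁ : X₁ ⟶ S₁} {p₂ : X₂ ⟶ S₂} {f : X₂ ⟶ X₁} {g : S₂ ⟶ S₁}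
    [Etale f] [Etale g] (hsq : f ≫ p₁ = p₂ ≫ g)
    {Ω₁ : X₁.Modules} {d₁ : Der p₁ Ω₁} (hd₁ : IsUniversal d₁)
    {Ω₂ : X₂.Modules} {d₂ : Der p₂ Ω₂} (hd₂ : IsUniversal d₂)
    {c : (Scheme.Modules.pullback f).obj Ω₁ ⟶ Ω₂} (hc : IsDiffCompat f d₁ d₂ c) : IsIso c := by
  refine isIso_of_cover hd₁ hd₂ hc fun x => ?_
  obtain ⟨_, ⟨V, hV, rfl⟩, hxV, -⟩ := S₁.isBasis_affineOpens.exists_subset_of_mem_open
    (Set.mem_univ (p₁ (f x))) isOpen_univ
  obtain ⟨_, ⟨U, hU, rfl⟩, hxU, e⟩ := X₁.isBasis_affineOpens.exists_subset_of_mem_open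
    (show f x ∈ (p₁ ⁻¹ᵁ V : Set X₁) from hxV) (p₁ ⁻¹ᵁ V).isOpen
  have hxV' : g (p₂ x) ∈ V := by
    rw [← Scheme.Hom.comp_apply, ← hsq, Scheme.Hom.comp_apply]
    exact hxV
  obtain ⟨_, ⟨V', hV', rfl⟩, hx', e'⟩ := S₂.isBasis_affineOpens.exists_subset_of_mem_open
    (show p₂ x ∈ (g ⁻¹ᵁ V : Set S₂) from hxV') (g ⁻¹ᵁ V).isOpen
  obtain ⟨_, ⟨U', hU', rfl⟩, hx'', e''⟩ := X₂.isBasis_affineOpens.exists_subset_of_mem_open
    (a := x) (u := (f ⁻¹ᵁ U ⊓ p₂ ⁻¹ᵁ V' : X₂.Opens)) ⟨hxU, hx'⟩ (f ⁻¹ᵁ U ⊓ p₂ ⁻¹ᵁ V').isOpen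
  have eU : U' ≤ f ⁻¹ᵁ U := fun y hy => (e'' hy).1
  have eV : U' ≤ p₂ ⁻¹ᵁ V' := fun y hy => (e'' hy).2
  refine ⟨U, U', hU, hU', eU, hx'', fun g₁ h1 h2 => ?_⟩
  let _ : Algebra Γ(S₁, V) Γ(S₂, V') := (g.appLE V V' e').hom.toAlgebra
  let _ : Algebra Γ(S₁, V) Γ(X₁, U) := (p₁.appLE V U e).hom.toAlgebra
  let _ : Algebra Γ(X₁, U) Γ(X₂, U') := (f.appLE U U' eU).hom.toAlgebra
  let _ : Algebra Γ(S₁, V) Γ(X₂, U') := ((f.appLE U U' eU).hom.comp (p₁.appLE V U e).hom).toAlgebra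
  have : IsScalarTower Γ(S₁, V) Γ(X₁, U) Γ(X₂, U') := IsScalarTower.of_algebraMap_eq' rfl
  have : Algebra.FormallyUnramified Γ(S₁, V) Γ(S₂, V') := g.formallyUnramified_appLE hV hV' e'
  have : Algebra.FormallyEtale Γ(X₁, U) Γ(X₂, U') := (f.etale_appLE hU hU' eU).formallyEtale
  have h3 := isAlgUniv_app hd₁ hU hV e
  have h4 := isAlgUniv_comp_unramified (A := Γ(S₁, V)) (isAlgUniv_app hd₂ hU' hV' eV)
  have h5 : (p₂.appLE V' U' eV).hom.comp (algebraMap Γ(S₁, V) Γ(S₂, V')) = algebraMap Γ(S₁, V) Γ(X₂, U') := by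
    have h6 : g.appLE V V' e' ≫ p₂.appLE V' U' eV = p₁.appLE V U e ≫ f.appLE U U' eU := by
      rw [Scheme.Hom.appLE_comp_appLE, Scheme.Hom.appLE_comp_appLE]
      simp only [hsq]
    exact congrArg CommRingCat.Hom.hom h6
  rw [h5] at h4
  exact K583.AlgUnivBC.isBC_of_formallyEtale h3 h4 g₁ h1 h2

end K584.UnivDiff
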