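import Groth.Prelude.Def_Omega3
import Mathlib.RingTheory.Unramified.Basic
import Mathlib.RingTheory.Kaehler.Basic
import Mathlib.Algebra.MvPolynomial.Basic

/-!
# Ring-level universal first order thickenings: existence, differentials, localization
-/

set_option autoImplicit false
universe u
open scoped TensorProduct

namespace K584.UnivRing

open KaehlerDifferential OmegaSh

theorem mem_smul_top {A B M N : Type*} [CommRing A] [CommRing B] [Algebra A B]
    (hs : Function.Surjective (algebraMap A B)) [AddCommGroup M] [Module A M] [AddCommGroup N] [Module A N]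
    [Module B N] [IsScalarTower A B N] (f : M →ₗ[A] N) (hf : IsBaseChange B f) (x : M) (hx : f x = 0) :
    x ∈ (RingHom.ker (algebraMap A B)) • (⊤ : Submodule A M) := by
  let e : TensorProduct A B M ≃ₗ[B] N := hf.equiv
  have h1 : (1 : B) ⊗ₜ[A] x = 0 := by
    apply e.injective
    rw [map_zero, ← hx]
    simp [e]
  let ι : RingHom.ker (algebraMap A B) →ₗ[A] A := Submodule.subtype _
  have hex : Function.Exact ι (Algebra.linearMap A B) := by
    intro a
    constructor
    · intro h
      exact ⟨⟨a, h⟩, rfl⟩
    · rintro ⟨b, rfl⟩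
      exact b.2
  have h2 := rTensor_exact M hex hs
  have h3 : (LinearMap.rTensor M (Algebra.linearMap A B)) ((1 : A) ⊗ₜ[A] x) = 0 := by
    rw [LinearMap.rTensor_tmul, Algebra.linearMap_apply, map_one, h1]
  obtain ⟨y, hy⟩ := (h2 _).mp h3
  have h4 : x = TensorProduct.lid A M (LinearMap.rTensor M ι y) := by
    rw [hy, TensorProduct.lid_tmul, one_smul]
  rw [h4]
  clear h4 hy
  induction y using TensorProduct.induction_on with
  | zero => rw [map_zero, map_zero]; exact Submodule.zero_mem _
  | tmul a m =>
    rw [LinearMap.rTensor_tmul, TensorProduct.lid_tmul]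
    exact Submodule.smul_mem_smul a.2 trivial
  | add a b ha hb => rw [map_add, map_add]; exact Submodule.add_mem _ ha hb

section Gen

variable {R P S : Type u} [CommRing R] [CommRing P] [CommRing S] [Algebra R P] [Algebra R S] [Algebra P S]
  [IsScalarTower R P S]

/-- If `Ω_{S/R} = 0` and `P → S` is surjective with kernel `J`, every differential of `P` is `d f` modulo `J`. -/
theorem exists_sub_mem (hs : Function.Surjective (algebraMap P S)) [Algebra.FormallyUnramified R S]
    (x : Ω[P⁄R]) : ∃ f ∈ RingHom.ker (algebraMap P S),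
      x - D R P f ∈ RingHom.ker (algebraMap P S) • (⊤ : Submodule P Ω[P⁄R]) := by
  have h := exact_kerCotangentToTensor_mapBaseChange R P S hs
  obtain ⟨y, hy⟩ := (h ((1 : S) ⊗ₜ[P] x)).mp (Subsingleton.elim _ _)
  obtain ⟨⟨f, hf⟩, rfl⟩ := Ideal.toCotangent_surjective _ y
  refine ⟨f, hf, ?_⟩
  rw [kerCotangentToTensor_toCotangent] at hy
  refine mem_smul_top hs (TensorProduct.mk P S Ω[P⁄R] 1) (TensorProduct.isBaseChange P Ω[P⁄R] S) _ ?_
  rw [TensorProduct.mk_apply, TensorProduct.tmul_sub, hy, sub_self]

variable {A : Type*} [CommRing A] [Algebra R A]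

/-- The difference of two lifts on elements with congruent differentials. -/
theorem sub_eq (J : Ideal P) (I : Ideal A) (hI : I ^ 2 = ⊥) (φ₁ φ₂ : P →ₐ[R] A)
    (h : ∀ p, φ₁ p - φ₂ p ∈ I) (hJ : ∀ j ∈ J, φ₁ j ∈ I) (p f : P)
    (hpf : D R P p - D R P f ∈ J • (⊤ : Submodule P Ω[P⁄R])) : φ₁ p - φ₂ p = φ₁ f - φ₂ f := by
  have hI' : ∀ a ∈ I, ∀ b ∈ I, a * b = 0 := fun a ha b hb => by
    have := Ideal.mul_mem_mul ha hb
    rw [← sq, hI] at this
    exact this
  let _ : Algebra P A := φ₁.toRingHom.toAlgebra
  have : IsScalarTower R P A := IsScalarTower.of_algebraMap_eq fun r => (φ₁.commutes r).symm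
  let δ : Derivation R P A :=
    { toFun := fun p => φ₁ p - φ₂ p
      map_add' := fun a b => by rw [map_add, map_add]; ring
      map_smul' := fun r a => by rw [map_smul, map_smul, RingHom.id_apply, smul_sub]
      map_one_eq_zero' := by
        change φ₁ 1 - φ₂ 1 = 0
        rw [map_one, map_one, sub_self]
      leibniz' := fun a b => by
        have h1 := hI' _ (h a) _ (h b)
        change φ₁ (a * b) - φ₂ (a * b) = φ₁ a * (φ₁ b - φ₂ b) + φ₁ b * (φ₁ a - φ₂ a)
        rw [map_mul, map_mul]
        linear_combination -h1 }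
  let l : Ω[P⁄R] →ₗ[P] A := δ.liftKaehlerDifferential
  have hl : ∀ p, l (D R P p) = φ₁ p - φ₂ p := fun p => Derivation.liftKaehlerDifferential_comp_D δ p
  have hlI : ∀ x, l x ∈ I := by
    intro x
    have hx : x ∈ Submodule.span P (Set.range (D R P)) := by
      rw [span_range_derivation]; trivial
    induction hx using Submodule.span_induction with
    | mem x hx =>
      obtain ⟨p, rfl⟩ := hx
      rw [hl]
      exact h p
    | zero => rw [map_zero]; exact I.zero_mem
    | add a b _ _ ha hb => rw [map_add]; exact I.add_mem ha hb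
    | smul a b _ hb => rw [map_smul]; exact I.mul_mem_left _ hb
  have hlJ : ∀ x ∈ J • (⊤ : Submodule P Ω[P⁄R]), l x = 0 := by
    intro x hx
    refine Submodule.smul_induction_on hx ?_ ?_
    · intro j hj y _
      rw [map_smul]
      exact hI' _ (hJ j hj) _ (hlI y)
    · intro a b ha hb
      rw [map_add, ha, hb, add_zero]
  have := hlJ _ hpf
  rw [map_sub, hl, hl, sub_eq_zero] at this
  exact this

end Gen

/-- Existence of universal first order thickenings of formally unramified algebras. -/
theorem exists_univ (R : Type u) [CommRing R]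
    (S : Type u) [CommRing S] [Algebra R S] [Algebra.FormallyUnramified R S] :
    ∃ (S' : Type u) (_ : CommRing S') (_ : Algebra R S') (π : S' →ₐ[R] S),
      OmegaSh.IsUnivThickeningRing R S S' π := by
  let P := MvPolynomial S R
  let π₀ : P →ₐ[R] S := MvPolynomial.aeval id
  let _ : Algebra P S := π₀.toRingHom.toAlgebra
  have : IsScalarTower R P S := IsScalarTower.of_algebraMap_eq fun r => (π₀.commutes r).symm
  have hs : Function.Surjective (algebraMap P S) := fun s => ⟨MvPolynomial.X s, MvPolynomial.aeval_X _ _⟩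
  let J : Ideal P := RingHom.ker (algebraMap P S)
  choose f hf hfd using fun s : S => exists_sub_mem (R := R) (P := P) (S := S) hs (D R P (MvPolynomial.X s))
  let K : Ideal P := J ^ 2 ⊔ Ideal.span (Set.range f)
  have hKJ : K ≤ J := by
    refine sup_le (Ideal.pow_le_self two_ne_zero) (Ideal.span_le.mpr ?_)
    rintro _ ⟨s, rfl⟩
    exact hf s
  let π : P ⧸ K →ₐ[R] S := Ideal.Quotient.liftₐ K π₀ (fun a ha => hKJ ha)
  have hπ : ∀ p : P, π (Ideal.Quotient.mk K p) = π₀ p := fun p => rfl
  refine ⟨P ⧸ K, inferInstance, inferInstance, π, ?_, ?_, ?_⟩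
  · intro s
    exact ⟨Ideal.Quotient.mk K (MvPolynomial.X s), MvPolynomial.aeval_X _ _⟩
  · rw [eq_bot_iff, sq, Ideal.mul_le]
    intro x hx y hy
    obtain ⟨x, rfl⟩ := Ideal.Quotient.mk_surjective x
    obtain ⟨y, rfl⟩ := Ideal.Quotient.mk_surjective y
    rw [← map_mul]
    rw [Submodule.mem_bot, Ideal.Quotient.eq_zero_iff_mem]
    apply Ideal.mem_sup_left
    rw [sq]
    exact Ideal.mul_mem_mul hx hy
  · intro A _ _ I hI a
    have hI' : ∀ a ∈ I, ∀ b ∈ I, a * b = 0 := fun a ha b hb => by
      have := Ideal.mul_mem_mul ha hb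
      rw [← sq, hI] at this
      exact this
    choose l hl using fun s : S => Ideal.Quotient.mk_surjective (a s)
    let β : P →ₐ[R] A := MvPolynomial.aeval l
    have hβ : ∀ p, Ideal.Quotient.mk I (β p) = a (π₀ p) := by
      intro p
      have : (Ideal.Quotient.mkₐ R I).comp β = a.comp π₀ := by
        apply MvPolynomial.algHom_ext
        intro s
        change Ideal.Quotient.mk I (β (MvPolynomial.X s)) = a (π₀ (MvPolynomial.X s))
        rw [MvPolynomial.aeval_X, MvPolynomial.aeval_X, hl]
        rfl
      exact DFunLike.congr_fun this p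
    have hβJ : ∀ j ∈ J, β j ∈ I := by
      intro j hj
      rw [← Ideal.Quotient.eq_zero_iff_mem, hβ]
      have : π₀ j = 0 := hj
      rw [this, map_zero]
    let β' : P →ₐ[R] A := MvPolynomial.aeval fun s => l s - β (f s)
    have hβ' : ∀ p, Ideal.Quotient.mk I (β' p) = a (π₀ p) := by
      intro p
      have : (Ideal.Quotient.mkₐ R I).comp β' = a.comp π₀ := by
        apply MvPolynomial.algHom_ext
        intro s
        change Ideal.Quotient.mk I (β' (MvPolynomial.X s)) = a (π₀ (MvPolynomial.X s))
        rw [MvPolynomial.aeval_X, MvPolynomial.aeval_X, map_sub, hl,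
          Ideal.Quotient.eq_zero_iff_mem.mpr (hβJ _ (hf s)), sub_zero]
        rfl
      exact DFunLike.congr_fun this p
    have hβ'J : ∀ j ∈ J, β' j ∈ I := by
      intro j hj
      rw [← Ideal.Quotient.eq_zero_iff_mem, hβ']
      have : π₀ j = 0 := hj
      rw [this, map_zero]
    have hβ'f : ∀ s, β' (f s) = 0 := by
      intro s
      have h1 := sub_eq J I hI β β' (fun p => by
        rw [← Ideal.Quotient.eq_zero_iff_mem, map_sub, hβ, hβ', sub_self]) hβJ _ _ (hfd s)
      rw [MvPolynomial.aeval_X, MvPolynomial.aeval_X, sub_sub_cancel] at h1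
      have h2 : β (f s) - (β (f s) - β' (f s)) = 0 := by rw [← h1, sub_self]
      rwa [sub_sub_cancel] at h2
    have hK : ∀ k ∈ K, β' k = 0 := by
      have : K ≤ RingHom.ker β'.toRingHom := by
        refine sup_le ?_ (Ideal.span_le.mpr ?_)
        · rw [sq, Ideal.mul_le]
          intro x hx y hy
          change β' (x * y) = 0
          rw [map_mul]
          exact hI' _ (hβ'J x hx) _ (hβ'J y hy)
        · rintro _ ⟨s, rfl⟩
          exact hβ'f s
      exact fun k hk => this hk
    refine ⟨Ideal.Quotient.liftₐ K β' hK, ?_, ?_⟩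
    · ext x
      obtain ⟨p, rfl⟩ := Ideal.Quotient.mk_surjective x
      exact hβ' p
    · intro φ hφ
      have h1 : ∀ p : P, φ (Ideal.Quotient.mk K p) = β' p := by
        intro p
        let ψ : P →ₐ[R] A := φ.comp (Ideal.Quotient.mkₐ R K)
        have h2 : ∀ p, Ideal.Quotient.mk I (ψ p) = a (π₀ p) := fun p => DFunLike.congr_fun hφ (Ideal.Quotient.mk K p)
        have : ψ = β' := by
          apply MvPolynomial.algHom_ext
          intro s
          have h3 := sub_eq J I hI β' ψ (fun p => by
            rw [← Ideal.Quotient.eq_zero_iff_mem, map_sub, hβ', h2, sub_self]) hβ'J _ _ (hfd s)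
          have h4 : ψ (f s) = 0 := by
            change φ (Ideal.Quotient.mk K (f s)) = 0
            have : Ideal.Quotient.mk K (f s) = 0 :=
              Ideal.Quotient.eq_zero_iff_mem.mpr (Ideal.mem_sup_right (Ideal.subset_span ⟨s, rfl⟩))
            rw [this, map_zero]
          rw [h4, hβ'f, sub_zero] at h3
          exact (sub_eq_zero.mp h3).symm
        exact DFunLike.congr_fun this p
      ext x
      obtain ⟨p, rfl⟩ := Ideal.Quotient.mk_surjective x
      exact h1 p

end K584.UnivRing
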