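import Groth.Agent.S1919
import Groth.Agent.S4526
import Groth.Agent.S2484
import Groth.Agent.Sga7.H759.TrdClosure
import Groth.Agent.OmegaSh.K583.AlgUniv

/-!
# Differentials of function fields

* `K584.GenDim.le_finrank_kaehler`: `dim closure {η} ≤ dim_κ(η) Ω_{κ(η)/k}`.
* `K584.GenDim.exists_linearIndependent`: elements of `Ω_{L/k}` whose span contains the differentials of a subfield
  `K` over which `L` is separable contain `m` linearly independent ones for `m ≤ dim Ω_{K/k}`.
-/

set_option autoImplicit false
set_option maxHeartbeats 400000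
universe u

open CategoryTheory CategoryTheory.Limits AlgebraicGeometry TopologicalSpace Opposite TensorProduct

namespace K584.GenDim

open K583.AlgUniv

theorem le_of_resTrdegLE {K : Type u} [Field K] {X : Scheme.{u}} (f : X ⟶ Spec (CommRingCat.of K))
    [LocallyOfFiniteType f] (x : X) (c m : ℕ) (h : EtPBC.ResTrdegLE f x c)
    (hm : (m : WithBot ℕ∞) ≤ topologicalKrullDim ↥(closure ({x} : Set ↥X))) : m ≤ c := by
  obtain ⟨Z, i, hi, hxZ, hdim⟩ := Groth.Agent.Sga7.H759.TrdClosure.exists_subscheme f x c h
  have hp : Topology.IsClosedEmbedding i := i.isClosedEmbedding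
  have hsub : closure ({x} : Set X) ⊆ Set.range i := by
    refine (hp.isClosed_range.closure_subset_iff).2 ?_
    rw [Set.singleton_subset_iff]
    exact hxZ
  choose q hq using fun c : closure ({x} : Set X) => hsub c.2
  have hind : Topology.IsInducing (i ∘ q) := by
    have : i ∘ q = Subtype.val := funext hq
    rw [this]
    exact Topology.IsInducing.subtypeVal
  have hcont : Continuous q := by
    rw [hp.isInducing.continuous_iff]
    exact hind.continuous
  have hq' : Topology.IsInducing q := Topology.IsInducing.of_comp hcont hp.continuous hind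
  have h3 := hm.trans (hq'.topologicalKrullDim_le.trans hdim)
  exact_mod_cast h3

theorem le_finrank_kaehler {k : Type u} [Field k] {X : Scheme.{u}} (f : X ⟶ Spec (CommRingCat.of k))
    [LocallyOfFiniteType f] (x : X) (m : ℕ)
    (hm : (m : WithBot ℕ∞) ≤ topologicalKrullDim ↥(closure ({x} : Set ↥X)))
    (φ : k →+* X.residueField x) (hφ : Spec.map (CommRingCat.ofHom φ) = X.fromSpecResidueField x ≫ f) :
    letI := φ.toAlgebra
    m ≤ Module.finrank (X.residueField x) (Ω[X.residueField x⁄k]) := by
  have hess : φ.EssFiniteType := Groth.Agent.S1919.essFiniteType_of_fromSpec f x (CommRingCat.ofHom φ) hφ.symm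
  let _ := φ.toAlgebra
  have : Algebra.EssFiniteType k (X.residueField x) := hess
  obtain ⟨h1, h2, h3⟩ := Groth.Agent.S4526.result (k := k) (K := k) (L := X.residueField x)
  have hlt : Algebra.trdeg k (X.residueField x) < Cardinal.aleph0 := trdeg_lt_aleph0 k (X.residueField x)
  obtain ⟨c, hc⟩ := Cardinal.lt_aleph0.1 hlt
  have hmc : m ≤ c := le_of_resTrdegLE f x c m ⟨φ, hφ, hc.le⟩ hm
  rw [hc, Cardinal.toNat_natCast] at h3
  have h6 : (c : ℤ) ≤ (Module.finrank (X.residueField x) (Ω[X.residueField x⁄k]) : ℤ) := by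
    refine h3.trans ?_
    have : (0 : ℤ) ≤ (Module.finrank k (Ω[k⁄k]) : ℤ) := Int.natCast_nonneg _
    omega
  have h7 : c ≤ Module.finrank (X.residueField x) (Ω[X.residueField x⁄k]) := by exact_mod_cast h6
  exact hmc.trans h7

theorem exists_linearIndependent {k K L N : Type u} [Field k] [Field K] [Field L] [AddCommGroup N] [Module L N]
    (κ : k →+* K) (ρ : K →+* L) (hred : letI := ρ.toAlgebra; Algebra.IsGeometricallyReduced K L)
    {δ : L →+ N} (hδ : IsAlgUniv (ρ.comp κ) δ) {ι : Type*} [Finite ι] (v : ι → N)
    (hv : ∀ a : K, δ (ρ a) ∈ Submodule.span L (Set.range v)) (m : ℕ)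
    (hm : letI := κ.toAlgebra; m ≤ Module.finrank K (Ω[K⁄k])) :
    ∃ g : Fin m → ι, LinearIndependent L (v ∘ g) := by
  let _ := κ.toAlgebra
  let _ := ρ.toAlgebra
  let _ : Algebra k L := (ρ.comp κ).toAlgebra
  have : IsScalarTower k K L := IsScalarTower.of_algebraMap_eq fun _ => rfl
  have hinj : Function.Injective (KaehlerDifferential.mapBaseChange k K L) := Groth.Agent.S2484.result.1 hred
  obtain ⟨e, he⟩ := IsAlgUniv.exists_kaehler_equiv (A := k) (B := L) hδ
  -- `m` independent differentials of `K`
  obtain ⟨b, hb⟩ : ∃ b : Fin m → Ω[K⁄k], LinearIndependent K b :=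
    exists_linearIndependent_of_le_finrank hm
  have hb2 : LinearIndependent L (fun i => (1 : L) ⊗ₜ[K] b i) :=
    Module.Flat.linearIndependent_one_tmul hb
  have hb3 : LinearIndependent L (fun i => e (KaehlerDifferential.mapBaseChange k K L ((1 : L) ⊗ₜ[K] b i))) := by
    have h1 := hb2.map' (e.toLinearMap ∘ₗ KaehlerDifferential.mapBaseChange k K L)
      (LinearMap.ker_eq_bot.2 (e.injective.comp hinj))
    exact h1
  set W := Submodule.span L (Set.range v) with hW
  have hmem : ∀ ω : Ω[K⁄k], e (KaehlerDifferential.mapBaseChange k K L ((1 : L) ⊗ₜ[K] ω)) ∈ W := by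
    intro ω
    have hω : ω ∈ Submodule.span K (Set.range (KaehlerDifferential.D k K)) := by
      rw [KaehlerDifferential.span_range_derivation]; trivial
    induction hω using Submodule.span_induction with
    | mem x hx =>
      obtain ⟨a, rfl⟩ := hx
      rw [KaehlerDifferential.mapBaseChange_tmul, one_smul, KaehlerDifferential.map_D, he]
      exact hv a
    | zero => rw [tmul_zero, map_zero, map_zero]; exact W.zero_mem
    | add x y _ _ hx hy => rw [tmul_add, map_add, map_add]; exact W.add_mem hx hy
    | smul a x _ hx =>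
      have h1 : (1 : L) ⊗ₜ[K] (a • x) = (algebraMap K L a) • ((1 : L) ⊗ₜ[K] x) := by
        rw [tmul_smul, algebraMap_smul]
      rw [h1, map_smul, map_smul]
      exact W.smul_mem _ hx
  have hfin : Module.Finite L W := Module.Finite.span_of_finite L (Set.finite_range v)
  have hle : m ≤ Module.finrank L W := by
    have h1 : LinearIndependent L (fun i : Fin m => (⟨_, hmem (b i)⟩ : W)) :=
      LinearIndependent.of_comp W.subtype hb3
    simpa using h1.fintype_card_le_finrank
  obtain ⟨f, hf1, -, hf3⟩ := Submodule.exists_fun_fin_finrank_span_eq L (Set.range v)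
  choose g hg using hf1
  refine ⟨fun i => g (Fin.castLE hle i), ?_⟩
  have h2 := hf3.comp (Fin.castLE hle) (Fin.castLE_injective hle)
  convert h2 using 1
  funext i
  exact hg _

end K584.GenDim
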