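import Groth.Agent.OmegaSh.K584.GenSec
import Groth.Agent.Krr.H495.ExtSemi
import Mathlib.LinearAlgebra.ExteriorPower.Basis

/-!
# Wedge products of sections

* `K584.GenExt.exists_glue_affine`: gluing sections given on affine opens.
* `K584.GenExt.exists_wedge`: the wedge product of sections of `E` as a section of an exterior power of `E`.
* `K584.GenExt.wedge_ne_zero`: it is nonzero if the germs at the generic point are independent.
-/

set_option autoImplicit false
set_option maxHeartbeats 400000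
universe u

open CategoryTheory CategoryTheory.Limits AlgebraicGeometry TopologicalSpace Opposite OmegaSh TensorProduct

namespace K584.GenExt

theorem exists_glue_affine {X : Scheme.{u}} (M : X.Modules) (U : X.Opens)
    (t : ∀ V : X.affineOpens, V.1 ≤ U → Γ(M, V.1))
    (ht : ∀ (V W : X.affineOpens) (h : W.1 ≤ V.1) (hV : V.1 ≤ U),
      M.presheaf.map (homOfLE h).op (t V hV) = t W (h.trans hV)) :
    ∃ σ : Γ(M, U), ∀ (V : X.affineOpens) (hV : V.1 ≤ U), M.presheaf.map (homOfLE hV).op σ = t V hV := by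
  obtain ⟨s, hs, -⟩ := TopCat.Sheaf.existsUnique_gluing' ⟨M.presheaf, M.isSheaf⟩
    (fun V : {V : X.affineOpens // V.1 ≤ U} => V.1.1) U (fun V => homOfLE V.2) (by
      intro x hx
      obtain ⟨_, ⟨V, hV, rfl⟩, hxV, hVU⟩ := X.isBasis_affineOpens.exists_subset_of_mem_open hx U.isOpen
      exact Opens.mem_iSup.mpr ⟨⟨⟨V, hV⟩, hVU⟩, hxV⟩) (fun V => t V.1 V.2) (by
      intro V W
      apply K583.DerAffine.eq_of_locally M
      intro x hx
      obtain ⟨_, ⟨A, hA, rfl⟩, hxA, hAV⟩ := X.isBasis_affineOpens.exists_subset_of_mem_open hx (V.1.1 ⊓ W.1.1).isOpen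
      refine ⟨A, hAV, hxA, ?_⟩
      rw [← CategoryTheory.comp_apply, ← CategoryTheory.comp_apply, ← Functor.map_comp, ← Functor.map_comp]
      have h1 := ht V.1 ⟨A, hA⟩ (le_trans hAV inf_le_left) V.2
      have h2 := ht W.1 ⟨A, hA⟩ (le_trans hAV inf_le_right) W.2
      exact h1.trans h2.symm)
  exact ⟨s, fun V hV => hs ⟨V, hV⟩⟩

/-- The wedge product of global sections. -/
theorem exists_wedge {X : Scheme.{u}} {m : ℕ} {E L : X.Modules} {U : X.Opens}
    (φ : ∀ U : X.affineOpens, (L.val.obj (op U.1)) ≃ₗ[Γ(X, U.1)] ↥(⋀[Γ(X, U.1)]^m (E.val.obj (op U.1))))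
    (hφ : ∀ (U V : X.affineOpens) (h : V.1 ≤ U.1) (e : Fin m → E.val.obj (op U.1)),
      L.val.map (homOfLE h).op ((φ U).symm (exteriorPower.ιMulti _ m e)) =
        (φ V).symm (exteriorPower.ιMulti _ m (fun j => E.val.map (homOfLE h).op (e j))))
    (s : Fin m → Γ(E, U)) :
    ∃ σ : Γ(L, U), ∀ (V : X.affineOpens) (hV : V.1 ≤ U), L.presheaf.map (homOfLE hV).op σ =
      (φ V).symm (exteriorPower.ιMulti _ m (fun j => E.presheaf.map (homOfLE hV).op (s j))) := by
  apply exists_glue_affine
  intro V W h hV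
  refine (hφ V W h _).trans ?_
  congr 2
  funext j
  have h1 : E.presheaf.map (homOfLE hV).op ≫ E.presheaf.map (homOfLE h).op =
      E.presheaf.map (homOfLE (h.trans hV)).op := by
    rw [← Functor.map_comp]
    rfl
  exact ConcreteCategory.congr_hom h1 (s j)

theorem ιMulti_ne_zero {K V : Type*} [Field K] [AddCommGroup V] [Module K V] {m : ℕ} {v : Fin m → V}
    (hv : LinearIndependent K v) : exteriorPower.ιMulti K m v ≠ 0 := by
  have h := (exteriorPower.ιMulti_family_linearIndependent_field (n := m) hv).ne_zero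
    (Set.powersetCard.ofFinEmbEquiv (RelEmbedding.refl _))
  rw [exteriorPower.ιMulti_family, Equiv.symm_apply_apply] at h
  exact h

theorem wedge_ne_zero {X : Scheme.{u}} [IsIntegral X] {m : ℕ} {E : X.Modules} {V : X.Opens}
    (s : Fin m → Γ(E, V)) (hξ : genericPoint X ∈ V)
    (hs : LinearIndependent (X.presheaf.stalk (genericPoint X))
      (fun i => E.presheaf.germ V (genericPoint X) hξ (s i))) :
    exteriorPower.ιMulti Γ(X, V) m s ≠ 0 := by
  intro h0
  let g : Γ(E, V) →ₛₗ[(X.presheaf.germ V (genericPoint X) hξ).hom] E.presheaf.stalk (genericPoint X) :=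
    { toFun := E.presheaf.germ V (genericPoint X) hξ
      map_add' := map_add _
      map_smul' := fun r m => Groth.Agent.Fdesc.Skyscraper.germ_smul E (genericPoint X) V hξ r m }
  have h1 := Groth.Agent.Krr.H495.ExtSemi.extS_ιMulti m g s
  rw [h0, map_zero] at h1
  exact ιMulti_ne_zero (K := X.functionField) hs h1.symm

end K584.GenExt
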