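import Groth.Agent.OmegaSh.K584.GenSep
import Groth.Agent.OmegaSh.K583.ConExact
import Groth.Agent.S2451
import Mathlib.RingTheory.Smooth.Kaehler

/-!
# Injectivity of `f^* Ω_Z → Ω_X` for separable generic fibre

* `K584.GenMono.injective_mapBaseChange`: `D ⊗_R Ω_{R/k} → Ω_{D/k}` is injective if `Ω_{R/k}` is flat and `D` embeds
  into a formally smooth `R`-algebra.
* `K584.GenMono.injective_stalkLin`: the same for the stalk of `f^* Ω_Z → Ω_X`.
-/

set_option autoImplicit false
set_option maxHeartbeats 400000
universe u

open CategoryTheory CategoryTheory.Limits AlgebraicGeometry TopologicalSpace Opposite OmegaSh TensorProduct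

namespace K584.GenMono

open K583.AlgUniv K583.StalkDer Groth.Agent.VarietyA.StalkBC Groth.Agent.Fdesc.PullbackStalk
  Groth.Agent.CycB.StalkExact K584.GenSep

theorem injective_mapBaseChange_of_formallySmooth (k R L : Type u) [CommRing k] [CommRing R] [CommRing L]
    [Algebra k R] [Algebra R L] [Algebra k L] [IsScalarTower k R L] [Algebra.FormallySmooth R L] :
    Function.Injective (KaehlerDifferential.mapBaseChange k R L) := by
  rw [injective_iff_map_eq_zero]
  intro x hx
  obtain ⟨x, rfl⟩ := (Algebra.H1Cotangent.exact_δ_mapBaseChange k R L x).mp hx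
  rw [Subsingleton.elim x 0, map_zero]

theorem injective_mapBaseChange (k R D L : Type u) [CommRing k] [CommRing R] [CommRing D] [CommRing L]
    [Algebra k R] [Algebra R D] [Algebra k D] [IsScalarTower k R D] [Algebra D L] [Algebra R L]
    [IsScalarTower R D L] [Algebra.FormallySmooth R L] [Module.Flat R (Ω[R⁄k])]
    (hDL : Function.Injective (algebraMap D L)) :
    Function.Injective (KaehlerDifferential.mapBaseChange k R D) := by
  let _ : Algebra k L := ((algebraMap R L).comp (algebraMap k R)).toAlgebra
  have : IsScalarTower k R L := IsScalarTower.of_algebraMap_eq fun _ => rfl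
  have : IsScalarTower k D L := IsScalarTower.of_algebraMap_eq fun a => by
    rw [IsScalarTower.algebraMap_apply k R L, IsScalarTower.algebraMap_apply R D L,
      ← IsScalarTower.algebraMap_apply k R D]
  have h1 := injective_mapBaseChange_of_formallySmooth k R L
  have h2 : Function.Injective (((IsScalarTower.toAlgHom R D L).toLinearMap).rTensor (Ω[R⁄k])) :=
    Module.Flat.rTensor_preserves_injective_linearMap _ hDL
  have hmm : ∀ b : Ω[R⁄k], KaehlerDifferential.map k k D L (KaehlerDifferential.map k k R D b) =
      KaehlerDifferential.map k k R L b := by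
    intro b
    have hb : b ∈ Submodule.span R (Set.range (KaehlerDifferential.D k R)) := by
      rw [KaehlerDifferential.span_range_derivation]; trivial
    induction hb using Submodule.span_induction with
    | mem x hx =>
      obtain ⟨r, rfl⟩ := hx
      rw [KaehlerDifferential.map_D, KaehlerDifferential.map_D, KaehlerDifferential.map_D,
        ← IsScalarTower.algebraMap_apply R D L]
    | zero => simp only [map_zero]
    | add x y _ _ hx hy => simp only [map_add, hx, hy]
    | smul r x _ hx =>
      have e1 : KaehlerDifferential.map k k R D (r • x) =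
        algebraMap R D r • KaehlerDifferential.map k k R D x := by
        rw [map_smul, algebraMap_smul]
      have e2 : KaehlerDifferential.map k k R L (r • x) =
        algebraMap R L r • KaehlerDifferential.map k k R L x := by
        rw [map_smul, algebraMap_smul]
      rw [e1, e2, map_smul, hx, IsScalarTower.algebraMap_apply R D L]
      exact (algebraMap_smul L (algebraMap R D r) _).symm
  have h3 : ∀ t : D ⊗[R] Ω[R⁄k], KaehlerDifferential.map k k D L (KaehlerDifferential.mapBaseChange k R D t) =
      KaehlerDifferential.mapBaseChange k R L (((IsScalarTower.toAlgHom R D L).toLinearMap).rTensor (Ω[R⁄k]) t) := by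
    intro t
    induction t using TensorProduct.induction_on with
    | zero => simp only [map_zero]
    | add x y hx hy => simp only [map_add, hx, hy]
    | tmul a b =>
      rw [KaehlerDifferential.mapBaseChange_tmul, map_smul, hmm, LinearMap.rTensor_tmul,
        KaehlerDifferential.mapBaseChange_tmul]
      exact (algebraMap_smul L a _).symm
  intro s t hst
  apply h2
  apply h1
  rw [← h3, ← h3, hst]


section Stalk

variable {k : Type u} [Field k] {X Z : Scheme.{u}} {gZ : Z ⟶ Spec (CommRingCat.of k)}
  {gX : X ⟶ Spec (CommRingCat.of k)} {f : X ⟶ Z}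
  {ΩZ : Z.Modules} {dZ : Der gZ ΩZ} {ΩX : X.Modules} {dX : Der gX ΩX}
  {c : (Scheme.Modules.pullback f).obj ΩZ ⟶ ΩX}

theorem stalkLin_eq {M N : X.Modules} (φ : M ⟶ N) (x : X) (t : M.presheaf.stalk x) :
    stalkLin φ x t = Groth.Agent.Fdesc.Skyscraper.stalkMap φ x t := by
  obtain ⟨U, hU, s, rfl⟩ := TopCat.Presheaf.exists_germ_eq _ t
  exact (stalkLin_germ φ x hU s).trans (Groth.Agent.Fdesc.Skyscraper.stalkMap_germ φ x U hU s).symm

theorem stalkLin_isDiffCompat (hc : IsDiffCompat f dZ dX c) (x : X) (a : Z.presheaf.stalk (f x)) :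
    stalkLin c x (canAdd f ΩZ x (stalkDer dZ (f x) a)) = stalkDer dX x (f.stalkMap x a) :=
  (stalkLin_eq c x _).trans (stalkMap_isDiffCompat hc x a)

theorem injective_stalkLin (hf : f ≫ gZ = gX) (hdZ : IsUniversal dZ) (hdX : IsUniversal dX)
    (hc : IsDiffCompat f dZ dX c) (x : X)
    (H : letI := (stalkRingHom gZ (f x)).toAlgebra
      letI := (f.stalkMap x).hom.toAlgebra
      letI := (stalkRingHom gX x).toAlgebra
      ∀ (_ : IsScalarTower k (Z.presheaf.stalk (f x)) (X.presheaf.stalk x)),
      Function.Injective (KaehlerDifferential.mapBaseChange k (Z.presheaf.stalk (f x)) (X.presheaf.stalk x))) :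
    Function.Injective (stalkLin c x) := by
  let _ : Algebra k (Z.presheaf.stalk (f x)) := (stalkRingHom gZ (f x)).toAlgebra
  let _ : Algebra (Z.presheaf.stalk (f x)) (X.presheaf.stalk x) := (f.stalkMap x).hom.toAlgebra
  let _ : Algebra k (X.presheaf.stalk x) := (stalkRingHom gX x).toAlgebra
  have htow : IsScalarTower k (Z.presheaf.stalk (f x)) (X.presheaf.stalk x) := IsScalarTower.of_algebraMap_eq' (by
    subst hf
    exact (stalkRingHom_comp gZ f x).symm)
  have H := H htow
  obtain ⟨eZ, heZ⟩ := IsAlgUniv.exists_kaehler_equiv (A := k) (B := Z.presheaf.stalk (f x)) (isAlgUniv_stalk hdZ (f x))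
  obtain ⟨eX, heX⟩ := IsAlgUniv.exists_kaehler_equiv (A := k) (B := X.presheaf.stalk x) (isAlgUniv_stalk hdX x)
  have key : ∀ t : X.presheaf.stalk x ⊗[Z.presheaf.stalk (f x)] Ω[Z.presheaf.stalk (f x)⁄k],
      stalkLin c x (stalkPullbackEquiv f ΩZ x
        (LinearEquiv.lTensor (X.presheaf.stalk x) eZ t)) =
      eX (KaehlerDifferential.mapBaseChange k (Z.presheaf.stalk (f x)) (X.presheaf.stalk x) t) := by
    intro t
    induction t using TensorProduct.induction_on with
    | zero => simp only [map_zero]
    | add s t hs ht => rw [map_add, map_add, map_add, map_add, map_add, hs, ht]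
    | tmul a b =>
      have hb : b ∈ Submodule.span (Z.presheaf.stalk (f x)) (Set.range (KaehlerDifferential.D k (Z.presheaf.stalk (f x)))) := by
        rw [KaehlerDifferential.span_range_derivation]; trivial
      revert a
      induction hb using Submodule.span_induction with
      | mem y hy =>
        intro a
        obtain ⟨r, rfl⟩ := hy
        rw [LinearEquiv.lTensor_tmul, heZ, KaehlerDifferential.mapBaseChange_tmul, KaehlerDifferential.map_D,
          map_smul, heX, stalkPullbackEquiv_tmul, map_smul, stalkLin_isDiffCompat hc x r]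
        rfl
      | zero => intro a; simp only [tmul_zero, map_zero]
      | add y z _ _ hy hz =>
        intro a
        rw [tmul_add, map_add, map_add, map_add, map_add, map_add, hy, hz]
      | smul r y _ hy =>
        intro a
        rw [← smul_tmul, hy]
  intro s t hst
  obtain ⟨s', rfl⟩ := (stalkPullbackEquiv f ΩZ x).surjective s
  obtain ⟨t', rfl⟩ := (stalkPullbackEquiv f ΩZ x).surjective t
  obtain ⟨s', rfl⟩ := (LinearEquiv.lTensor (X.presheaf.stalk x) eZ).surjective s'
  obtain ⟨t', rfl⟩ := (LinearEquiv.lTensor (X.presheaf.stalk x) eZ).surjective t'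
  rw [key, key] at hst
  rw [H (eX.injective hst)]

end Stalk

section Main

variable {k : Type u} [Field k] {X Z : Scheme.{u}}

theorem formallySmooth_stalk (gZ : Z ⟶ Spec (CommRingCat.of k)) [Smooth gZ] (z : Z) :
    (stalkRingHom gZ z).FormallySmooth := by
  have h : z ∈ gZ.smoothLocus := by
    rw [gZ.smoothLocus_eq_top]
    trivial
  have h1 : (gZ.stalkMap z).hom.FormallySmooth := h
  have e : (gZ.stalkMap z).hom.comp (stalkRingHom (𝟙 _) (gZ z)) = stalkRingHom gZ z := by
    rw [stalkRingHom_comp]
    exact stalkRingHom_congr _ (Category.comp_id gZ) z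
  rw [← e]
  exact RingHom.FormallySmooth.comp (RingHom.FormallySmooth.of_bijective
    ⟨RingHom.injective (stalkRingHom (𝟙 _) (gZ z)), stalkRingHom_id_surjective (gZ z)⟩) h1

theorem formallySmooth_specializes [IsIntegral Z] {η z : Z} (hη : η = genericPoint Z) (h : η ⤳ z) :
    (Z.presheaf.stalkSpecializes h).hom.FormallySmooth := by
  subst hη
  have h1 : Algebra.FormallyEtale (Z.presheaf.stalk z) Z.functionField :=
    Algebra.FormallyEtale.of_isLocalization (nonZeroDivisors (Z.presheaf.stalk z))
  have h2 : Algebra.FormallySmooth (Z.presheaf.stalk z) Z.functionField := inferInstance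
  exact h2

theorem isField_generic [IsIntegral X] : IsField (X.presheaf.stalk (genericPoint X)) :=
  Semifield.toIsField X.functionField

theorem isField_of_eq [IsIntegral Z] {η : Z} (hη : η = genericPoint Z) : IsField (Z.presheaf.stalk η) := by
  subst hη
  exact isField_generic

theorem residue_bijective {η : Z} (hη : IsField (Z.presheaf.stalk η)) :
    Function.Bijective (Z.residue η).hom := by
  let _ := hη.toField
  exact ⟨RingHom.injective (Z.residue η).hom, IsLocalRing.residue_surjective⟩

theorem formallySmooth_rho (f : X ⟶ Z) [IsIntegral X]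
    (hsep : GeometricallyReduced (pullback.snd f (Z.fromSpecResidueField (f (genericPoint X))))) :
    (rho f (genericPoint X) isField_generic).FormallySmooth := by
  let _ := (rho f (genericPoint X) isField_generic).toAlgebra
  have h : Algebra.IsGeometricallyReduced (Z.residueField (f (genericPoint X))) X.functionField :=
    isGeometricallyReduced_of_fibre f (genericPoint X) isField_generic hsep
  exact (Groth.Agent.S2451.result (k := Z.residueField (f (genericPoint X))) (K := X.functionField)).2 h

theorem mono {gZ : Z ⟶ Spec (CommRingCat.of k)}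
    {gX : X ⟶ Spec (CommRingCat.of k)} {f : X ⟶ Z} [Smooth gZ] [IsIntegral X] [IsIntegral Z]
    {ΩZ : Z.Modules} {dZ : Der gZ ΩZ} {ΩX : X.Modules} {dX : Der gX ΩX}
    {c : (Scheme.Modules.pullback f).obj ΩZ ⟶ ΩX} (hf : f ≫ gZ = gX) (hdZ : IsUniversal dZ)
    (hdX : IsUniversal dX) (hc : IsDiffCompat f dZ dX c) (hη : f (genericPoint X) = genericPoint Z)
    (hsep : GeometricallyReduced (pullback.snd f (Z.fromSpecResidueField (f (genericPoint X))))) :
    Mono c := by
  rw [Groth.Agent.PerfC.FlatExact.mono_iff_stalkLin]
  intro x
  refine injective_stalkLin hf hdZ hdX hc x ?_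
  let _ : Algebra k (Z.presheaf.stalk (f x)) := (stalkRingHom gZ (f x)).toAlgebra
  let _ : Algebra (Z.presheaf.stalk (f x)) (X.presheaf.stalk x) := (f.stalkMap x).hom.toAlgebra
  let _ : Algebra k (X.presheaf.stalk x) := (stalkRingHom gX x).toAlgebra
  intro htow
  have hsp : genericPoint X ⤳ x := (genericPoint_spec X).specializes trivial
  have hspZ : f (genericPoint X) ⤳ f x := hsp.map f.continuous
  let _ : Algebra (Z.presheaf.stalk (f x)) X.functionField :=
    (f.stalkMap x ≫ X.presheaf.stalkSpecializes hsp).hom.toAlgebra
  have htow2 : IsScalarTower (Z.presheaf.stalk (f x)) (X.presheaf.stalk x) X.functionField :=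
    IsScalarTower.of_algebraMap_eq fun _ => rfl
  have hfs : Algebra.FormallySmooth k (Z.presheaf.stalk (f x)) := formallySmooth_stalk gZ (f x)
  have hfs2 : Algebra.FormallySmooth (Z.presheaf.stalk (f x)) X.functionField := by
    have e : f.stalkMap x ≫ X.presheaf.stalkSpecializes hsp =
        Z.presheaf.stalkSpecializes hspZ ≫ Z.residue (f (genericPoint X)) ≫
          CommRingCat.ofHom (rho f (genericPoint X) isField_generic) := by
      rw [residue_rho]
      exact (Scheme.Hom.stalkSpecializes_stalkMap f _ _ hsp).symm
    have h1 := RingHom.FormallySmooth.comp (RingHom.FormallySmooth.comp (formallySmooth_specializes hη hspZ)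
      (RingHom.FormallySmooth.of_bijective (residue_bijective (isField_of_eq hη)))) (formallySmooth_rho f hsep)
    have h2 : (f.stalkMap x ≫ X.presheaf.stalkSpecializes hsp).hom.FormallySmooth := by
      rw [e]
      exact h1
    exact h2
  have hflat : Module.Flat (Z.presheaf.stalk (f x)) (Ω[Z.presheaf.stalk (f x)⁄k]) := inferInstance
  exact injective_mapBaseChange k (Z.presheaf.stalk (f x)) (X.presheaf.stalk x) X.functionField
    (IsFractionRing.injective (X.presheaf.stalk x) X.functionField)

end Main

end K584.GenMono
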