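import Groth.Agent.OmegaSh.K584.GenMono
import Groth.Agent.OmegaSh.K584.GenDim
import Groth.Agent.Dcoh.FreeSec

/-!
# Independent 1-forms from a morphism to a smooth variety

* `K584.GenSec.linearIndependent_of_germ`: sections over `U` of an integral scheme are independent if their germs at the
  generic point are.
* `K584.GenSec.exists_sections`: for `f : X ⟶ Z`, `Z` smooth over a field, `f^* Ω_Z` free, geometrically reduced
  generic fibre over the image `Y`, `m ≤ dim Y`: there are `m` global sections of `Ω_X` whose germs at the generic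
  point are independent.
-/

set_option autoImplicit false
set_option maxHeartbeats 400000
universe u

open CategoryTheory CategoryTheory.Limits AlgebraicGeometry TopologicalSpace Opposite OmegaSh TensorProduct

namespace K584.GenSec

open K583.AlgUniv K583.StalkDer Groth.Agent.VarietyA.StalkBC Groth.Agent.Fdesc.PullbackStalk
  Groth.Agent.CycB.StalkExact K584.GenSep K584.GenMono Groth.Agent.Dcoh.FreeSec

theorem linearIndependent_of_germ {X : Scheme.{u}} [IsIntegral X] {M : X.Modules} (U : X.Opens) {ι : Type*}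
    [Fintype ι] (s : ι → Γ(M, U))
    (h : ∀ hξ : genericPoint X ∈ U, LinearIndependent (X.presheaf.stalk (genericPoint X))
      (fun i => M.presheaf.germ U (genericPoint X) hξ (s i))) : LinearIndependent Γ(X, U) s := by
  rw [Fintype.linearIndependent_iff]
  intro g hg i
  by_cases hξ : genericPoint X ∈ U
  · have h1 := h hξ
    rw [Fintype.linearIndependent_iff] at h1
    have h2 := h1 (fun i => X.presheaf.germ U (genericPoint X) hξ (g i)) (by
      have h3 := congrArg (M.presheaf.germ U (genericPoint X) hξ) hg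
      rw [map_zero, map_sum] at h3
      rw [← h3]
      exact Finset.sum_congr rfl fun j _ => (Groth.Agent.Fdesc.Skyscraper.germ_smul M _ U hξ (g j) (s j)).symm) i
    apply germ_injective_of_isIntegral X (genericPoint X) hξ
    rw [map_zero]
    exact h2
  · have hU : U = ⊥ := by
      by_contra hne
      obtain ⟨x, hx⟩ := (Opens.ne_bot_iff_nonempty U).1 hne
      exact hξ (((genericPoint_spec X).mem_open_set_iff U.isOpen).2 ⟨x, trivial, hx⟩)
    subst hU
    exact Subsingleton.elim _ _

section Main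

variable {k : Type u} [Field k] {X Z : Scheme.{u}} {gZ : Z ⟶ Spec (CommRingCat.of k)}
    {gX : X ⟶ Spec (CommRingCat.of k)} {f : X ⟶ Z} [LocallyOfFiniteType gZ] [IsIntegral X]
    {ΩZ : Z.Modules} {dZ : Der gZ ΩZ} {ΩX : X.Modules} {dX : Der gX ΩX}
    {c : (Scheme.Modules.pullback f).obj ΩZ ⟶ ΩX}

theorem exists_sections (hf : f ≫ gZ = gX)
    (hdX : IsUniversal dX) (hc : IsDiffCompat f dZ dX c)
    (hsep : GeometricallyReduced (pullback.snd f (Z.fromSpecResidueField (f (genericPoint X))))) (m : ℕ)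
    (hm : (m : WithBot ℕ∞) ≤ topologicalKrullDim ↥(closure ({f (genericPoint X)} : Set ↥Z)))
    (hfree : ∃ d : ℕ, Nonempty ((Scheme.Modules.pullback f).obj ΩZ ≅ FlatMod.freeMod X d)) :
    ∃ s : Fin m → Γ(ΩX, ⊤), LinearIndependent (X.presheaf.stalk (genericPoint X))
      (fun i => ΩX.presheaf.germ ⊤ (genericPoint X) trivial (s i)) := by
  obtain ⟨d, ⟨a⟩⟩ := hfree
  let es : Fin d → Γ((Scheme.Modules.pullback f).obj ΩZ, ⊤) := fun j => a.inv.app ⊤ (e X j)
  let ω : Fin d → Γ(ΩX, ⊤) := fun j => c.app ⊤ (es j)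
  let ξ := genericPoint X
  let v : Fin d → ΩX.presheaf.stalk ξ := fun j => ΩX.presheaf.germ ⊤ ξ trivial (ω j)
  let κ : k →+* Z.residueField (f ξ) := (Z.residue (f ξ)).hom.comp (stalkRingHom gZ (f ξ))
  let ρ : Z.residueField (f ξ) →+* X.functionField := rho f ξ isField_generic
  have hρκ : ρ.comp κ = stalkRingHom gX ξ := by
    subst hf
    exact stalkRingHom_comp gZ f ξ
  have hspan : Submodule.span (X.presheaf.stalk ξ) (Set.range fun j : Fin d =>
      ((Scheme.Modules.pullback f).obj ΩZ).presheaf.germ ⊤ ξ trivial (es j)) = ⊤ := by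
    rw [eq_top_iff]
    rintro t -
    have h1 : t = stalkLin a.inv ξ (stalkLin a.hom ξ t) := by
      rw [← LinearMap.comp_apply, ← stalkLin_comp, a.hom_inv_id, stalkLin_id]
      rfl
    have h2 : stalkLin a.hom ξ t ∈ Submodule.span (X.presheaf.stalk ξ) (Set.range fun j : Fin d =>
        (FlatMod.freeMod X d).presheaf.germ ⊤ ξ trivial (e X j)) := by
      rw [span_stalk_free]; trivial
    rw [h1]
    have h3 := Submodule.mem_map_of_mem (f := stalkLin a.inv ξ) h2
    rw [Submodule.map_span, ← Set.range_comp] at h3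
    refine Submodule.span_mono ?_ h3
    rintro _ ⟨j, rfl⟩
    exact ⟨j, (stalkLin_germ (U := ⊤) a.inv ξ trivial (e X j)).symm⟩
  have hvspan : ∀ t, stalkLin c ξ t ∈ Submodule.span (X.presheaf.stalk ξ) (Set.range v) := by
    intro t
    have ht : t ∈ Submodule.span (X.presheaf.stalk ξ) (Set.range fun j : Fin d =>
      ((Scheme.Modules.pullback f).obj ΩZ).presheaf.germ ⊤ ξ trivial (es j)) := by rw [hspan]; trivial
    have h3 := Submodule.mem_map_of_mem (f := stalkLin c ξ) ht
    rw [Submodule.map_span, ← Set.range_comp] at h3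
    refine Submodule.span_mono ?_ h3
    rintro _ ⟨j, rfl⟩
    exact ⟨j, (stalkLin_germ (U := ⊤) c ξ trivial (es j)).symm⟩
  have hv : ∀ a : Z.residueField (f ξ), stalkDer dX ξ (ρ a) ∈
      Submodule.span (X.presheaf.stalk ξ) (Set.range v) := by
    intro a
    obtain ⟨r, rfl⟩ := Z.residue_surjective (f ξ) a
    have h1 : ρ (Z.residue (f ξ) r) = f.stalkMap ξ r := rfl
    rw [h1, ← stalkLin_isDiffCompat hc ξ r]
    exact hvspan _
  have hφ : Spec.map (CommRingCat.ofHom κ) = Z.fromSpecResidueField (f ξ) ≫ gZ := by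
    have h1 := fromSpecStalk_comp gZ (f ξ)
    have h2 : CommRingCat.ofHom κ = CommRingCat.ofHom (stalkRingHom gZ (f ξ)) ≫ Z.residue (f ξ) := rfl
    rw [h2, Spec.map_comp, ← h1, ← Category.assoc]
    rfl
  have hm' := K584.GenDim.le_finrank_kaehler gZ (f ξ) m hm κ hφ
  have hδ : IsAlgUniv (ρ.comp κ) (stalkDer dX ξ) := by
    rw [hρκ]
    exact isAlgUniv_stalk hdX ξ
  obtain ⟨g, hg⟩ := K584.GenDim.exists_linearIndependent κ ρ
    (isGeometricallyReduced_of_fibre f (genericPoint X) isField_generic hsep) hδ v hv m hm'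
  exact ⟨fun i => ω (g i), hg⟩

end Main

end K584.GenSec
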