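import Groth.Agent.OmegaSh.K583.StalkDer
import Groth.Agent.VarietyA.GeomRed

/-!
# Separability of the residue field extension at a generic point

* `K584.GenSep.isAlgUniv_stalk`: over a field `k` the stalk of a universal derivation is the universal
  `k`-derivation of the local ring.
* `K584.GenSep.isGeometricallyReduced_of_fibre`: if the fibre of `f : X ⟶ Z` over `η = f ξ` is geometrically reduced
  over `κ(η)` and `O_{X,ξ}` is a field, then `O_{X,ξ}` is geometrically reduced over `κ(η)`.
-/

set_option autoImplicit false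
set_option maxHeartbeats 400000
universe u

open CategoryTheory CategoryTheory.Limits AlgebraicGeometry TopologicalSpace Opposite OmegaSh

namespace K584.GenSep

open K583.AlgUniv K583.StalkDer Groth.Agent.VarietyA.StalkBC

section Field

variable {k : Type u} [Field k]

theorem stalkRingHom_id_surjective (y : Spec (CommRingCat.of k)) :
    Function.Surjective (stalkRingHom (𝟙 (Spec (CommRingCat.of k))) y) := by
  have h := stalkRingHom_Spec (R := k) (A := CommRingCat.of k) (𝟙 (CommRingCat.of k)) y
  have h1 : Function.Surjective (algebraMap k (Localization.AtPrime y.asIdeal)) :=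
    (Field.localization_map_bijective (K := k) (M := y.asIdeal.primeCompl)
      (fun h0 => h0 y.asIdeal.zero_mem)).2
  intro c
  obtain ⟨a, ha⟩ := h1 ((Spec.stalkIso (CommRingCat.of k) y).hom.hom c)
  refine ⟨a, ?_⟩
  have h2 := RingHom.congr_fun h a
  have h3 : Function.Injective (Spec.stalkIso (CommRingCat.of k) y).hom.hom :=
    (ConcreteCategory.bijective_of_isIso (Spec.stalkIso (CommRingCat.of k) y).hom).1
  apply h3
  rw [← ha]
  refine Eq.trans ?_ h2
  rw [RingHom.comp_apply, stalkRingHom_congr (𝟙 _) (Spec.map_id _).symm]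

theorem isAlgUniv_comp_surjective {A A' B M : Type u} [CommRing A] [CommRing A'] [CommRing B] [AddCommGroup M]
    [Module B M] {φ : A →+* B} {δ : B →+ M} (h : IsAlgUniv φ δ) (ψ : A' →+* A) (hψ : Function.Surjective ψ) :
    IsAlgUniv (φ.comp ψ) δ where
  leibniz := h.leibniz
  zero c := h.zero (ψ c)
  lift Q _ _ g hg := h.lift Q g ⟨hg.leibniz, fun c => by
    obtain ⟨c', rfl⟩ := hψ c
    exact hg.zero c'⟩

theorem isAlgUniv_stalk {X : Scheme.{u}} {g : X ⟶ Spec (CommRingCat.of k)} {Ω : X.Modules} {d : Der g Ω}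
    (hd : IsUniversal d) (x : X) : IsAlgUniv (stalkRingHom g x) (stalkDer d x) := by
  have h := isAlgUniv_comp_surjective (isAlgUniv_stalkDer hd x) _ (stalkRingHom_id_surjective (k := k) (g x))
  have e : (g.stalkMap x).hom.comp (stalkRingHom (𝟙 _) (g x)) = stalkRingHom g x := by
    rw [stalkRingHom_comp]
    exact stalkRingHom_congr _ (Category.comp_id g) x
  rwa [e] at h

end Field

section Rho

variable {X Z : Scheme.{u}} (f : X ⟶ Z) (ξ : X) (hξ : IsField (X.presheaf.stalk ξ))

/-- `κ(f ξ) → O_{X,ξ}` for `O_{X,ξ}` a field. -/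
noncomputable def rho : Z.residueField (f ξ) →+* X.presheaf.stalk ξ :=
  letI := hξ.toField
  IsLocalRing.ResidueField.lift (f.stalkMap ξ).hom

theorem rho_residue (a : Z.presheaf.stalk (f ξ)) : rho f ξ hξ (Z.residue (f ξ) a) = f.stalkMap ξ a := rfl

theorem residue_rho : Z.residue (f ξ) ≫ CommRingCat.ofHom (rho f ξ hξ) = f.stalkMap ξ := rfl

theorem fromSpecStalk_comp_eq : X.fromSpecStalk ξ ≫ f =
    Spec.map (CommRingCat.ofHom (rho f ξ hξ)) ≫ Z.fromSpecResidueField (f ξ) := by
  rw [← Scheme.SpecMap_stalkMap_fromSpecStalk, ← residue_rho f ξ hξ, Spec.map_comp, Category.assoc]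
  rfl

theorem isGeometricallyReduced_of_fibre
    (h : GeometricallyReduced (pullback.snd f (Z.fromSpecResidueField (f ξ)))) :
    letI := (rho f ξ hξ).toAlgebra
    Algebra.IsGeometricallyReduced (Z.residueField (f ξ)) (X.presheaf.stalk ξ) := by
  let _ := (rho f ξ hξ).toAlgebra
  let P := pullback f (Z.fromSpecResidueField (f ξ))
  let p : P ⟶ Spec (CommRingCat.of (Z.residueField (f ξ))) := pullback.snd f (Z.fromSpecResidueField (f ξ))
  let _ : P.Over (Spec (CommRingCat.of (Z.residueField (f ξ)))) := ⟨p⟩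
  let q : Spec (X.presheaf.stalk ξ) ⟶ P :=
    pullback.lift (X.fromSpecStalk ξ) (Spec.map (CommRingCat.ofHom (rho f ξ hξ))) (fromSpecStalk_comp_eq f ξ hξ)
  let y : P := q (IsLocalRing.closedPoint _)
  have hy : (pullback.fst f (Z.fromSpecResidueField (f ξ))) y = ξ := by
    change (pullback.fst f (Z.fromSpecResidueField (f ξ))) (q (IsLocalRing.closedPoint _)) = ξ
    rw [← Scheme.Hom.comp_apply, pullback.lift_fst, Scheme.fromSpecStalk_closedPoint]
  let _ : Algebra (Z.residueField (f ξ)) (P.presheaf.stalk y) := (stalkRingHom p y).toAlgebra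
  have hst : Algebra.IsGeometricallyReduced (Z.residueField (f ξ)) (P.presheaf.stalk y) :=
    (Groth.Agent.VarietyA.GeomRed.geometricallyReduced_iff_forall_stalk (Z.residueField (f ξ)) P).1 h y
  let j : X.presheaf.stalk ξ ⟶ P.presheaf.stalk y :=
    X.presheaf.stalkSpecializes (specializes_of_eq hy) ≫ (pullback.fst f (Z.fromSpecResidueField (f ξ))).stalkMap y
  have hj : Spec.map j ≫ X.fromSpecStalk ξ =
      P.fromSpecStalk y ≫ pullback.fst f (Z.fromSpecResidueField (f ξ)) := by
    rw [Spec.map_comp, Category.assoc, Scheme.SpecMap_stalkSpecializes_fromSpecStalk,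
      Scheme.SpecMap_stalkMap_fromSpecStalk]
  have hlin : CommRingCat.ofHom (rho f ξ hξ) ≫ j = CommRingCat.ofHom (stalkRingHom p y) := by
    apply Spec.map_injective
    rw [← cancel_mono (Z.fromSpecResidueField (f ξ)), Spec.map_comp, Category.assoc, ← fromSpecStalk_comp_eq,
      reassoc_of% hj, pullback.condition, ← fromSpecStalk_comp, Category.assoc]
  have hinj : Function.Injective j.hom := by
    let _ := hξ.toField
    exact RingHom.injective j.hom
  exact Algebra.IsGeometricallyReduced.of_injective
    ({ toRingHom := j.hom, commutes' := fun r => RingHom.congr_fun (congrArg CommRingCat.Hom.hom hlin) r } :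
      X.presheaf.stalk ξ →ₐ[Z.residueField (f ξ)] P.presheaf.stalk y) hinj

end Rho

end K584.GenSep
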