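import Groth.Agent.Flat2H.KoszulIdeal
import Mathlib.RingTheory.Localization.Algebra

/-!
# Local charts of local complete intersection ring maps
-/

set_option autoImplicit false
universe u

namespace K584.LciChart

open Groth.Agent.Flat2H.KoszulIdeal LCI

/-- Localizing a surjection with Koszul-regular kernel at a suitable element: the kernel is generated by a
Koszul-regular sequence. -/
theorem exists_away {P C : Type u} [CommRing P] [CommRing C] (φ : P →+* C) (hφ : Function.Surjective φ)
    (hK : IsKoszulRegularIdeal (RingHom.ker φ)) (q : Ideal C) [q.IsPrime] :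
    ∃ g : P, φ g ∉ q ∧ ∀ (T : Type u) [CommRing T] [Algebra C T] [IsLocalization.Away (φ g) T],
      ∃ b : Localization.Away g →+* T, Function.Surjective b ∧
        (∀ p, b (algebraMap P (Localization.Away g) p) = algebraMap C T (φ p)) ∧
        ∃ l : List (Localization.Away g), IsKoszulRegularSeq (Localization.Away g) l ∧
          RingHom.ker b = Ideal.ofList l := by
  obtain ⟨g, hg, h⟩ := IsKoszulRegularIdeal.exists_genK hK (q.comap φ)
  refine ⟨g, hg, ?_⟩
  intro T _ _ _
  have hM : Submonoid.map φ (Submonoid.powers g) = Submonoid.powers (φ g) := Submonoid.map_powers φ g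
  have h1 : IsLocalization (Submonoid.map φ (Submonoid.powers g)) T := by rw [hM]; infer_instance
  let b : Localization.Away g →+* T :=
    IsLocalization.map (S := Localization.Away g) T φ (Submonoid.le_comap_map (Submonoid.powers g))
  refine ⟨b, IsLocalization.map_surjective_of_surjective (Submonoid.powers g) (Localization.Away g) T hφ,
    fun p => IsLocalization.map_eq _ p, ?_⟩
  obtain ⟨l, hl, e⟩ := h (Localization.Away g) (IsLocalization.Away.algebraMap_isUnit g)
  refine ⟨l, hl, ?_⟩
  rw [← e]
  exact IsLocalization.ker_map T φ rfl

end K584.LciChart
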