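import Groth.Agent.OmegaSh.K584.LciChart
import Groth.Agent.Synt.K561.LciDict

/-!
# Local charts of local complete intersection morphisms
-/

set_option autoImplicit false
universe u
open CategoryTheory AlgebraicGeometry TopologicalSpace

namespace K584.LciChart

open LCI

/-- Local charts of an lci morphism. -/
theorem exists_chart {X Y : Scheme.{u}} (f : X ⟶ Y) (hf : ∀ x : X, Synt.IsKoszulAt f x) {V : Y.Opens}
    (hV : IsAffineOpen V) {U : X.Opens} (hU : IsAffineOpen U) (e : U ≤ f ⁻¹ᵁ V) (x : X) (hx : x ∈ U) :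
    ∃ (c : Γ(X, U)) (_ : x ∈ X.basicOpen c) (n : ℕ) (g : MvPolynomial (Fin n) Γ(Y, V)),
      ∀ (W : X.Opens) (_ : W = X.basicOpen c) (hWU : W ≤ U), ∃ b : Localization.Away g →+* Γ(X, W),
        Function.Surjective b ∧ (∀ r : Γ(Y, V), b (algebraMap Γ(Y, V) (Localization.Away g) r) =
          f.appLE V W (hWU.trans e) r) ∧
        ∃ l : List (Localization.Away g), IsKoszulRegularSeq (Localization.Away g) l ∧
          RingHom.ker b = Ideal.ofList l := by
  have hLM := (K561.LciDict.forall_isKoszulAt_iff f).1 hf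
  let _ : Algebra Γ(Y, V) Γ(X, U) := (f.appLE V U e).hom.toAlgebra
  obtain ⟨-, n, φ, hφ, hK⟩ := hLM U V hU hV e
  obtain ⟨g, hg, H⟩ := exists_away φ.toRingHom hφ hK (hU.primeIdealOf ⟨x, hx⟩).asIdeal
  refine ⟨φ g, ?_, n, g, ?_⟩
  · have h1 : hU.primeIdealOf ⟨x, hx⟩ ∈ PrimeSpectrum.basicOpen (φ g) := hg
    have h2 := hU.fromSpec_preimage_basicOpen (φ g)
    have h3 : hU.fromSpec (hU.primeIdealOf ⟨x, hx⟩) ∈ X.basicOpen (φ g) := by
      have : hU.primeIdealOf ⟨x, hx⟩ ∈ hU.fromSpec ⁻¹ᵁ (X.basicOpen (φ g)) := by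
        rw [h2]; exact h1
      exact this
    rw [hU.fromSpec_primeIdealOf] at h3
    exact h3
  · intro W hW hWU
    let _ : Algebra Γ(X, U) Γ(X, W) := (X.presheaf.map (homOfLE hWU).op).hom.toAlgebra
    have : IsLocalization.Away (φ g) Γ(X, W) := hU.isLocalization_of_eq_basicOpen (φ g) (homOfLE hWU) hW
    obtain ⟨b, hb, h1, h2⟩ := H Γ(X, W)
    refine ⟨b, hb, fun r => ?_, h2⟩
    have h3 : algebraMap Γ(Y, V) (Localization.Away g) r =
        algebraMap (MvPolynomial (Fin n) Γ(Y, V)) (Localization.Away g) (algebraMap _ _ r) :=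
      IsScalarTower.algebraMap_apply _ _ _ _
    rw [h3, h1]
    change X.presheaf.map (homOfLE hWU).op (φ (algebraMap _ _ r)) = _
    rw [φ.commutes]
    have h4 : f.appLE V U e ≫ X.presheaf.map (homOfLE hWU).op = f.appLE V W (hWU.trans e) :=
      Scheme.Hom.appLE_map _ _ _
    exact ConcreteCategory.congr_hom h4 r

end K584.LciChart
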