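import Groth.Agent.OmegaSh.K584.UnivSpec
import Groth.Agent.OmegaSh.K584.UnivRing2
import Groth.Agent.Models.KoszulCot

/-!
# The conormal module of the universal thickening of an lci ring map is finite projective
-/

set_option autoImplicit false
universe u
open CategoryTheory

namespace K584.LciConormal

open OmegaSh K584.UnivRing LCI

/-- If `P` is formally smooth over `R` and `P → C` is surjective with kernel `K`, then `ker (C' → C)` is a direct
summand of `K/K²`. -/
theorem finite_projective {R C C' P : Type u} [CommRing R] [CommRing C] [CommRing C'] [CommRing P] [Algebra R C]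
    [Algebra R C'] [Algebra R P] [Algebra.FormallySmooth R P] {π : C' →ₐ[R] C}
    (hu : IsUnivThickeningRing R C C' π) (b : P →ₐ[R] C) (hb : Function.Surjective b)
    [Module.Finite (P ⧸ RingHom.ker b.toRingHom) (RingHom.ker b.toRingHom).Cotangent]
    [Module.Projective (P ⧸ RingHom.ker b.toRingHom) (RingHom.ker b.toRingHom).Cotangent]
    {M : Type u} [AddCommGroup M] [Module C M] (θ : RingHom.ker π.toRingHom →+ M) (hθ : Function.Bijective θ)
    (hsm : ∀ (x : C') (m : RingHom.ker π.toRingHom), θ (x • m) = π x • θ m) :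
    Module.Finite C M ∧ Module.Projective C M := by
  set K := RingHom.ker b.toRingHom with hKdef
  -- the lift of `P → C` to `C'`
  let lam : P →ₐ[R] C' := Algebra.FormallySmooth.liftOfSurjective b π hu.1 ⟨2, hu.2.1⟩
  have hlam : ∀ p, π (lam p) = b p := fun p => Algebra.FormallySmooth.liftOfSurjective_apply b π hu.1 ⟨2, hu.2.1⟩ p
  -- the quotient `P/K²`
  have hlamK : ∀ k ∈ K, lam k ∈ RingHom.ker π.toRingHom := fun k hk => by
    change π (lam k) = 0
    rw [hlam]
    exact hk
  have hlam2 : ∀ k ∈ K ^ 2, lam k = 0 := by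
    intro k hk
    rw [sq] at hk
    have h1 : lam k ∈ RingHom.ker π.toRingHom ^ 2 := by
      rw [sq]
      refine Submodule.mul_induction_on hk (fun x hx y hy => ?_) (fun x y hx hy => ?_)
      · rw [map_mul]
        exact Ideal.mul_mem_mul (hlamK x hx) (hlamK y hy)
      · rw [map_add]
        exact Ideal.add_mem _ hx hy
    rw [hu.2.1] at h1
    exact h1
  let lamb : P ⧸ K ^ 2 →ₐ[R] C' := Ideal.Quotient.liftₐ (K ^ 2) lam hlam2
  have hlamb : ∀ p, lamb (Ideal.Quotient.mk (K ^ 2) p) = lam p := fun p => rfl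
  have hbK2 : ∀ k ∈ K ^ 2, b k = 0 := fun k hk => (Ideal.pow_le_self two_ne_zero hk : k ∈ K)
  let bb : P ⧸ K ^ 2 →ₐ[R] C := Ideal.Quotient.liftₐ (K ^ 2) b hbK2
  have hbb : ∀ p, bb (Ideal.Quotient.mk (K ^ 2) p) = b p := fun p => rfl
  have hbbs : Function.Surjective bb := fun c => by
    obtain ⟨p, rfl⟩ := hb c
    exact ⟨Ideal.Quotient.mk _ p, rfl⟩
  have hbbk : RingHom.ker bb.toRingHom = K.cotangentIdeal := by
    ext x
    obtain ⟨p, rfl⟩ := Ideal.Quotient.mk_surjective x
    rw [Ideal.mk_mem_cotangentIdeal]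
    rfl
  obtain ⟨μ, h1, h2⟩ := K584.UnivSpec.exists_lift_ring hu (A := CommRingCat.of (P ⧸ K ^ 2))
    (B := CommRingCat.of C) (CommRingCat.ofHom bb.toRingHom) hbbs
    (by rw [CommRingCat.hom_ofHom, hbbk]; exact Ideal.cotangentIdeal_square K)
    (CommRingCat.ofHom (algebraMap R (P ⧸ K ^ 2))) (𝟙 _) (by
      rw [Category.comp_id]
      ext r
      exact bb.commutes r)
  let μ' : C' →ₐ[R] P ⧸ K ^ 2 := { toRingHom := μ.hom, commutes' := fun r => ConcreteCategory.congr_hom h2 r }
  have hμ : ∀ x, bb (μ' x) = π x := fun x => ConcreteCategory.congr_hom h1 x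
  have hcomp : ∀ x, lamb (μ' x) = x := by
    have h3 := eq_id hu (lamb.comp μ') (fun x => by
      change π (lamb (μ' x)) = π x
      obtain ⟨p, hp⟩ := Ideal.Quotient.mk_surjective (μ' x)
      rw [← hp, hlamb, hlam, ← hbb, hp, hμ])
    exact fun x => DFunLike.congr_fun h3 x
  -- the module structures
  let e : (P ⧸ K) ≃+* C := RingHom.quotientKerEquivOfSurjective (f := b.toRingHom) hb
  have he : ∀ p, e (Ideal.Quotient.mk K p) = b p := fun p => rfl
  let _ : Module (P ⧸ K) M := Module.compHom M e.toRingHom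
  have hsM : ∀ (x : P ⧸ K) (m : M), x • m = e x • m := fun _ _ => rfl
  let _ : Module P M := Module.compHom M b.toRingHom
  have hsP : ∀ (x : P) (m : M), x • m = b x • m := fun _ _ => rfl
  have : IsScalarTower P (P ⧸ K) M := ⟨fun x y m => by
    obtain ⟨y, rfl⟩ := Ideal.Quotient.mk_surjective y
    change Ideal.Quotient.mk K (x * y) • m = _
    rw [hsM, hsM, hsP, he, he, map_mul, mul_smul]⟩
  -- `t : K/K² → M`
  let t₀ : K →ₗ[P] M :=
    { toFun := fun k => θ ⟨lam k.1, hlamK k.1 k.2⟩
      map_add' := fun x y => by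
        rw [← map_add]
        congr 1
        exact Subtype.ext (map_add lam _ _)
      map_smul' := fun p k => by
        rw [RingHom.id_apply, hsP, ← hlam, ← hsm]
        congr 1
        exact Subtype.ext (map_mul lam _ _) }
  have ht₀ : ∀ k : K, k ∈ (K • ⊤ : Submodule P K) → t₀ k = 0 := by
    intro k hk
    have h3 : K.toCotangent k = 0 := (Submodule.Quotient.mk_eq_zero _).mpr hk
    rw [Ideal.toCotangent_eq_zero] at h3
    change θ ⟨lam k.1, hlamK k.1 k.2⟩ = 0
    rw [← map_zero θ]
    congr 1
    exact Subtype.ext (hlam2 _ h3)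
  let t₁ : K.Cotangent →ₗ[P] M := Submodule.liftQ _ t₀ (fun k hk => ht₀ k hk)
  have ht₁ : ∀ k : K, t₁ (K.toCotangent k) = θ ⟨lam k.1, hlamK k.1 k.2⟩ := fun k => rfl
  let t : K.Cotangent →ₗ[P ⧸ K] M :=
    { toFun := t₁
      map_add' := map_add t₁
      map_smul' := fun x m => by
        obtain ⟨x, rfl⟩ := Ideal.Quotient.mk_surjective x
        rw [RingHom.id_apply]
        have h3 : Ideal.Quotient.mk K x • m = x • m := by
          rw [← Ideal.Quotient.algebraMap_eq, algebraMap_smul]
        have h4 : Ideal.Quotient.mk K x • t₁ m = x • t₁ m := by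
          rw [← Ideal.Quotient.algebraMap_eq, algebraMap_smul]
        rw [h3, h4, map_smul] }
  -- `s : M → K/K²`
  have hμker : ∀ y : RingHom.ker π.toRingHom, μ' y.1 ∈ K.cotangentIdeal := by
    intro y
    rw [← hbbk]
    change bb (μ' y.1) = 0
    rw [hμ]
    exact y.2
  choose y hy using hθ.2
  have hyadd : ∀ m n, y (m + n) = y m + y n := fun m n => hθ.1 (by rw [map_add, hy, hy, hy])
  have hysm : ∀ (c : C') m, y (π c • m) = c • y m := fun c m => hθ.1 (by rw [hsm, hy, hy])
  let s : M →ₗ[P ⧸ K] K.Cotangent :=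
    { toFun := fun m => K.cotangentEquivIdeal.symm ⟨μ' (y m).1, hμker (y m)⟩
      map_add' := fun m n => by
        rw [← map_add]
        congr 1
        apply Subtype.ext
        change μ' (y (m + n)).1 = μ' (y m).1 + μ' (y n).1
        rw [hyadd, Submodule.coe_add, map_add]
      map_smul' := fun x m => by
        obtain ⟨x, rfl⟩ := Ideal.Quotient.mk_surjective x
        rw [RingHom.id_apply, hsM, he]
        have h3 : Ideal.Quotient.mk K x • K.cotangentEquivIdeal.symm ⟨μ' (y m).1, hμker (y m)⟩ =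
            x • K.cotangentEquivIdeal.symm ⟨μ' (y m).1, hμker (y m)⟩ := by
          rw [← Ideal.Quotient.algebraMap_eq, algebraMap_smul]
        rw [h3, ← map_smul]
        congr 1
        apply Subtype.ext
        change μ' (y (b x • m)).1 = Ideal.Quotient.mk (K ^ 2) x * μ' (y m).1
        rw [← hlam, hysm]
        change μ' (lam x * (y m).1) = _
        rw [map_mul]
        -- difference lies in the square of the cotangent ideal
        have h5 : μ' (lam x) - Ideal.Quotient.mk (K ^ 2) x ∈ K.cotangentIdeal := by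
          rw [← hbbk]
          change bb _ = 0
          rw [map_sub, hμ, hlam, hbb, sub_self]
        have h6 := Ideal.mul_mem_mul h5 (hμker (y m))
        rw [← sq, Ideal.cotangentIdeal_square] at h6
        rw [Submodule.mem_bot, sub_mul, sub_eq_zero] at h6
        exact h6 }
  have hts : ∀ m, t (s m) = m := by
    intro m
    change t₁ (K.cotangentEquivIdeal.symm ⟨μ' (y m).1, hμker (y m)⟩) = m
    obtain ⟨k, hk⟩ := Ideal.Quotient.mk_surjective (μ' (y m).1)
    have hkK : k ∈ K := by
      rw [← Ideal.mk_mem_cotangentIdeal, hk]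
      exact hμker (y m)
    have h3 : K.cotangentEquivIdeal.symm ⟨μ' (y m).1, hμker (y m)⟩ = K.toCotangent ⟨k, hkK⟩ := by
      rw [LinearEquiv.symm_apply_eq]
      apply Subtype.ext
      exact hk.symm
    rw [h3, ht₁]
    conv_rhs => rw [← hy m]
    congr 1
    apply Subtype.ext
    change lam k = (y m).1
    rw [← hlamb, hk, hcomp]
  have hfin : Module.Finite (P ⧸ K) M := Module.Finite.of_surjective t fun m => ⟨s m, hts m⟩
  have hproj : Module.Projective (P ⧸ K) M := Module.Projective.of_split s t (LinearMap.ext hts)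
  let _ : RingHomInvPair (e : (P ⧸ K) →+* C) (e.symm : C →+* (P ⧸ K)) := RingHomInvPair.of_ringEquiv e
  let _ : RingHomInvPair (e.symm : C →+* (P ⧸ K)) (e : (P ⧸ K) →+* C) := RingHomInvPair.symm _ _
  let E : M ≃ₛₗ[(e : (P ⧸ K) →+* C)] M :=
    { AddEquiv.refl M with
      map_smul' := fun x m => rfl }
  exact ⟨Module.Finite.of_surjective (σ := (e : (P ⧸ K) →+* C)) E.toLinearMap E.surjective,
    Module.Projective.of_equiv E⟩

end K584.LciConormal
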