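import Groth.Agent.OmegaSh.K584.UnivSpec
import Groth.Agent.OmegaSh.K584.UnivRing2
import Groth.Prelude.Def_CAlgX
import Mathlib.RingTheory.Flat.Basic
import Mathlib.RingTheory.Flat.Localization
import Mathlib.RingTheory.TensorProduct.Basic

/-!
# Injectivity of `C ⊗ J → C'` for local complete intersections
-/

set_option autoImplicit false
set_option maxHeartbeats 400000
universe u
open CategoryTheory
open scoped TensorProduct

namespace K584.LciInj

open OmegaSh K584.UnivRing

/-- Relations of an `H₁`-regular sequence lift: `(f') ∩ N ⊆ N (f')`. -/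
theorem mem_mul_of_h1 {P P' : Type u} [CommRing P] [CommRing P'] (ρ : P' →+* P) (hρ : Function.Surjective ρ)
    {c : ℕ} (f : Fin c → P) (hf : CAlgX.IsH1Regular f) (f' : Fin c → P') (hf' : ∀ i, ρ (f' i) = f i) (y : P')
    (hy : y ∈ Ideal.span (Set.range f')) (hyN : y ∈ RingHom.ker ρ) :
    y ∈ RingHom.ker ρ * Ideal.span (Set.range f') := by
  rw [Ideal.span, Submodule.mem_span_range_iff_exists_fun] at hy
  obtain ⟨u, rfl⟩ := hy
  have h0 : ∑ i, ρ (u i) * f i = 0 := by
    have h1 : ρ (∑ i, u i • f' i) = 0 := hyN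
    rw [map_sum] at h1
    rw [← h1]
    refine Finset.sum_congr rfl fun i _ => ?_
    rw [smul_eq_mul, map_mul, hf']
  have h1 := hf (fun i => ρ (u i)) h0
  -- lifting the trivial relations
  have key : ∀ v : Fin c → P, v ∈ Submodule.span P {v : Fin c → P | ∃ i j : Fin c,
      v = Pi.single i (f j) - Pi.single j (f i)} →
      ∃ t : Fin c → P', (∑ i, t i * f' i = 0) ∧ ∀ i, ρ (t i) = v i := by
    intro v hv
    induction hv using Submodule.span_induction with
    | mem v hv =>
      obtain ⟨i, j, rfl⟩ := hv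
      refine ⟨Pi.single i (f' j) - Pi.single j (f' i), ?_, ?_⟩
      · simp only [Pi.sub_apply, sub_mul, Finset.sum_sub_distrib]
        rw [Finset.sum_eq_single i, Finset.sum_eq_single j]
        · rw [Pi.single_eq_same, Pi.single_eq_same, mul_comm, sub_self]
        · intro k _ hk
          rw [Pi.single_eq_of_ne hk, zero_mul]
        · intro hk
          exact absurd (Finset.mem_univ j) hk
        · intro k _ hk
          rw [Pi.single_eq_of_ne hk, zero_mul]
        · intro hk
          exact absurd (Finset.mem_univ i) hk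
      · intro k
        rw [Pi.sub_apply, Pi.sub_apply, map_sub]
        congr 1
        · by_cases hk : k = i
          · subst hk
            rw [Pi.single_eq_same, Pi.single_eq_same, hf']
          · rw [Pi.single_eq_of_ne hk, Pi.single_eq_of_ne hk, map_zero]
        · by_cases hk : k = j
          · subst hk
            rw [Pi.single_eq_same, Pi.single_eq_same, hf']
          · rw [Pi.single_eq_of_ne hk, Pi.single_eq_of_ne hk, map_zero]
    | zero => exact ⟨0, by simp, fun i => by simp⟩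
    | add a b _ _ ha hb =>
      obtain ⟨t, h1, h2⟩ := ha
      obtain ⟨t', h1', h2'⟩ := hb
      refine ⟨t + t', ?_, fun i => ?_⟩
      · simp only [Pi.add_apply, add_mul, Finset.sum_add_distrib, h1, h1', add_zero]
      · rw [Pi.add_apply, Pi.add_apply, map_add, h2, h2']
    | smul r a _ ha =>
      obtain ⟨t, h1, h2⟩ := ha
      obtain ⟨r', rfl⟩ := hρ r
      refine ⟨r' • t, ?_, fun i => ?_⟩
      · simp only [Pi.smul_apply, smul_eq_mul, mul_assoc]
        rw [← Finset.mul_sum, h1, mul_zero]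
      · rw [Pi.smul_apply, Pi.smul_apply, smul_eq_mul, smul_eq_mul, map_mul, h2]
  obtain ⟨t, ht1, ht2⟩ := key _ h1
  have h2 : ∑ i, u i • f' i = ∑ i, (u i - t i) * f' i := by
    simp only [sub_mul, Finset.sum_sub_distrib, smul_eq_mul, ht1, sub_zero]
  rw [h2]
  refine Ideal.sum_mem _ fun i _ => Ideal.mul_mem_mul ?_ (Ideal.subset_span ⟨i, rfl⟩)
  change ρ (u i - t i) = 0
  rw [map_sub, ht2, sub_self]

/-- `K'² ∩ N ⊆ N K'` for `K'` the preimage of an ideal generated by an `H₁`-regular sequence. -/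
theorem mem_mul_of_sq {P P' : Type u} [CommRing P] [CommRing P'] (ρ : P' →+* P) (hρ : Function.Surjective ρ)
    {c : ℕ} (f : Fin c → P) (hf : CAlgX.IsH1Regular f) (x : P')
    (hx : x ∈ ((Ideal.span (Set.range f)).comap ρ) ^ 2) (hxN : x ∈ RingHom.ker ρ) :
    x ∈ RingHom.ker ρ * (Ideal.span (Set.range f)).comap ρ := by
  choose f' hf' using fun i => hρ (f i)
  have h1 : (Ideal.span (Set.range f)).comap ρ = Ideal.span (Set.range f') ⊔ RingHom.ker ρ := by
    have h2 : Ideal.span (Set.range f) = (Ideal.span (Set.range f')).map ρ := by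
      rw [Ideal.map_span, ← Set.range_comp]
      congr 2
      funext i
      exact (hf' i).symm
    rw [h2, Ideal.comap_map_of_surjective ρ hρ]
    congr 1
  generalize hL : (Ideal.span (Set.range f)).comap ρ = L at h1 hx ⊢
  have h3 : Ideal.span (Set.range f') ≤ L := by
    rw [h1]; exact le_sup_left
  have h4 : L ^ 2 ≤ Ideal.span (Set.range f') ⊔ RingHom.ker ρ * L := by
    calc L ^ 2 = (Ideal.span (Set.range f') ⊔ RingHom.ker ρ) * L := by rw [sq, ← h1]
      _ = Ideal.span (Set.range f') * L ⊔ RingHom.ker ρ * L := Ideal.sup_mul _ _ _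
      _ ≤ Ideal.span (Set.range f') ⊔ RingHom.ker ρ * L := sup_le_sup_right Ideal.mul_le_left _
  obtain ⟨y, hy, z, hz, e⟩ := Submodule.mem_sup.mp (h4 hx)
  have hzN : z ∈ RingHom.ker ρ := Ideal.mul_le_left hz
  have hyN : y ∈ RingHom.ker ρ := by
    have h5 : y = x - z := by rw [← e, add_sub_cancel_right]
    rw [h5]
    exact Ideal.sub_mem _ hxN hzN
  have h6 := mem_mul_of_h1 ρ hρ f hf f' hf' y hy hyN
  have h7 : y ∈ RingHom.ker ρ * L := Ideal.mul_mono_right h3 h6
  rw [← e]
  exact Ideal.add_mem _ h7 hz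

/-- The key injectivity statement. -/
theorem key {A B B' C C' P P' : Type u} [CommRing A] [CommRing B] [CommRing B'] [CommRing C] [CommRing C']
    [CommRing P] [CommRing P'] [Algebra A B] [Algebra A B'] [Algebra A C] [Algebra A C']
    {πB : B' →ₐ[A] B} (hB : IsUnivThickeningRing A B B' πB)
    {πC : C' →ₐ[A] C} (hC : IsUnivThickeningRing A C C' πC)
    (m : B' →ₐ[A] C') (i : B →+* C) (hmi : ∀ x, πC (m x) = i (πB x))
    [Algebra B' P'] [Module.Flat B' P'] (ρ : P' →+* P) (hρ : Function.Surjective ρ)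
    (hρk : RingHom.ker ρ = (RingHom.ker πB.toRingHom).map (algebraMap B' P'))
    (b : P →+* C) (hb : Function.Surjective b) (hbB : ∀ x : B', b (ρ (algebraMap B' P' x)) = i (πB x))
    {c : ℕ} (f : Fin c → P) (hf : CAlgX.IsH1Regular f) (hbk : RingHom.ker b = Ideal.span (Set.range f))
    {𝒥 : Type u} [AddCommGroup 𝒥] [Module B' 𝒥] (v : 𝒥 →ₗ[B'] B') (hv : Function.Injective v)
    (hvr : ∀ x, πB x = 0 → ∃ y, v y = x) (hvr' : ∀ y, πB (v y) = 0)
    {M : Type u} [AddCommGroup M] [Module C M] (s : 𝒥 →+ M)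
    (hs : ∀ (x : B') (y : 𝒥), s (x • y) = i (πB x) • s y)
    {ι : Type*} (t : Finset ι) (cc : ι → C') (y : ι → 𝒥) (h : ∑ k ∈ t, cc k * m (v (y k)) = 0) :
    ∑ k ∈ t, πC (cc k) • s (y k) = 0 := by
  let K' : Ideal P' := RingHom.ker (b.comp ρ)
  have hK' : K' = (Ideal.span (Set.range f)).comap ρ := by
    rw [← hbk]
    rfl
  let _ : Algebra A P' := ((algebraMap B' P').comp (algebraMap A B')).toAlgebra
  have : IsScalarTower A B' P' := IsScalarTower.of_algebraMap_eq' rfl
  -- `P'/K'² → C`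
  have hq0 : ∀ k ∈ K' ^ 2, (b.comp ρ) k = 0 := fun k hk => (Ideal.pow_le_self two_ne_zero hk : k ∈ K')
  let q : (P' ⧸ K' ^ 2) →+* C := Ideal.Quotient.lift (K' ^ 2) (b.comp ρ) hq0
  have hq : ∀ p, q (Ideal.Quotient.mk (K' ^ 2) p) = b (ρ p) := fun p => rfl
  have hqs : Function.Surjective q := fun x => by
    obtain ⟨p, rfl⟩ := hb x
    obtain ⟨p, rfl⟩ := hρ p
    exact ⟨Ideal.Quotient.mk _ p, rfl⟩
  have hqk : RingHom.ker q = K'.cotangentIdeal := by
    ext x
    obtain ⟨p, rfl⟩ := Ideal.Quotient.mk_surjective x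
    rw [Ideal.mk_mem_cotangentIdeal]
    rfl
  have halg : ∀ a : A, q (algebraMap A (P' ⧸ K' ^ 2) a) = algebraMap A C a := by
    intro a
    change b (ρ (algebraMap B' P' (algebraMap A B' a))) = _
    rw [hbB, ← hmi, m.commutes, πC.commutes]
  obtain ⟨μ, h1, h2⟩ := K584.UnivSpec.exists_lift_ring hC (A := CommRingCat.of (P' ⧸ K' ^ 2))
    (B := CommRingCat.of C) (CommRingCat.ofHom q) hqs
    (by rw [CommRingCat.hom_ofHom, hqk]; exact Ideal.cotangentIdeal_square K')
    (CommRingCat.ofHom (algebraMap A (P' ⧸ K' ^ 2))) (𝟙 _) (by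
      rw [Category.comp_id]
      ext r
      exact halg r)
  let μ' : C' →ₐ[A] P' ⧸ K' ^ 2 := { toRingHom := μ.hom, commutes' := fun r => ConcreteCategory.congr_hom h2 r }
  have hμ : ∀ x, q (μ' x) = πC x := fun x => ConcreteCategory.congr_hom h1 x
  let ν : B' →ₐ[A] P' ⧸ K' ^ 2 :=
    { toRingHom := (Ideal.Quotient.mk (K' ^ 2)).comp (algebraMap B' P')
      commutes' := fun r => rfl }
  have hν : ∀ x, q (ν x) = i (πB x) := fun x => hbB x
  have hμm : ∀ x : B', μ' (m x) = Ideal.Quotient.mk (K' ^ 2) (algebraMap B' P' x) := by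
    have h3 := eq_of_lift hB K'.cotangentIdeal (Ideal.cotangentIdeal_square K') (μ'.comp m) ν (fun x hx => by
      rw [← hqk]
      change q (μ' (m x)) = 0
      rw [hμ, hmi, hx, map_zero]) (fun x => by
      rw [← hqk]
      change q (μ' (m x) - ν x) = 0
      rw [map_sub, hμ, hmi, hν, sub_self])
    exact fun x => DFunLike.congr_fun h3 x
  -- lifts
  choose p hp using fun k => (hb.comp hρ) (πC (cc k))
  have hp' : ∀ k, b (ρ (p k)) = πC (cc k) := hp
  have hvN : ∀ y, algebraMap B' P' (v y) ∈ RingHom.ker ρ := fun y => by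
    rw [hρk]
    exact Ideal.mem_map_of_mem _ (hvr' y)
  have hNK : RingHom.ker ρ ≤ K' := fun x hx => by
    change b (ρ x) = 0
    have : ρ x = 0 := hx
    rw [this, map_zero]
  have hE1 : Ideal.Quotient.mk (K' ^ 2) (∑ k ∈ t, p k * algebraMap B' P' (v (y k))) = 0 := by
    have h3 : μ' (∑ k ∈ t, cc k * m (v (y k))) = 0 := by rw [h, map_zero]
    rw [map_sum] at h3 ⊢
    refine (Finset.sum_congr rfl fun k _ => ?_).trans h3
    rw [map_mul, map_mul, hμm]
    have h4 : Ideal.Quotient.mk (K' ^ 2) (p k) - μ' (cc k) ∈ K'.cotangentIdeal := by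
      rw [← hqk]
      change q (Ideal.Quotient.mk (K' ^ 2) (p k) - μ' (cc k)) = 0
      rw [map_sub, hq, hμ, hp', sub_self]
    have h5 : Ideal.Quotient.mk (K' ^ 2) (algebraMap B' P' (v (y k))) ∈ K'.cotangentIdeal :=
      Ideal.mk_mem_cotangentIdeal.mpr (hNK (hvN _))
    have h6 := Ideal.mul_mem_mul h4 h5
    rw [← sq, Ideal.cotangentIdeal_square, Submodule.mem_bot, sub_mul, sub_eq_zero] at h6
    exact h6
  have hE2 : ∑ k ∈ t, p k * algebraMap B' P' (v (y k)) ∈ K' ^ 2 := Ideal.Quotient.eq_zero_iff_mem.mp hE1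
  have hE2' : ∑ k ∈ t, p k * algebraMap B' P' (v (y k)) ∈ RingHom.ker ρ :=
    Ideal.sum_mem _ fun k _ => Ideal.mul_mem_left _ _ (hvN _)
  have hE3 : ∑ k ∈ t, p k * algebraMap B' P' (v (y k)) ∈ RingHom.ker ρ * K' := by
    rw [hK'] at hE2 ⊢
    exact mem_mul_of_sq ρ hρ f hf _ hE2 hE2'
  -- the tensor product
  let _ : Module P' M := Module.compHom M (b.comp ρ)
  have hsP : ∀ (x : P') (w : M), x • w = b (ρ x) • w := fun _ _ => rfl
  let _ : Module B' M := Module.compHom M (i.comp πB.toRingHom)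
  have hsB : ∀ (x : B') (w : M), x • w = i (πB x) • w := fun _ _ => rfl
  have : IsScalarTower B' P' M := ⟨fun x y w => by
    rw [Algebra.smul_def, mul_smul, hsP, hbB]
    rfl⟩
  let s' : 𝒥 →ₗ[B'] M := { s with map_smul' := fun x y => hs x y }
  let Φ : P' ⊗[B'] 𝒥 →ₗ[P'] M := s'.liftBaseChange P'
  have hΦ : ∀ (x : P') (w : 𝒥), Φ (x ⊗ₜ w) = b (ρ x) • s w := fun x w => LinearMap.liftBaseChange_tmul _ _ _ _
  let v' : 𝒥 →ₗ[B'] P' := (Algebra.linearMap B' P').comp v
  let J' : P' ⊗[B'] 𝒥 →ₗ[P'] P' := v'.liftBaseChange P'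
  have hJ' : ∀ (x : P') (w : 𝒥), J' (x ⊗ₜ w) = x * algebraMap B' P' (v w) := fun x w =>
    LinearMap.liftBaseChange_tmul _ _ _ _
  have hJinj : Function.Injective J' := by
    have h3 : Function.Injective (LinearMap.lTensor P' v) := Module.Flat.lTensor_preserves_injective_linearMap v hv
    have h4 : ∀ w, J' w = TensorProduct.rid B' P' (LinearMap.lTensor P' v w) := by
      intro w
      induction w using TensorProduct.induction_on with
      | zero => rw [map_zero, map_zero, map_zero]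
      | add a b ha hb => rw [map_add, map_add, map_add, ha, hb]
      | tmul a b =>
        rw [hJ', LinearMap.lTensor_tmul, TensorProduct.rid_tmul, Algebra.smul_def, mul_comm]
    intro w w' hw
    rw [h4, h4] at hw
    exact h3 ((TensorProduct.rid B' P').injective hw)
  have hJsurj : ∀ x ∈ RingHom.ker ρ, ∃ w, J' w = x := by
    intro x hx
    rw [hρk] at hx
    induction hx using Submodule.span_induction with
    | mem x hx =>
      obtain ⟨z, hz, rfl⟩ := hx
      obtain ⟨w, rfl⟩ := hvr z hz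
      exact ⟨1 ⊗ₜ w, by rw [hJ', one_mul]⟩
    | zero => exact ⟨0, map_zero _⟩
    | add a b _ _ ha hb =>
      obtain ⟨w, rfl⟩ := ha
      obtain ⟨w', rfl⟩ := hb
      exact ⟨w + w', map_add _ _ _⟩
    | smul r a _ ha =>
      obtain ⟨w, rfl⟩ := ha
      exact ⟨r • w, map_smul _ _ _⟩
  have hE4 : ∀ z ∈ RingHom.ker ρ * K', ∃ w, J' w = z ∧ Φ w = 0 := by
    intro z hz
    refine Submodule.mul_induction_on hz (fun n hn κ hκ => ?_) (fun a b ha hb => ?_)
    · obtain ⟨w, rfl⟩ := hJsurj n hn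
      refine ⟨κ • w, ?_, ?_⟩
      · rw [map_smul, smul_eq_mul, mul_comm]
      · rw [map_smul, hsP]
        have : b (ρ κ) = 0 := hκ
        rw [this, zero_smul]
    · obtain ⟨w, h3, h4⟩ := ha
      obtain ⟨w', h3', h4'⟩ := hb
      exact ⟨w + w', by rw [map_add, h3, h3'], by rw [map_add, h4, h4', add_zero]⟩
  obtain ⟨w, hw1, hw2⟩ := hE4 _ hE3
  have hw3 : w = ∑ k ∈ t, p k ⊗ₜ[B'] y k := by
    apply hJinj
    rw [hw1, map_sum]
    exact Finset.sum_congr rfl fun k _ => (hJ' _ _).symm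
  rw [hw3, map_sum] at hw2
  rw [← hw2]
  exact Finset.sum_congr rfl fun k _ => by rw [hΦ, hp']

end K584.LciInj
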