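import Mathlib.RingTheory.Localization.Algebra
import Mathlib.RingTheory.Polynomial.Basic
import Mathlib.RingTheory.Flat.Localization
import Mathlib.RingTheory.Flat.Basic

/-!
# Lifting localized polynomial algebras along surjections
-/

set_option autoImplicit false
set_option maxHeartbeats 400000
universe u

namespace K584.LciLift

theorem exists_lift_away {B B' : Type u} [CommRing B] [CommRing B'] (π : B' →+* B) (hπ : Function.Surjective π)
    {n : ℕ} (g : MvPolynomial (Fin n) B) :
    ∃ (P' : Type u) (_ : CommRing P') (_ : Algebra B' P') (_ : Module.Flat B' P')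
      (ρ : P' →+* Localization.Away g), Function.Surjective ρ ∧
        RingHom.ker ρ = (RingHom.ker π).map (algebraMap B' P') ∧
        ∀ x : B', ρ (algebraMap B' P' x) = algebraMap B (Localization.Away g) (π x) := by
  let Φ : MvPolynomial (Fin n) B' →+* MvPolynomial (Fin n) B := MvPolynomial.map π
  have hΦ : Function.Surjective Φ := MvPolynomial.map_surjective π hπ
  obtain ⟨g', rfl⟩ := hΦ g
  have h1 : IsLocalization (Submonoid.map Φ (Submonoid.powers g')) (Localization.Away (Φ g')) := by
    rw [Submonoid.map_powers]; infer_instance
  let ρ : Localization.Away g' →+* Localization.Away (Φ g') :=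
    IsLocalization.map (S := Localization.Away g') (Localization.Away (Φ g')) Φ
      (Submonoid.le_comap_map (Submonoid.powers g'))
  have hρ : ∀ p, ρ (algebraMap _ _ p) = algebraMap _ _ (Φ p) := fun p => IsLocalization.map_eq _ p
  have hflat : Module.Flat B' (Localization.Away g') := by
    have : Module.Flat (MvPolynomial (Fin n) B') (Localization.Away g') :=
      IsLocalization.flat _ (Submonoid.powers g')
    exact Module.Flat.trans B' (MvPolynomial (Fin n) B') (Localization.Away g')
  refine ⟨Localization.Away g', inferInstance, inferInstance, hflat, ρ,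
    IsLocalization.map_surjective_of_surjective (Submonoid.powers g') (Localization.Away g') _ hΦ, ?_, ?_⟩
  · have h2 : RingHom.ker ρ = (RingHom.ker Φ).map (algebraMap _ (Localization.Away g')) :=
      IsLocalization.ker_map (Localization.Away (Φ g')) Φ rfl
    rw [h2, MvPolynomial.ker_map, Ideal.map_map]
    rfl
  · intro x
    rw [IsScalarTower.algebraMap_apply B' (MvPolynomial (Fin n) B') (Localization.Away g'), hρ,
      IsScalarTower.algebraMap_apply B (MvPolynomial (Fin n) B) (Localization.Away (Φ g'))]
    congr 1
    exact MvPolynomial.map_C π x

end K584.LciLift
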