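import Groth.Agent.OmegaSh.K584.TransExact
import Groth.Agent.OmegaSh.K584.LciInj
import Groth.Agent.OmegaSh.K584.LciLift
import Groth.Agent.OmegaSh.K584.LciChartScheme
import Groth.Agent.Sga67.KoszulH1

/-!
# Injectivity in the transitivity sequence of conormal sheaves for lci morphisms
-/

set_option autoImplicit false
set_option maxHeartbeats 400000
universe u
open CategoryTheory CategoryTheory.Limits AlgebraicGeometry Opposite TopologicalSpace

namespace K584.LciTrans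

open Groth.Agent.PerfA.IdealModule Groth.Agent.VarietyB Groth.Agent.Sga67.Sec
open Groth.Agent.Dual.H366.ConSec Groth.Agent.Dual.H366.Conormal
open K584.PullCon K584.Univ K584.ConTrans OmegaSh
open Groth.Agent.UnramB.FirstOrderNbhd (SqZ)

variable {Z Y X Z' Y' : Scheme.{u}} {a : Z ⟶ Y} {b : Y ⟶ X} {i' : Z ⟶ Z'} {c : Z' ⟶ X}
  {j : Y ⟶ Y'} {d : Y' ⟶ X} {m : Z' ⟶ Y'}

theorem le_pre (hm₁ : i' ≫ m = a ≫ j) {W' : Z'.Opens} {V' : Y'.Opens} (h : W' ≤ m ⁻¹ᵁ V') :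
    i' ⁻¹ᵁ W' ≤ a ⁻¹ᵁ (j ⁻¹ᵁ V') := by
  rw [← Scheme.Hom.comp_preimage, ← hm₁]
  exact i'.preimage_mono h

/-- Sections of `a^* C` over small affine opens are generated by pulled back sections. -/
theorem span_pull [IsClosedImmersion j] (hm₁ : i' ≫ m = a ≫ j) {W' : Z'.Opens} {V' : Y'.Opens}
    (hW : IsAffineOpen (i' ⁻¹ᵁ W')) (hV' : IsAffineOpen V') (h : W' ≤ m ⁻¹ᵁ V') :
    Submodule.span Γ(Z, i' ⁻¹ᵁ W') (Set.range fun y : Sec (ClSub.idealMod j.ker) V' =>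
      res ((Scheme.Modules.pullback a).obj (Omega.conormal j)) (le_pre hm₁ h)
        (secS a (Omega.conormal j) (j ⁻¹ᵁ V') (cS j V' y))) = ⊤ := by
  have hq : Coh.IsQCoh (Omega.conormal j) := isQCoh_conormal j
  let e := le_pre hm₁ h
  let i1 : Algebra Γ(Y, j ⁻¹ᵁ V') Γ(Z, i' ⁻¹ᵁ W') := (a.appLE _ _ e).hom.toAlgebra
  let i2 := PullSec.secModule a (Omega.conormal j) e
  have i3 : IsScalarTower Γ(Y, j ⁻¹ᵁ V') Γ(Z, i' ⁻¹ᵁ W')
      Γ((Scheme.Modules.pullback a).obj (Omega.conormal j), i' ⁻¹ᵁ W') :=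
    ⟨fun a b c => by rw [Algebra.smul_def, mul_smul]; rfl⟩
  have hb := PullSec.isBaseChange_secₗ a (Omega.conormal j) e hq (hV'.preimage j) hW
  rw [eq_top_iff]
  rintro x -
  refine hb.inductionOn x (motive := fun x => x ∈ Submodule.span Γ(Z, i' ⁻¹ᵁ W')
    (Set.range fun y : Sec (ClSub.idealMod j.ker) V' =>
      res ((Scheme.Modules.pullback a).obj (Omega.conormal j)) (le_pre hm₁ h)
        (secS a (Omega.conormal j) (j ⁻¹ᵁ V') (cS j V' y)))) (Submodule.zero_mem _) ?_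
    (fun a b hb => Submodule.smul_mem _ a hb) (fun a b ha hb => Submodule.add_mem _ ha hb)
  intro y
  obtain ⟨y, rfl⟩ := cS_surjective j hV' y
  refine Submodule.subset_span ⟨y, ?_⟩
  change res _ (le_pre hm₁ h) (secS a (Omega.conormal j) (j ⁻¹ᵁ V') (cS j V' y)) =
    PullSec.sec a (Omega.conormal j) e (cS j V' y)
  rw [secS_eq]
  rfl

/-- `ψ₁` is injective on sections over charts. -/
theorem injective_chart (hZ' : IsUnivThickening (a ≫ b) i' c) (hY' : IsUnivThickening b j d)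
    (hm₁ : i' ≫ m = a ≫ j) (hm₂ : m ≫ d = c)
    {ψ₁ : (Scheme.Modules.pullback a).obj (Omega.conormal j) ⟶ Omega.conormal i'}
    (hψ₁ : IsConormalMap i' j m a ψ₁) {U : X.Opens} (hU : IsAffineOpen U) {V' : Y'.Opens} (hV' : IsAffineOpen V')
    (eU : V' ≤ d ⁻¹ᵁ U) {W' : Z'.Opens} (hW' : IsAffineOpen W') (h : W' ≤ m ⁻¹ᵁ V') {n : ℕ}
    (g : MvPolynomial (Fin n) Γ(Y, j ⁻¹ᵁ V')) (β : Localization.Away g →+* Γ(Z, i' ⁻¹ᵁ W'))
    (hβ : Function.Surjective β) (hβ' : ∀ r : Γ(Y, j ⁻¹ᵁ V'), β (algebraMap _ (Localization.Away g) r) =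
      a.appLE (j ⁻¹ᵁ V') (i' ⁻¹ᵁ W') (le_pre hm₁ h) r)
    (l : List (Localization.Away g)) (hl : LCI.IsKoszulRegularSeq (Localization.Away g) l)
    (hk : RingHom.ker β = Ideal.ofList l) : Function.Injective (appS ψ₁ (i' ⁻¹ᵁ W')) := by
  have hi' : FOT i' := hZ'.1
  have hj : FOT j := hY'.1
  have hic : IsClosedImmersion i' := hi'.closed
  have hjc : IsClosedImmersion j := hj.closed
  have hWa : IsAffineOpen (i' ⁻¹ᵁ W') := hW'.preimage i'
  have hVa : IsAffineOpen (j ⁻¹ᵁ V') := hV'.preimage j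
  have eW : W' ≤ c ⁻¹ᵁ U := by
    rw [← hm₂]
    exact h.trans (m.preimage_mono eU)
  -- algebra structures
  let _ : Algebra Γ(X, U) Γ(Y', V') := (d.appLE U V' eU).hom.toAlgebra
  let _ : Algebra Γ(X, U) Γ(Y, j ⁻¹ᵁ V') := ((j.app V').hom.comp (d.appLE U V' eU).hom).toAlgebra
  let _ : Algebra Γ(X, U) Γ(Z', W') := (c.appLE U W' eW).hom.toAlgebra
  let _ : Algebra Γ(X, U) Γ(Z, i' ⁻¹ᵁ W') := ((i'.app W').hom.comp (c.appLE U W' eW).hom).toAlgebra
  let πB : Γ(Y', V') →ₐ[Γ(X, U)] Γ(Y, j ⁻¹ᵁ V') := { toRingHom := (j.app V').hom, commutes' := fun r => rfl }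
  let πC : Γ(Z', W') →ₐ[Γ(X, U)] Γ(Z, i' ⁻¹ᵁ W') := { toRingHom := (i'.app W').hom, commutes' := fun r => rfl }
  have hB := K584.UnivAff.isUnivThickeningRing hY' hU hV' eU rfl πB rfl
  have hC := K584.UnivAff.isUnivThickeningRing hZ' hU hW' eW rfl πC rfl
  let mm : Γ(Y', V') →ₐ[Γ(X, U)] Γ(Z', W') :=
    { toRingHom := (m.appLE V' W' h).hom
      commutes' := fun r => by
        have h1 : d.appLE U V' eU ≫ m.appLE V' W' h = c.appLE U W' eW := by
          rw [Scheme.Hom.appLE_comp_appLE]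
          simp only [hm₂]
        exact ConcreteCategory.congr_hom h1 r }
  have hmi : ∀ x, πC (mm x) = (a.appLE (j ⁻¹ᵁ V') (i' ⁻¹ᵁ W') (le_pre hm₁ h)).hom (πB x) := by
    intro x
    have h1 : m.appLE V' W' h ≫ i'.app W' = j.app V' ≫ a.appLE (j ⁻¹ᵁ V') (i' ⁻¹ᵁ W') (le_pre hm₁ h) := by
      rw [Scheme.Hom.app_eq_appLE, Scheme.Hom.app_eq_appLE, Scheme.Hom.appLE_comp_appLE,
        Scheme.Hom.appLE_comp_appLE]
      simp only [hm₁]
    exact ConcreteCategory.congr_hom h1 x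
  obtain ⟨P', _, _, _, ρ, hρ, hρk, hρB⟩ := K584.LciLift.exists_lift_away πB.toRingHom hB.1 g
  have hH1 := Groth.Agent.Sga67.KoszulH1.isH1Regular_of_isKoszulRegularSeq l hl
  have hβk : RingHom.ker β = Ideal.span (Set.range l.get) := by
    rw [hk]
    change Ideal.span {x | x ∈ l} = _
    congr 1
    ext x
    exact List.mem_iff_get
  rw [injective_iff_map_eq_zero]
  intro x hx
  have hxs : x ∈ Submodule.span Γ(Z, i' ⁻¹ᵁ W') (Set.range fun y : Sec (ClSub.idealMod j.ker) V' =>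
      res ((Scheme.Modules.pullback a).obj (Omega.conormal j)) (le_pre hm₁ h)
        (secS a (Omega.conormal j) (j ⁻¹ᵁ V') (cS j V' y))) := by
    rw [span_pull hm₁ hWa hV' h]; trivial
  rw [Finsupp.mem_span_range_iff_exists_finsupp] at hxs
  obtain ⟨cf, rfl⟩ := hxs
  -- lifts of the coefficients
  choose cc hcc using fun y => i'.app_surjective W' hW' (cf y)
  -- images of the generators
  choose sg hsg using fun y : Sec (ClSub.idealMod j.ker) V' => exists_valS (i := i') hm₁.symm h y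
  have hψy : ∀ y : Sec (ClSub.idealMod j.ker) V', appS ψ₁ (i' ⁻¹ᵁ W')
      (res ((Scheme.Modules.pullback a).obj (Omega.conormal j)) (le_pre hm₁ h)
        (secS a (Omega.conormal j) (j ⁻¹ᵁ V') (cS j V' y))) = cS i' W' (sg y) := fun y =>
    (appS_conormalMap (i := i') (i' := j) hψ₁ (U' := V') (U := W') h y (sg y) (hsg y)
      (i' ⁻¹ᵁ W') (le_pre hm₁ h) le_rfl).trans (res_self _ _ _)
  have hsum : cS i' W' (∑ y ∈ cf.support, cc y • sg y) = 0 := by
    rw [← hx, Finsupp.sum, map_sum, map_sum]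
    refine Finset.sum_congr rfl fun y _ => ?_
    have h1 : cS i' W' (cc y • sg y) = i'.app W' (cc y) • cS i' W' (sg y) :=
      secS_smul i' (ClSub.idealMod i'.ker) W' (cc y) (sg y)
    have h2 := (appS ψ₁ (i' ⁻¹ᵁ W')).map_smul (cf y)
      (res ((Scheme.Modules.pullback a).obj (Omega.conormal j)) (le_pre hm₁ h)
        (secS a (Omega.conormal j) (j ⁻¹ᵁ V') (cS j V' y)))
    refine h1.trans (Eq.trans ?_ h2.symm)
    rw [hψy]
    exact congrArg (· • _) (hcc y)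
  have hsum2 : ∑ y ∈ cf.support, cc y • sg y = 0 := by
    apply cS_injective i' hi'.sqZ hW'
    rw [map_zero]
    exact hsum
  have hsum3 : ∑ y ∈ cf.support, cc y * mm (valS j V' y) = 0 := by
    have h1 := congrArg (valS i' W') hsum2
    rw [map_sum, map_zero] at h1
    rw [← h1]
    refine Finset.sum_congr rfl fun y _ => ?_
    rw [map_smul, hsg]
    rfl
  let s : Sec (ClSub.idealMod j.ker) V' →+
      Sec ((Scheme.Modules.pullback a).obj (Omega.conormal j)) (i' ⁻¹ᵁ W') :=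
    { toFun := fun y => res ((Scheme.Modules.pullback a).obj (Omega.conormal j)) (le_pre hm₁ h)
        (secS a (Omega.conormal j) (j ⁻¹ᵁ V') (cS j V' y))
      map_zero' := by rw [map_zero, map_zero, map_zero]
      map_add' := fun y z => by rw [map_add, map_add, map_add] }
  have hs : ∀ (x : Γ(Y', V')) (y : Sec (ClSub.idealMod j.ker) V'), s (x • y) =
      (a.appLE (j ⁻¹ᵁ V') (i' ⁻¹ᵁ W') (le_pre hm₁ h)).hom (πB x) • s y := by
    intro x y
    change res _ _ (secS a (Omega.conormal j) (j ⁻¹ᵁ V') (cS j V' (x • y))) = _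
    have h1 : cS j V' (x • y) = j.app V' x • cS j V' y := secS_smul j (ClSub.idealMod j.ker) V' x y
    rw [h1, secS_smul, res_smul]
    rfl
  have hkey := K584.LciInj.key hB hC mm (a.appLE (j ⁻¹ᵁ V') (i' ⁻¹ᵁ W') (le_pre hm₁ h)).hom hmi ρ hρ hρk β hβ
    (fun x => by rw [hρB, hβ']; rfl) l.get hH1 hβk (valS j V') (valS_injective j V')
    (fun x hx => (app_eq_zero_iffS j V' x).mp hx) (fun y => (app_eq_zero_iffS j V' _).mpr ⟨y, rfl⟩) s hs
    cf.support cc (fun y => y) hsum3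
  rw [Finsupp.sum, ← hkey]
  refine Finset.sum_congr rfl fun y _ => ?_
  rw [← hcc y]
  rfl

/-- Injectivity of `ψ₁` for `a` lci. -/
theorem mono_psi₁ (hZ' : IsUnivThickening (a ≫ b) i' c) (hY' : IsUnivThickening b j d)
    (hm₁ : i' ≫ m = a ≫ j) (hm₂ : m ≫ d = c)
    {ψ₁ : (Scheme.Modules.pullback a).obj (Omega.conormal j) ⟶ Omega.conormal i'}
    (hψ₁ : IsConormalMap i' j m a ψ₁) (hlci : ∀ z : Z, Synt.IsKoszulAt a z) : Mono ψ₁ := by
  have hi' : FOT i' := hZ'.1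
  have hj : FOT j := hY'.1
  have hjc : IsClosedImmersion j := hj.closed
  refine mono_of_basis ψ₁ (fun W => Function.Injective (appS ψ₁ W)) (fun z N hz => ?_) (fun _ h => h)
  obtain ⟨_, ⟨U, hU, rfl⟩, hzU, -⟩ := X.isBasis_affineOpens.exists_subset_of_mem_open
    (Set.mem_univ (d (j (a z)))) isOpen_univ
  obtain ⟨_, ⟨V', hV', rfl⟩, hzV', eU⟩ := Y'.isBasis_affineOpens.exists_subset_of_mem_open
    (show j (a z) ∈ (d ⁻¹ᵁ U : Set Y') from hzU) (d ⁻¹ᵁ U).isOpen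
  obtain ⟨_, ⟨T, hT, rfl⟩, hzT, eT⟩ := Z.isBasis_affineOpens.exists_subset_of_mem_open
    (a := z) (u := (N ⊓ a ⁻¹ᵁ (j ⁻¹ᵁ V') : Z.Opens)) ⟨hz, hzV'⟩ (N ⊓ a ⁻¹ᵁ (j ⁻¹ᵁ V')).isOpen
  have eT2 : T ≤ a ⁻¹ᵁ (j ⁻¹ᵁ V') := fun x hx => (eT hx).2
  obtain ⟨cc, hzc, n, g, H⟩ := K584.LciChart.exists_chart a hlci (hV'.preimage j) hT eT2 z hzT
  obtain ⟨W', hW'⟩ := exists_open hi' (Z.basicOpen cc)
  have hWaff : IsAffineOpen (i' ⁻¹ᵁ W') := by rw [hW']; exact hT.basicOpen cc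
  have hW'aff : IsAffineOpen W' := isAffineOpen_of_fot hi' W' hWaff
  have hWT : i' ⁻¹ᵁ W' ≤ T := by rw [hW']; exact Z.basicOpen_le cc
  have h : W' ≤ m ⁻¹ᵁ V' := by
    refine le_preimage hi' m W' V' ?_
    rw [hm₁]
    exact hWT.trans eT2
  obtain ⟨β, hβ, hβ', l, hl, hk⟩ := H (i' ⁻¹ᵁ W') hW' hWT
  refine ⟨i' ⁻¹ᵁ W', fun x hx => (eT (hWT hx)).1, by rw [hW']; exact hzc, ?_⟩
  exact injective_chart hZ' hY' hm₁ hm₂ hψ₁ hU hV' eU hW'aff h g β hβ hβ' l hl hk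

end K584.LciTrans
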