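import Groth.Agent.Sga67.Sec
import Groth.Agent.CohqA.PullbackAffine
import Groth.Agent.CohqB.LocalQC

/-!
# Morphisms between restrictions to an affine open from linear maps of sections
-/

set_option autoImplicit false
universe u
open CategoryTheory CategoryTheory.Limits AlgebraicGeometry Opposite TopologicalSpace

namespace K584.ResHom

open Groth.Agent.Sga67.Sec

variable {X : Scheme.{u}}

/-- A linear left inverse on sections over an affine open gives a left inverse of the restriction. -/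
theorem exists_restrict_leftInverse {M N : X.Modules} [M.IsQuasicoherent] [N.IsQuasicoherent] (f : N ⟶ M)
    {V : X.Opens} (hV : IsAffineOpen V) (L : Sec M V →ₗ[Γ(X, V)] Sec N V) (hL : ∀ x, L (appS f V x) = x) :
    ∃ r : (Scheme.Modules.restrictFunctor V.ι).obj M ⟶ (Scheme.Modules.restrictFunctor V.ι).obj N,
      (Scheme.Modules.restrictFunctor V.ι).map f ≫ r = 𝟙 _ := by
  have : IsAffine V.toScheme := hV
  have e1 : V.ι ''ᵁ ⊤ ≤ V := V.ι_image_top.le
  have e2 : V ≤ V.ι ''ᵁ ⊤ := V.ι_image_top.ge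
  have hsm : ∀ (K : X.Modules) (a : Γ(V.toScheme, ⊤)) (x : Γ((Scheme.Modules.restrictFunctor V.ι).obj K, ⊤)),
      a • x = (show Sec K (V.ι ''ᵁ ⊤) from
        ((V.ι.appIso ⊤).inv a : Γ(X, V.ι ''ᵁ ⊤)) • (show Sec K (V.ι ''ᵁ ⊤) from x)) := by
    intro K a x
    rfl
  let L' : Γ((Scheme.Modules.restrictFunctor V.ι).obj M, ⊤) →ₗ[Γ(V.toScheme, ⊤)]
      Γ((Scheme.Modules.restrictFunctor V.ι).obj N, ⊤) :=
    { toFun := fun x => res N e1 (L (res M e2 (show Sec M (V.ι ''ᵁ ⊤) from x)))
      map_add' := fun x y => by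
        change res N e1 (L (res M e2 ((show Sec M (V.ι ''ᵁ ⊤) from x) + (show Sec M (V.ι ''ᵁ ⊤) from y)))) = _
        rw [map_add, map_add, map_add]
        rfl
      map_smul' := fun a x => by
        rw [hsm]
        change res N e1 (L (res M e2 ((((V.ι.appIso ⊤).inv a : Γ(X, V.ι ''ᵁ ⊤)) •
          (show Sec M (V.ι ''ᵁ ⊤) from x))))) = _
        rw [res_smul, map_smul, res_smul, resO_resO, resO_self]
        rfl }
  obtain ⟨r, hr, -⟩ := Groth.Agent.CohqA.PullbackAffine.existsUnique_hom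
    ((Scheme.Modules.restrictFunctor V.ι).obj M) ((Scheme.Modules.restrictFunctor V.ι).obj N) L'
  refine ⟨r, ?_⟩
  refine (Groth.Agent.CohqA.PullbackAffine.existsUnique_hom ((Scheme.Modules.restrictFunctor V.ι).obj N)
    ((Scheme.Modules.restrictFunctor V.ι).obj N) LinearMap.id).unique (fun x => ?_) (fun x => rfl)
  change r.app ⊤ (((Scheme.Modules.restrictFunctor V.ι).map f).app ⊤ x) = x
  rw [hr]
  change res N e1 (L (res M e2 (appS f (V.ι ''ᵁ ⊤) x))) = x
  rw [← appS_res, hL, res_res, res_self]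

end K584.ResHom
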