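import Groth.Agent.OmegaSh.K584.UnivAff

/-!
# The retraction of universal thickenings for a formally smooth morphism
-/

set_option autoImplicit false
universe u
open CategoryTheory CategoryTheory.Limits AlgebraicGeometry TopologicalSpace

namespace K584.Retract

open K584.Univ OmegaSh

/-- For `p : X ⟶ Y` formally smooth, `Z' ⟶ X` and `Z'' ⟶ Y` universal thickenings of `Z`, the map `k : Z' ⟶ Z''` has
a retraction over `Z` on every affine open. -/
theorem exists_retraction {Z X Y Z' Z'' : Scheme.{u}} {i : Z ⟶ X} {p : X ⟶ Y}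
    (hp : MoreMor.IsFormallySmoothHom p) {i' : Z ⟶ Z'} {a : Z' ⟶ X} (hZ' : IsUnivThickening i i' a)
    {k : Z' ⟶ Z''} {b : Z'' ⟶ Y} (hZ'' : IsUnivThickening (i ≫ p) (i' ≫ k) b) (hk : k ≫ b = a ≫ p)
    {V'' : Z''.Opens} (hV'' : IsAffineOpen V'') :
    ∃ r : Γ(Z', k ⁻¹ᵁ V'') ⟶ Γ(Z'', V''), k.app V'' ≫ r = 𝟙 _ ∧
      r ≫ (i' ≫ k).app V'' = i'.app (k ⁻¹ᵁ V'') := by
  have hV : IsAffineOpen ((i' ≫ k) ⁻¹ᵁ V'') := K584.UnivAff.isAffineOpen_preimage hZ''.1 hV''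
  have hV' : IsAffineOpen (k ⁻¹ᵁ V'') := isAffineOpen_of_fot hZ'.1 _ hV
  have hsurj := K584.UnivAff.app_surjective hZ''.1 hV''
  have hsq := K584.UnivAff.ker_sq hZ''.1 V''
  let I : Ideal Γ(Z'', V'') := RingHom.ker ((i' ≫ k).app V'').hom
  let ε : (Γ(Z'', V'') ⧸ I) ≃+* Γ(Z, (i' ≫ k) ⁻¹ᵁ V'') := RingHom.quotientKerEquivOfSurjective hsurj
  let e' : Γ(Z, (i' ≫ k) ⁻¹ᵁ V'') ⟶ CommRingCat.of (Γ(Z'', V'') ⧸ I) := CommRingCat.ofHom ε.symm.toRingHom
  have he' : (i' ≫ k).app V'' ≫ e' = CommRingCat.ofHom (Ideal.Quotient.mk I) := by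
    ext x
    change ε.symm ((i' ≫ k).app V'' x) = _
    rw [RingEquiv.symm_apply_eq]
    rfl
  have s2 : Spec.map ((i' ≫ k).app V'') ≫ hV''.fromSpec = hV.fromSpec ≫ i' ≫ k := by
    rw [← IsAffineOpen.SpecMap_appLE_fromSpec (i' ≫ k) hV'' hV le_rfl, Scheme.Hom.app_eq_appLE]
  have s1 : Spec.map (i'.app (k ⁻¹ᵁ V'')) ≫ hV'.fromSpec = hV.fromSpec ≫ i' := by
    rw [← IsAffineOpen.SpecMap_appLE_fromSpec i' hV' hV le_rfl, Scheme.Hom.app_eq_appLE]
    rfl
  have s3 : Spec.map (k.app V'') ≫ hV''.fromSpec = hV'.fromSpec ≫ k := by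
    rw [← IsAffineOpen.SpecMap_appLE_fromSpec k hV'' hV' le_rfl, Scheme.Hom.app_eq_appLE]
  have hmk : Spec.map (CommRingCat.ofHom (Ideal.Quotient.mk I)) ≫ hV''.fromSpec =
      (Spec.map e' ≫ hV.fromSpec) ≫ i' ≫ k := by
    rw [← he', Spec.map_comp, Category.assoc, s2, Category.assoc]
  have hfot : FOT (Spec.map (CommRingCat.ofHom (Ideal.Quotient.mk I))) :=
    K584.UnivAff.fot_SpecMap _ Ideal.Quotient.mk_surjective (by
      rw [CommRingCat.hom_ofHom, Ideal.mk_ker]; exact hsq)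
  obtain ⟨ρ₀, h1, h2⟩ := hp Γ(Z'', V'') I hsq ((Spec.map e' ≫ hV.fromSpec) ≫ i) (hV''.fromSpec ≫ b) (by
    have h4 : (i' ≫ k) ≫ b = i ≫ p := hZ''.2.1
    have h3 : Spec.map (CommRingCat.ofHom (Ideal.Quotient.mk I)) ≫ hV''.fromSpec ≫ b =
        ((Spec.map e' ≫ hV.fromSpec) ≫ i' ≫ k) ≫ b := by
      rw [← hmk, Category.assoc]
    refine h3.trans ?_
    rw [Category.assoc, h4, Category.assoc, Category.assoc, Category.assoc])
  obtain ⟨ρ, ⟨h3, h4⟩, -⟩ := hZ'.2.2 _ _ (Spec.map (CommRingCat.ofHom (Ideal.Quotient.mk I))) ρ₀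
    (Spec.map e' ≫ hV.fromSpec) hfot h1
  have h5 : ρ ≫ k = hV''.fromSpec := by
    refine (hZ''.2.2 _ _ (Spec.map (CommRingCat.ofHom (Ideal.Quotient.mk I))) (hV''.fromSpec ≫ b)
      (Spec.map e' ≫ hV.fromSpec) hfot ?_).unique ⟨?_, ?_⟩ ⟨hmk, rfl⟩
    · have h4 : (i' ≫ k) ≫ b = i ≫ p := hZ''.2.1
      rw [← Category.assoc, hmk, Category.assoc, h4]
    · rw [← Category.assoc, h3, Category.assoc]
    · rw [Category.assoc, hk, ← Category.assoc, h4, h2]
  have hr : Set.range ρ ⊆ Set.range hV'.fromSpec := by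
    rintro _ ⟨t, rfl⟩
    rw [hV'.range_fromSpec]
    have h6 : k (ρ t) ∈ V'' := by
      rw [← Scheme.Hom.comp_apply, h5]
      have : hV''.fromSpec t ∈ Set.range hV''.fromSpec := ⟨t, rfl⟩
      rw [hV''.range_fromSpec] at this
      exact this
    exact h6
  obtain ⟨r, hr'⟩ := Spec.homEquiv.symm.surjective (IsOpenImmersion.lift hV'.fromSpec ρ hr)
  have hr'' : Spec.map r ≫ hV'.fromSpec = ρ := by
    have : Spec.map r = IsOpenImmersion.lift hV'.fromSpec ρ hr := hr'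
    rw [this, IsOpenImmersion.lift_fac]
  refine ⟨r, ?_, ?_⟩
  · apply Spec.map_injective
    rw [← cancel_mono hV''.fromSpec, Spec.map_comp, Category.assoc, s3, ← Category.assoc, hr'', h5,
      Spec.map_id, Category.id_comp]
  · have h6 : Spec.map (CommRingCat.ofHom (Ideal.Quotient.mk I)) ≫ Spec.map r ≫ hV'.fromSpec =
        Spec.map e' ≫ Spec.map (i'.app (k ⁻¹ᵁ V'')) ≫ hV'.fromSpec := by
      have h7 := h3
      rw [Category.assoc, ← s1] at h7
      rw [hr'']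
      exact h7
    rw [← Category.assoc, ← Category.assoc, ← Spec.map_comp, ← Spec.map_comp, cancel_mono] at h6
    have h7 := Spec.map_injective h6
    rw [← he', ← Category.assoc] at h7
    have hmono : Function.Injective e' := ε.symm.injective
    ext x
    apply hmono
    exact ConcreteCategory.congr_hom h7 x

end K584.Retract
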