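import Groth.Agent.OmegaSh.K584.ConTrans
import Groth.Agent.OmegaSh.K584.ResHom
import Groth.Agent.OmegaSh.K583.UnivAffine

/-!
# The conormal sequence of `Z ⊂ Z' → Z''` with local retractions
-/

set_option autoImplicit false
universe u
open CategoryTheory CategoryTheory.Limits AlgebraicGeometry Opposite TopologicalSpace

namespace K584.SplitExact

open Groth.Agent.PerfA.IdealModule Groth.Agent.VarietyB Groth.Agent.Sga67.Sec
open Groth.Agent.Dual.H366.ConSec Groth.Agent.Dual.H366.Conormal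
open K584.PullCon K584.Univ K584.ConTrans OmegaSh K583.AlgUniv K583.DerAffine K583.UnivAffine
open Groth.Agent.UnramB.FirstOrderNbhd (SqZ)

variable {Z Z' Z'' : Scheme.{u}} {i' : Z ⟶ Z'} {k : Z' ⟶ Z''}

section Basis

/-- Good opens. -/
def Good (i'' : Z ⟶ Z'') (V : Z.Opens) : Prop := ∃ V'' : Z''.Opens, IsAffineOpen V'' ∧ V = i'' ⁻¹ᵁ V''

theorem good_basis {i'' : Z ⟶ Z''} (hi : FOT i'') (z : Z) (U : Z.Opens) (hz : z ∈ U) :
    ∃ V, V ≤ U ∧ z ∈ V ∧ Good i'' V := by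
  obtain ⟨U', rfl⟩ := exists_open hi U
  obtain ⟨_, ⟨W', hW', rfl⟩, hzW', hWU⟩ :=
    Z''.isBasis_affineOpens.exists_subset_of_mem_open (a := i'' z) (u := (U' : Z''.Opens)) hz U'.2
  exact ⟨i'' ⁻¹ᵁ W', fun x hx => hWU hx, hzW', W', hW', rfl⟩

end Basis

variable (hi' : FOT i') (hi'' : FOT (i' ≫ k))
  {ψ : (Scheme.Modules.pullback (𝟙 Z)).obj (Omega.conormal (i' ≫ k)) ⟶ Omega.conormal i'}
  (hψ : IsConormalMap i' (i' ≫ k) k (𝟙 Z) ψ)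

include hi' hi'' hψ in
theorem psi_cS (V'' : Z''.Opens) (s'' : Sec (ClSub.idealMod (i' ≫ k).ker) V'')
    (s' : Sec (ClSub.idealMod i'.ker) (k ⁻¹ᵁ V'')) (hs : valS i' (k ⁻¹ᵁ V'') s' = k.app V'' (valS (i' ≫ k) V'' s'')) :
    appS ψ ((i' ≫ k) ⁻¹ᵁ V'') (idS (Omega.conormal (i' ≫ k)) ((i' ≫ k) ⁻¹ᵁ V'') (cS (i' ≫ k) V'' s'')) =
      cS i' (k ⁻¹ᵁ V'') s' := by
  have := hi'.closed
  have := hi''.closed
  have h := appS_conormalMap (i := i') (i' := i' ≫ k) hψ (U' := V'') (U := k ⁻¹ᵁ V'') le_rfl s'' s'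
    (by rw [hs, Scheme.Hom.app_eq_appLE]) ((i' ≫ k) ⁻¹ᵁ V'') le_rfl le_rfl
  have h2 : res ((Scheme.Modules.pullback (𝟙 Z)).obj (Omega.conormal (i' ≫ k)))
      (le_refl ((i' ≫ k) ⁻¹ᵁ V'')) (idS (Omega.conormal (i' ≫ k)) ((i' ≫ k) ⁻¹ᵁ V'')
      (cS (i' ≫ k) V'' s'')) = idS (Omega.conormal (i' ≫ k)) ((i' ≫ k) ⁻¹ᵁ V'')
      (cS (i' ≫ k) V'' s'') := res_self _ _ _
  exact (congrArg (appS ψ ((i' ≫ k) ⁻¹ᵁ V'')) h2).symm.trans (h.trans (res_self _ _ _))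

/-- A section of the ideal of `i'` with given value. -/
theorem exists_s' (hi' : FOT i') (hi'' : FOT (i' ≫ k)) (V'' : Z''.Opens)
    (s'' : Sec (ClSub.idealMod (i' ≫ k).ker) V'') :
    ∃ s' : Sec (ClSub.idealMod i'.ker) (k ⁻¹ᵁ V''), valS i' (k ⁻¹ᵁ V'') s' = k.app V'' (valS (i' ≫ k) V'' s'') := by
  have := hi'.closed
  have := hi''.closed
  obtain ⟨s, hs⟩ := exists_valS (i := i') (i' := i' ≫ k) (g := k) (gZ := 𝟙 Z) (by rw [Category.id_comp])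
    (le_refl (k ⁻¹ᵁ V'')) s''
  exact ⟨s, by rw [hs, Scheme.Hom.app_eq_appLE]⟩

section Retr

variable {V'' : Z''.Opens} (hV'' : IsAffineOpen V'') (r : Γ(Z', k ⁻¹ᵁ V'') ⟶ Γ(Z'', V''))
  (hr₁ : k.app V'' ≫ r = 𝟙 _) (hr₂ : r ≫ (i' ≫ k).app V'' = i'.app (k ⁻¹ᵁ V''))

include hr₁ in
theorem r_k (c : Γ(Z'', V'')) : r (k.app V'' c) = c := ConcreteCategory.congr_hom hr₁ c

include hr₂ in
theorem ik_r (c : Γ(Z', k ⁻¹ᵁ V'')) : (i' ≫ k).app V'' (r c) = i'.app (k ⁻¹ᵁ V'') c :=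
  ConcreteCategory.congr_hom hr₂ c

include hi' hi'' hV'' in
theorem isAffineOpen_k : IsAffineOpen (k ⁻¹ᵁ V'') := by
  have := hi''.closed
  exact isAffineOpen_of_fot hi' _ (hV''.preimage (i' ≫ k))

include hi' hi'' hV'' hr₁ hψ in
theorem psi_injective : Function.Injective (appS ψ ((i' ≫ k) ⁻¹ᵁ V'')) := by
  have := hi'.closed
  have := hi''.closed
  rw [injective_iff_map_eq_zero]
  intro x hx
  obtain ⟨x, rfl⟩ := (idS_bijective _ _).2 x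
  obtain ⟨s'', rfl⟩ := cS_surjective (i' ≫ k) hV'' x
  obtain ⟨s', hs'⟩ := exists_s' hi' hi'' V'' s''
  rw [psi_cS hi' hi'' hψ V'' s'' s' hs'] at hx
  have h1 : s' = 0 := by
    apply cS_injective i' hi'.sqZ (isAffineOpen_k hi' hi'' hV'')
    rw [map_zero]
    exact hx
  rw [h1, map_zero] at hs'
  have h2 : valS (i' ≫ k) V'' s'' = 0 := by
    rw [← r_k r hr₁ (valS (i' ≫ k) V'' s''), ← hs', map_zero]
  have h3 : s'' = 0 := valS_injective (i' ≫ k) V'' (h2.trans (map_zero _).symm)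
  rw [h3, map_zero, map_zero]

/-- The projection to the kernel of the retraction. -/
noncomputable def D : Γ(Z', k ⁻¹ᵁ V'') →+ Γ(Z', k ⁻¹ᵁ V'') where
  toFun c := c - k.app V'' (r c)
  map_zero' := by rw [map_zero, map_zero, sub_zero]
  map_add' a b := by rw [map_add, map_add, add_sub_add_comm]

theorem D_apply (c : Γ(Z', k ⁻¹ᵁ V'')) : D r c = c - k.app V'' (r c) := rfl

include hr₂ in
theorem i_D (c : Γ(Z', k ⁻¹ᵁ V'')) : i'.app (k ⁻¹ᵁ V'') (D r c) = 0 := by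
  have h1 : i'.app (k ⁻¹ᵁ V'') (k.app V'' (r c)) = (i' ≫ k).app V'' (r c) := by
    rw [Scheme.Hom.comp_app]; rfl
  rw [D_apply, map_sub, sub_eq_zero]
  exact (h1.trans (ik_r r hr₂ c)).symm

include hi' hr₁ hr₂ in
theorem isDer_D : IsDer (k.appLE V'' (k ⁻¹ᵁ V'') le_rfl).hom (D r) := by
  refine ⟨fun a b => ?_, fun c => ?_⟩
  · have h1 := hi'.sqZ _ _ _ (i_D r hr₂ a) (i_D r hr₂ b)
    rw [D_apply, D_apply] at h1
    rw [smul_eq_mul, smul_eq_mul, D_apply, D_apply, D_apply, map_mul, map_mul]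
    linear_combination -h1
  · have h1 : (k.appLE V'' (k ⁻¹ᵁ V'') le_rfl).hom c = k.app V'' c := by
      rw [Scheme.Hom.app_eq_appLE]
    rw [h1, D_apply, r_k r hr₁, sub_self]

variable {Ω : Z'.Modules} {d : Der k Ω} (hd : IsUniversal d)
  {φ : Omega.conormal i' ⟶ (Scheme.Modules.pullback i').obj Ω} (hφ : IsConormalDiff i' d φ)

include hφ in
omit hi' in
theorem phi_cS (V' : Z'.Opens) (s : Sec (ClSub.idealMod i'.ker) V') :
    appS φ (i' ⁻¹ᵁ V') (cS i' V' s) = secS i' Ω V' (d.app V' (valS i' V' s)) := by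
  have h1 := hφ V' s
  have h2 : conormalSect i' V' s = cS i' V' s := (secS_eq i' _ s).symm
  have h3 : pullSect i' Ω V' (d.app V' (idealSect i'.ker V' s)) =
      secS i' Ω V' (d.app V' (valS i' V' s)) := (secS_eq i' _ _).symm
  rw [h2, h3] at h1
  exact h1

include hi' hi'' hV'' hψ hφ in
theorem comp_zero_aux (x : Sec ((Scheme.Modules.pullback (𝟙 Z)).obj (Omega.conormal (i' ≫ k))) ((i' ≫ k) ⁻¹ᵁ V'')) :
    appS φ ((i' ≫ k) ⁻¹ᵁ V'') (appS ψ ((i' ≫ k) ⁻¹ᵁ V'') x) = 0 := by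
  have := hi'.closed
  have := hi''.closed
  obtain ⟨x, rfl⟩ := (idS_bijective _ _).2 x
  obtain ⟨s'', rfl⟩ := cS_surjective (i' ≫ k) hV'' x
  obtain ⟨s', hs'⟩ := exists_s' hi' hi'' V'' s''
  rw [psi_cS hi' hi'' hψ V'' s'' s' hs']
  refine (phi_cS hφ (k ⁻¹ᵁ V'') s').trans ?_
  rw [hs']
  have h1 : d.app (k ⁻¹ᵁ V'') (k.app V'' (valS (i' ≫ k) V'' s'')) = 0 := app_base d V'' _
  rw [h1]
  exact map_zero (secS i' Ω (k ⁻¹ᵁ V''))

include hi' hi'' hV'' hr₂ hd hφ in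
theorem phi_surjective : Function.Surjective (appS φ ((i' ≫ k) ⁻¹ᵁ V'')) := by
  have := hi'.closed
  have := hi''.closed
  have hV' := isAffineOpen_k hi' hi'' hV''
  have hq : Coh.IsQCoh Ω := isQuasicoherent_of_isUniversal hd
  intro y
  obtain ⟨w, rfl⟩ := secS_surjective i' Ω hq hV' y
  suffices key : ∀ w : Γ(Ω, k ⁻¹ᵁ V''), w ∈ Submodule.span Γ(Z', k ⁻¹ᵁ V'') (Set.range (d.app (k ⁻¹ᵁ V''))) →
      ∃ x, appS φ ((i' ≫ k) ⁻¹ᵁ V'') x = secS i' Ω (k ⁻¹ᵁ V'') w by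
    exact key w (by rw [(isAlgUniv_app hd hV' hV'' le_rfl).span_eq_top]; trivial)
  clear w
  intro w hw
  induction hw using Submodule.span_induction with
  | mem w hw =>
    obtain ⟨f, rfl⟩ := hw
    obtain ⟨s, hs⟩ := (app_eq_zero_iffS i' (k ⁻¹ᵁ V'') (D r f)).mp (i_D r hr₂ f)
    refine ⟨cS i' (k ⁻¹ᵁ V'') s, ?_⟩
    refine (phi_cS hφ (k ⁻¹ᵁ V'') s).trans ?_
    rw [hs, D_apply, map_sub]
    have h1 : d.app (k ⁻¹ᵁ V'') (k.app V'' (r f)) = 0 := app_base d V'' _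
    rw [h1, sub_zero]
  | zero => exact ⟨0, by rw [map_zero]; exact (map_zero (secS i' Ω (k ⁻¹ᵁ V''))).symm⟩
  | add a b _ _ ha hb =>
    obtain ⟨x, hx⟩ := ha
    obtain ⟨x', hx'⟩ := hb
    refine ⟨x + x', ?_⟩
    rw [map_add, hx, hx']
    exact (map_add (secS i' Ω (k ⁻¹ᵁ V'')) a b).symm
  | smul a b _ hb =>
    obtain ⟨x, hx⟩ := hb
    let a' : Γ(Z, (i' ≫ k) ⁻¹ᵁ V'') := i'.app (k ⁻¹ᵁ V'') a
    refine ⟨a' • x, ?_⟩
    rw [map_smul, hx]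
    exact (secS_smul i' Ω (k ⁻¹ᵁ V'') a b).symm

include hi' hi'' hV'' hr₁ hr₂ hd hφ hψ in
theorem exact_aux (x : Sec (Omega.conormal i') ((i' ≫ k) ⁻¹ᵁ V'')) (hx : appS φ ((i' ≫ k) ⁻¹ᵁ V'') x = 0) :
    ∃ t, appS ψ ((i' ≫ k) ⁻¹ᵁ V'') t = x := by
  have := hi'.closed
  have := hi''.closed
  have hV' := isAffineOpen_k hi' hi'' hV''
  have hq : Coh.IsQCoh Ω := isQuasicoherent_of_isUniversal hd
  obtain ⟨s', rfl⟩ := cS_surjective i' hV' x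
  have h1 : secS i' Ω (k ⁻¹ᵁ V'') (d.app (k ⁻¹ᵁ V'') (valS i' (k ⁻¹ᵁ V'') s')) = 0 :=
    (phi_cS hφ (k ⁻¹ᵁ V'') s').symm.trans hx
  have h2 := mem_smul_of_secS_eq_zero i' Ω hq hV' _ h1
  have hA := isAlgUniv_app hd hV' hV'' le_rfl
  obtain ⟨ℓ, hℓ, -⟩ := hA.lift Γ(Z', k ⁻¹ᵁ V'') (D r) (isDer_D hi' r hr₁ hr₂)
  have hℓI : ∀ w : Γ(Ω, k ⁻¹ᵁ V''), i'.app (k ⁻¹ᵁ V'') (ℓ w) = 0 := by
    intro w
    have hw : w ∈ Submodule.span Γ(Z', k ⁻¹ᵁ V'') (Set.range (d.app (k ⁻¹ᵁ V''))) := by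
      rw [hA.span_eq_top]; trivial
    induction hw using Submodule.span_induction with
    | mem w hw =>
      obtain ⟨f, rfl⟩ := hw
      rw [hℓ, i_D r hr₂ f]
    | zero => rw [map_zero, map_zero]
    | add a b _ _ ha hb => rw [map_add, map_add, ha, hb, add_zero]
    | smul a b _ hb => rw [map_smul, smul_eq_mul, map_mul, hb, mul_zero]
  have h3 : ∀ w : Γ(Ω, k ⁻¹ᵁ V''), w ∈ RingHom.ker (i'.app (k ⁻¹ᵁ V'')).hom •
      (⊤ : Submodule Γ(Z', k ⁻¹ᵁ V'') Γ(Ω, k ⁻¹ᵁ V'')) → ℓ w = 0 := by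
    intro w hw
    refine Submodule.smul_induction_on hw ?_ ?_
    · intro a ha b _
      rw [map_smul, smul_eq_mul]
      exact hi'.sqZ _ _ _ ha (hℓI b)
    · intro a b ha hb
      rw [map_add, ha, hb, add_zero]
  have h4 := h3 _ h2
  rw [hℓ, D_apply, sub_eq_zero] at h4
  have h5 : (i' ≫ k).app V'' (r (valS i' (k ⁻¹ᵁ V'') s')) = 0 := by
    have h6 : i'.app (k ⁻¹ᵁ V'') (valS i' (k ⁻¹ᵁ V'') s') = 0 := (app_eq_zero_iffS i' _ _).mpr ⟨s', rfl⟩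
    exact (ik_r r hr₂ _).trans h6
  obtain ⟨s'', hs''⟩ := (app_eq_zero_iffS (i' ≫ k) V'' _).mp h5
  refine ⟨idS (Omega.conormal (i' ≫ k)) _ (cS (i' ≫ k) V'' s''), ?_⟩
  exact psi_cS hi' hi'' hψ V'' s'' s' (by rw [hs'']; exact h4)

include hi' hi'' hV'' hr₁ hr₂ hψ in
/-- The linear retraction of `ψ` on sections. -/
theorem exists_linear : ∃ L : Sec (Omega.conormal i') ((i' ≫ k) ⁻¹ᵁ V'') →ₗ[Γ(Z, (i' ≫ k) ⁻¹ᵁ V'')]
    Sec ((Scheme.Modules.pullback (𝟙 Z)).obj (Omega.conormal (i' ≫ k))) ((i' ≫ k) ⁻¹ᵁ V''),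
    ∀ x, L (appS ψ ((i' ≫ k) ⁻¹ᵁ V'') x) = x := by
  have := hi'.closed
  have := hi''.closed
  have hV' := isAffineOpen_k hi' hi'' hV''
  -- the map on sections of the ideals
  have key : ∀ s' : Sec (ClSub.idealMod i'.ker) (k ⁻¹ᵁ V''), ∃ s'' : Sec (ClSub.idealMod (i' ≫ k).ker) V'',
      valS (i' ≫ k) V'' s'' = r (valS i' (k ⁻¹ᵁ V'') s') := by
    intro s'
    exact (app_eq_zero_iffS (i' ≫ k) V'' _).mp (by
      have h6 : i'.app (k ⁻¹ᵁ V'') (valS i' (k ⁻¹ᵁ V'') s') = 0 := (app_eq_zero_iffS i' _ _).mpr ⟨s', rfl⟩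
      exact (ik_r r hr₂ _).trans h6)
  choose ρ hρ using key
  have hρadd : ∀ a b, ρ (a + b) = ρ a + ρ b := fun a b => by
    apply valS_injective
    rw [map_add, hρ, hρ, hρ, map_add, map_add]
  have hρsmul : ∀ (c : Γ(Z', k ⁻¹ᵁ V'')) (s : Sec (ClSub.idealMod i'.ker) (k ⁻¹ᵁ V'')), ρ (c • s) = r c • ρ s := fun c s => by
    apply valS_injective
    rw [map_smul, hρ, hρ, map_smul, smul_eq_mul, smul_eq_mul, map_mul]
  choose σ hσ using (cS_surjective i' hV' : Function.Surjective (cS i' (k ⁻¹ᵁ V'')))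
  have hinj := cS_injective i' hi'.sqZ hV'
  have hσadd : ∀ a b, σ (a + b) = σ a + σ b := fun a b => by
    apply hinj
    rw [map_add, hσ, hσ, hσ]
  have hσsmul : ∀ (c : Γ(Z', k ⁻¹ᵁ V'')) (x : Sec (Omega.conormal i') (i' ⁻¹ᵁ (k ⁻¹ᵁ V''))),
      σ (i'.app (k ⁻¹ᵁ V'') c • x) = c • σ x := fun c x => by
    apply hinj
    rw [hσ]
    have := secS_smul i' (ClSub.idealMod i'.ker) (k ⁻¹ᵁ V'') c (σ x)
    refine Eq.trans ?_ this.symm
    have h2 : secS i' (ClSub.idealMod i'.ker) (k ⁻¹ᵁ V'') (σ x) = x := hσ x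
    rw [h2]
    rfl
  refine ⟨{ toFun := fun x => idS (Omega.conormal (i' ≫ k)) ((i' ≫ k) ⁻¹ᵁ V'') (cS (i' ≫ k) V'' (ρ (σ x)))
            map_add' := fun x y => ?_
            map_smul' := fun a x => ?_ }, fun x => ?_⟩
  · have h1 : σ (x + y) = σ x + σ y := hσadd x y
    rw [h1, hρadd, map_add, map_add]
  · obtain ⟨c, hc⟩ := i'.app_surjective (k ⁻¹ᵁ V'') hV' a
    have h1 : σ (a • x) = c • σ x := by
      rw [← hσsmul c x, ← hc]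
      rfl
    rw [h1, hρsmul, RingHom.id_apply, ← map_smul]
    congr 1
    have h2 : (i' ≫ k).app V'' (r c) = a := (ik_r r hr₂ c).trans hc
    have h3 := secS_smul (i' ≫ k) (ClSub.idealMod (i' ≫ k).ker) V'' (r c) (ρ (σ x))
    rw [h2] at h3
    exact h3
  · obtain ⟨x, rfl⟩ := (idS_bijective _ _).2 x
    obtain ⟨s'', rfl⟩ := cS_surjective (i' ≫ k) hV'' x
    obtain ⟨s', hs'⟩ := exists_s' hi' hi'' V'' s''
    change idS _ _ (cS _ _ (ρ (σ (appS ψ ((i' ≫ k) ⁻¹ᵁ V'') _)))) = _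
    have h1 : σ (appS ψ ((i' ≫ k) ⁻¹ᵁ V'') (idS (Omega.conormal (i' ≫ k)) ((i' ≫ k) ⁻¹ᵁ V'') (cS (i' ≫ k) V'' s''))) =
        s' := by
      apply hinj
      rw [hσ]
      exact psi_cS hi' hi'' hψ V'' s'' s' hs'
    rw [h1]
    have h2 : ρ s' = s'' := by
      apply valS_injective
      rw [hρ, hs', r_k r hr₁]
    rw [h2]

end Retr

/-- The conormal sequence of `Z ⊂ Z' → Z''` when `Z' → Z''` has retractions on affine opens. -/
theorem main {Ω : Z'.Modules} {d : Der k Ω} (hd : IsUniversal d)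
    {φ : Omega.conormal i' ⟶ (Scheme.Modules.pullback i').obj Ω} (hφ : IsConormalDiff i' d φ)
    (hi' : FOT i') (hi'' : FOT (i' ≫ k))
    (hψ : IsConormalMap i' (i' ≫ k) k (𝟙 Z) ψ)
    (H : ∀ V'' : Z''.Opens, IsAffineOpen V'' → ∃ r : Γ(Z', k ⁻¹ᵁ V'') ⟶ Γ(Z'', V''),
      k.app V'' ≫ r = 𝟙 _ ∧ r ≫ (i' ≫ k).app V'' = i'.app (k ⁻¹ᵁ V'')) :
    ∃ w : ψ ≫ φ = 0, (ShortComplex.mk ψ φ w).ShortExact ∧
      ∀ z : Z, ∃ (U : Z.Opens) (r : (Scheme.Modules.restrictFunctor U.ι).obj (Omega.conormal i') ⟶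
          (Scheme.Modules.restrictFunctor U.ι).obj ((Scheme.Modules.pullback (𝟙 Z)).obj (Omega.conormal (i' ≫ k)))),
        z ∈ U ∧ (Scheme.Modules.restrictFunctor U.ι).map ψ ≫ r = 𝟙 _ := by
  have := hi'.closed
  have := hi''.closed
  have w : ψ ≫ φ = 0 := by
    refine hom_ext_of_basis _ _ (Good (i' ≫ k)) (good_basis hi'') ?_
    rintro _ ⟨V'', hV'', rfl⟩ x
    rw [appS_comp, appS_zero]
    exact comp_zero_aux hi' hi'' hψ hV'' hφ x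
  have hm : Mono ψ := by
    refine mono_of_basis _ (Good (i' ≫ k)) (good_basis hi'') ?_
    rintro _ ⟨V'', hV'', rfl⟩
    obtain ⟨r, hr₁, hr₂⟩ := H V'' hV''
    exact psi_injective hi' hi'' hψ hV'' r hr₁
  have he : Epi φ := by
    refine epi_of_basis _ (Good (i' ≫ k)) (good_basis hi'') ?_
    rintro _ ⟨V'', hV'', rfl⟩
    obtain ⟨r, hr₁, hr₂⟩ := H V'' hV''
    exact phi_surjective hi' hi'' hV'' r hr₂ hd hφ
  have hex : (ShortComplex.mk ψ φ w).Exact := by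
    refine exact_of_basis (Good (i' ≫ k)) (good_basis hi'') ?_
    rintro _ ⟨V'', hV'', rfl⟩ x hx
    obtain ⟨r, hr₁, hr₂⟩ := H V'' hV''
    exact exact_aux hi' hi'' hψ hV'' r hr₁ hr₂ hd hφ x hx
  refine ⟨w, ⟨hex⟩, fun z => ?_⟩
  obtain ⟨_, -, hz, V'', hV'', rfl⟩ := good_basis hi'' z ⊤ trivial
  obtain ⟨r, hr₁, hr₂⟩ := H V'' hV''
  obtain ⟨L, hL⟩ := exists_linear hi' hi'' hψ hV'' r hr₁ hr₂
  have h1 : (Omega.conormal i').IsQuasicoherent := isQCoh_conormal i'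
  have h2 : (Omega.conormal (i' ≫ k)).IsQuasicoherent := isQCoh_conormal (i' ≫ k)
  have h3 : ((Scheme.Modules.pullback (𝟙 Z)).obj (Omega.conormal (i' ≫ k))).IsQuasicoherent := inferInstance
  obtain ⟨ρ, hρ⟩ := K584.ResHom.exists_restrict_leftInverse ψ (hV''.preimage (i' ≫ k)) L hL
  exact ⟨(i' ≫ k) ⁻¹ᵁ V'', ρ, hz, hρ⟩

end K584.SplitExact
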