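import Groth.Agent.OmegaSh.K584.ConTrans

/-!
# Right exactness of the transitivity sequence of conormal sheaves of universal thickenings
-/

set_option autoImplicit false
universe u
open CategoryTheory CategoryTheory.Limits AlgebraicGeometry Opposite TopologicalSpace

namespace K584.TransExact

open Groth.Agent.PerfA.IdealModule Groth.Agent.VarietyB Groth.Agent.Sga67.Sec
open Groth.Agent.Dual.H366.ConSec Groth.Agent.Dual.H366.Conormal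
open K584.PullCon K584.Univ K584.ConTrans OmegaSh
open Groth.Agent.UnramB.FirstOrderNbhd (SqZ)

/-- The situation: `Z ⊂ Z'' = Y ×_{Y'} Z' ⊂ Z'`, all schemes over `Y ⊂ Y'`. -/
structure Setup (Z Y Z' Y' Z'' : Scheme.{u}) where
  i'' : Z ⟶ Z''
  n : Z'' ⟶ Z'
  e : Z'' ⟶ Y
  j : Y ⟶ Y'
  m : Z' ⟶ Y'
  pb : IsPullback e n j m
  hj : FOT j
  hi'' : FOT i''
  hi' : FOT (i'' ≫ n)

variable {Z Y Z' Y' Z'' : Scheme.{u}} (S : Setup Z Y Z' Y' Z'')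

namespace Setup

theorem cj : IsClosedImmersion S.j := S.hj.closed
theorem ci'' : IsClosedImmersion S.i'' := S.hi''.closed
theorem ci' : IsClosedImmersion (S.i'' ≫ S.n) := S.hi'.closed
theorem cn : IsClosedImmersion S.n := by
  have := S.cj
  exact MorphismProperty.of_isPullback (P := @IsClosedImmersion) S.pb inferInstance

/-- Good opens of `Z`. -/
def Good (W : Z.Opens) : Prop := ∃ (W' : Z'.Opens) (V' : Y'.Opens), IsAffineOpen W' ∧ IsAffineOpen V' ∧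
  W' ≤ S.m ⁻¹ᵁ V' ∧ W = (S.i'' ≫ S.n) ⁻¹ᵁ W'

theorem good_basis (z : Z) (U : Z.Opens) (hz : z ∈ U) : ∃ V, V ≤ U ∧ z ∈ V ∧ S.Good V := by
  obtain ⟨U', rfl⟩ := exists_open S.hi' U
  obtain ⟨_, ⟨V', hV', rfl⟩, hzV', -⟩ :=
    Y'.isBasis_affineOpens.exists_subset_of_mem_open (Set.mem_univ (S.m ((S.i'' ≫ S.n) z))) isOpen_univ
  obtain ⟨_, ⟨W', hW', rfl⟩, hzW', hWU⟩ :=
    Z'.isBasis_affineOpens.exists_subset_of_mem_open (a := (S.i'' ≫ S.n) z)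
      (u := (U' ⊓ S.m ⁻¹ᵁ V' : Z'.Opens)) ⟨hz, hzV'⟩ (U' ⊓ S.m ⁻¹ᵁ V').2
  exact ⟨(S.i'' ≫ S.n) ⁻¹ᵁ W', fun x hx => (hWU hx).1, hzW', W', V', hW', hV', fun x hx => (hWU hx).2, rfl⟩

theorem sq : (S.i'' ≫ S.e) ≫ S.j = (S.i'' ≫ S.n) ≫ S.m := by
  rw [Category.assoc, Category.assoc, S.pb.w]

theorem le_pre {W' : Z'.Opens} {V' : Y'.Opens} (h : W' ≤ S.m ⁻¹ᵁ V') :
    (S.i'' ≫ S.n) ⁻¹ᵁ W' ≤ (S.i'' ≫ S.e) ⁻¹ᵁ (S.j ⁻¹ᵁ V') := by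
  rw [← Scheme.Hom.comp_preimage, S.sq]
  exact (S.i'' ≫ S.n).preimage_mono h

theorem ker_n {W' : Z'.Opens} {V' : Y'.Opens} (hW' : IsAffineOpen W') (hV' : IsAffineOpen V')
    (h : W' ≤ S.m ⁻¹ᵁ V') :
    RingHom.ker (S.n.app W').hom = (RingHom.ker (S.j.app V').hom).map (S.m.appLE V' W' h).hom := by
  have := S.cj
  have := S.cn
  have h1 : S.n.ker = S.j.ker.comap S.m := by
    rw [← Scheme.IdealSheafData.ker_fst_of_isClosedImmersion]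
    have h2 := S.pb.flip.isoPullback_hom_fst
    rw [← h2, Scheme.Hom.ker_comp_of_isIso]
  have h3 := Groth.Agent.Divis.IdealComap.ideal_comap S.j.ker S.m ⟨V', hV'⟩ ⟨W', hW'⟩ h
  rw [← h1, Scheme.Hom.ker_apply, Scheme.Hom.ker_apply] at h3
  exact h3

variable (ψ₁ : (Scheme.Modules.pullback (S.i'' ≫ S.e)).obj (Omega.conormal S.j) ⟶ Omega.conormal (S.i'' ≫ S.n))
  (hψ₁ : IsConormalMap (S.i'' ≫ S.n) S.j S.m (S.i'' ≫ S.e) ψ₁)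
  (ψ₂ : (Scheme.Modules.pullback (𝟙 Z)).obj (Omega.conormal (S.i'' ≫ S.n)) ⟶ Omega.conormal S.i'')
  (hψ₂ : IsConormalMap S.i'' (S.i'' ≫ S.n) S.n (𝟙 Z) ψ₂)

include hψ₂ in
/-- `ψ₂` on classes of sections of the ideal. -/
theorem psi₂_cS (W' : Z'.Opens) (s : Sec (ClSub.idealMod (S.i'' ≫ S.n).ker) W')
    (t : Sec (ClSub.idealMod S.i''.ker) (S.n ⁻¹ᵁ W')) (hst : valS S.i'' (S.n ⁻¹ᵁ W') t =
      S.n.app W' (valS (S.i'' ≫ S.n) W' s)) :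
    appS ψ₂ ((S.i'' ≫ S.n) ⁻¹ᵁ W') (idS (Omega.conormal (S.i'' ≫ S.n)) ((S.i'' ≫ S.n) ⁻¹ᵁ W')
      (cS (S.i'' ≫ S.n) W' s)) = cS S.i'' (S.n ⁻¹ᵁ W') t := by
  have := S.ci''
  have := S.ci'
  have h := appS_conormalMap (i := S.i'') (i' := S.i'' ≫ S.n) hψ₂ (U' := W') (U := S.n ⁻¹ᵁ W') le_rfl s t
    (by rw [hst, Scheme.Hom.app_eq_appLE]) ((S.i'' ≫ S.n) ⁻¹ᵁ W') le_rfl le_rfl
  have h2 : res ((Scheme.Modules.pullback (𝟙 Z)).obj (Omega.conormal (S.i'' ≫ S.n)))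
      (le_refl ((S.i'' ≫ S.n) ⁻¹ᵁ W')) (idS (Omega.conormal (S.i'' ≫ S.n)) ((S.i'' ≫ S.n) ⁻¹ᵁ W')
      (cS (S.i'' ≫ S.n) W' s)) = idS (Omega.conormal (S.i'' ≫ S.n)) ((S.i'' ≫ S.n) ⁻¹ᵁ W')
      (cS (S.i'' ≫ S.n) W' s) := res_self _ _ _
  exact (congrArg (appS ψ₂ ((S.i'' ≫ S.n) ⁻¹ᵁ W')) h2).symm.trans (h.trans (res_self _ _ _))

include hψ₁ in
/-- `ψ₁` on classes of sections of the ideal. -/
theorem psi₁_cS {W' : Z'.Opens} {V' : Y'.Opens} (h : W' ≤ S.m ⁻¹ᵁ V')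
    (y : Sec (ClSub.idealMod S.j.ker) V')
    (s : Sec (ClSub.idealMod (S.i'' ≫ S.n).ker) W')
    (hs : valS (S.i'' ≫ S.n) W' s = S.m.appLE V' W' h (valS S.j V' y)) :
    appS ψ₁ ((S.i'' ≫ S.n) ⁻¹ᵁ W') (res _ (S.le_pre h)
      (secS (S.i'' ≫ S.e) (Omega.conormal S.j) (S.j ⁻¹ᵁ V') (cS S.j V' y))) = cS (S.i'' ≫ S.n) W' s := by
  have := S.cj
  have := S.ci'
  have h := appS_conormalMap (i := S.i'' ≫ S.n) (i' := S.j) hψ₁ (U' := V') (U := W') h y s hs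
    ((S.i'' ≫ S.n) ⁻¹ᵁ W') (S.le_pre h) le_rfl
  exact h.trans (res_self _ _ _)

include hψ₁ in
/-- Sections of the ideal with value in `J·O` are in the image of `ψ₁`. -/
theorem exists_psi₁ {W' : Z'.Opens} {V' : Y'.Opens} (h : W' ≤ S.m ⁻¹ᵁ V')
    (c : Γ(Z', W')) (hc : c ∈ (RingHom.ker (S.j.app V').hom).map (S.m.appLE V' W' h).hom) :
    ∃ s : Sec (ClSub.idealMod (S.i'' ≫ S.n).ker) W', valS (S.i'' ≫ S.n) W' s = c ∧
      ∃ t : Sec ((Scheme.Modules.pullback (S.i'' ≫ S.e)).obj (Omega.conormal S.j)) ((S.i'' ≫ S.n) ⁻¹ᵁ W'),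
        appS ψ₁ ((S.i'' ≫ S.n) ⁻¹ᵁ W') t = cS (S.i'' ≫ S.n) W' s := by
  have := S.cj
  have := S.ci'
  induction hc using Submodule.span_induction with
  | mem x hx =>
    obtain ⟨a, ha, rfl⟩ := hx
    obtain ⟨y, rfl⟩ := (app_eq_zero_iffS S.j V' a).mp ha
    obtain ⟨s, hs⟩ := exists_valS (i := S.i'' ≫ S.n) S.sq h y
    exact ⟨s, hs, _, S.psi₁_cS ψ₁ hψ₁ h y s hs⟩
  | zero => exact ⟨0, map_zero _, 0, by rw [map_zero, map_zero]⟩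
  | add a b _ _ ha hb =>
    obtain ⟨s, h1, t, h2⟩ := ha
    obtain ⟨s', h1', t', h2'⟩ := hb
    exact ⟨s + s', by rw [map_add, h1, h1'], t + t', by rw [map_add, map_add, h2, h2']⟩
  | smul a b _ hb =>
    obtain ⟨s, h1, t, h2⟩ := hb
    refine ⟨a • s, by rw [map_smul, h1], (S.i'' ≫ S.n).app W' a • t, ?_⟩
    rw [map_smul, h2]
    exact (secS_smul (S.i'' ≫ S.n) _ W' a s).symm

include hψ₂ in
theorem epi_psi₂ : Epi ψ₂ := by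
  have := S.ci''
  have := S.ci'
  have := S.cn
  refine epi_of_basis ψ₂ S.Good S.good_basis ?_
  rintro _ ⟨W', V', hW', hV', h, rfl⟩ t
  obtain ⟨t', ht'⟩ := cS_surjective S.i'' (hW'.preimage S.n) t
  obtain ⟨c, hc⟩ := S.n.app_surjective W' hW' (valS S.i'' (S.n ⁻¹ᵁ W') t')
  have hc2 : (S.i'' ≫ S.n).app W' c = 0 := by
    rw [Scheme.Hom.comp_app]
    change S.i''.app _ (S.n.app W' c) = 0
    rw [hc]
    exact (app_eq_zero_iffS S.i'' _ _).mpr ⟨t', rfl⟩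
  obtain ⟨s, hs⟩ := (app_eq_zero_iffS (S.i'' ≫ S.n) W' c).mp hc2
  refine ⟨idS (Omega.conormal (S.i'' ≫ S.n)) _ (cS (S.i'' ≫ S.n) W' s), ?_⟩
  have h1 := S.psi₂_cS ψ₂ hψ₂ W' s t' (by rw [hs, hc])
  exact h1.trans ht'

include hψ₂ in
/-- Exactness on sections. -/
theorem exists_of_psi₂_eq_zero (hψ₁ : IsConormalMap (S.i'' ≫ S.n) S.j S.m (S.i'' ≫ S.e) ψ₁)
    {W' : Z'.Opens} {V' : Y'.Opens} (hW' : IsAffineOpen W') (hV' : IsAffineOpen V')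
    (h : W' ≤ S.m ⁻¹ᵁ V') (x : Sec (Omega.conormal (S.i'' ≫ S.n)) ((S.i'' ≫ S.n) ⁻¹ᵁ W'))
    (hx : appS ψ₂ ((S.i'' ≫ S.n) ⁻¹ᵁ W') (idS (Omega.conormal (S.i'' ≫ S.n)) _ x) = 0) :
    ∃ t, appS ψ₁ ((S.i'' ≫ S.n) ⁻¹ᵁ W') t = x := by
  have := S.ci''
  have := S.ci'
  have := S.cn
  obtain ⟨s, rfl⟩ := cS_surjective (S.i'' ≫ S.n) hW' x
  have hc2 : S.i''.app (S.n ⁻¹ᵁ W') (S.n.app W' (valS (S.i'' ≫ S.n) W' s)) = 0 := by
    have : (S.i'' ≫ S.n).app W' (valS (S.i'' ≫ S.n) W' s) = 0 :=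
      (app_eq_zero_iffS (S.i'' ≫ S.n) W' _).mpr ⟨s, rfl⟩
    rw [Scheme.Hom.comp_app] at this
    exact this
  obtain ⟨t', ht'⟩ := (app_eq_zero_iffS S.i'' _ _).mp hc2
  have h1 := S.psi₂_cS ψ₂ hψ₂ W' s t' ht'
  rw [hx] at h1
  have h2 : t' = 0 := by
    apply cS_injective S.i'' S.hi''.sqZ (hW'.preimage S.n)
    rw [map_zero]
    exact h1.symm
  rw [h2, map_zero] at ht'
  have h3 : valS (S.i'' ≫ S.n) W' s ∈ RingHom.ker (S.n.app W').hom := ht'.symm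
  rw [S.ker_n hW' hV' h] at h3
  obtain ⟨s', h4, t, h5⟩ := S.exists_psi₁ ψ₁ hψ₁ h _ h3
  have h6 := valS_injective (S.i'' ≫ S.n) W' h4
  subst h6
  exact ⟨t, h5⟩

/-- Spanning set of the sections of `i^* C_{Y/Y'}`. -/
theorem span_pull {W' : Z'.Opens} {V' : Y'.Opens} (hW' : IsAffineOpen W') (hV' : IsAffineOpen V')
    (h : W' ≤ S.m ⁻¹ᵁ V') :
    Submodule.span Γ(Z, (S.i'' ≫ S.n) ⁻¹ᵁ W') (Set.range fun y : Sec (ClSub.idealMod S.j.ker) V' =>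
      res ((Scheme.Modules.pullback (S.i'' ≫ S.e)).obj (Omega.conormal S.j)) (S.le_pre h)
        (secS (S.i'' ≫ S.e) (Omega.conormal S.j) (S.j ⁻¹ᵁ V') (cS S.j V' y))) = ⊤ := by
  have := S.cj
  have := S.ci'
  have hq : Coh.IsQCoh (Omega.conormal S.j) := isQCoh_conormal S.j
  let e := S.le_pre h
  let g := S.i'' ≫ S.e
  let i1 : Algebra Γ(Y, S.j ⁻¹ᵁ V') Γ(Z, (S.i'' ≫ S.n) ⁻¹ᵁ W') := (g.appLE _ _ e).hom.toAlgebra
  let i2 := PullSec.secModule g (Omega.conormal S.j) e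
  have i3 : IsScalarTower Γ(Y, S.j ⁻¹ᵁ V') Γ(Z, (S.i'' ≫ S.n) ⁻¹ᵁ W')
      Γ((Scheme.Modules.pullback g).obj (Omega.conormal S.j), (S.i'' ≫ S.n) ⁻¹ᵁ W') :=
    ⟨fun a b c => by rw [Algebra.smul_def, mul_smul]; rfl⟩
  have hb := PullSec.isBaseChange_secₗ g (Omega.conormal S.j) e hq (hV'.preimage S.j)
    (hW'.preimage (S.i'' ≫ S.n))
  rw [eq_top_iff]
  rintro x -
  refine hb.inductionOn x (motive := fun x => x ∈ Submodule.span Γ(Z, (S.i'' ≫ S.n) ⁻¹ᵁ W')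
    (Set.range fun y : Sec (ClSub.idealMod S.j.ker) V' =>
      res ((Scheme.Modules.pullback (S.i'' ≫ S.e)).obj (Omega.conormal S.j)) (S.le_pre h)
        (secS (S.i'' ≫ S.e) (Omega.conormal S.j) (S.j ⁻¹ᵁ V') (cS S.j V' y)))) (Submodule.zero_mem _) ?_
    (fun a b hb => Submodule.smul_mem _ a hb) (fun a b ha hb => Submodule.add_mem _ ha hb)
  intro y
  obtain ⟨y, rfl⟩ := cS_surjective S.j hV' y
  refine Submodule.subset_span ⟨y, ?_⟩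
  change res _ (S.le_pre h) (secS (S.i'' ≫ S.e) (Omega.conormal S.j) (S.j ⁻¹ᵁ V') (cS S.j V' y)) =
    PullSec.sec g (Omega.conormal S.j) e (cS S.j V' y)
  rw [secS_eq]
  rfl

include hψ₁ hψ₂ in
theorem comp_eq_zero : (Scheme.Modules.pullback (𝟙 Z)).map ψ₁ ≫ ψ₂ = 0 := by
  have := S.cj
  have := S.ci''
  have := S.ci'
  have := S.cn
  refine hom_ext_of_basis _ _ S.Good S.good_basis ?_
  rintro _ ⟨W', V', hW', hV', h, rfl⟩ x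
  obtain ⟨x, rfl⟩ := (idS_bijective _ _).2 x
  rw [appS_comp, appS_zero, ← idS_nat]
  have hx : x ∈ Submodule.span Γ(Z, (S.i'' ≫ S.n) ⁻¹ᵁ W') (Set.range fun y : Sec (ClSub.idealMod S.j.ker) V' =>
      res ((Scheme.Modules.pullback (S.i'' ≫ S.e)).obj (Omega.conormal S.j)) (S.le_pre h)
        (secS (S.i'' ≫ S.e) (Omega.conormal S.j) (S.j ⁻¹ᵁ V') (cS S.j V' y))) := by
    rw [S.span_pull hW' hV' h]; trivial
  induction hx using Submodule.span_induction with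
  | mem x hx =>
    obtain ⟨y, rfl⟩ := hx
    obtain ⟨s, hs⟩ := exists_valS (i := S.i'' ≫ S.n) S.sq h y
    rw [S.psi₁_cS ψ₁ hψ₁ h y s hs]
    have h2 := S.psi₂_cS ψ₂ hψ₂ W' s 0 (by
      rw [map_zero, hs]
      have h3 : S.m.appLE V' W' h (valS S.j V' y) ∈ RingHom.ker (S.n.app W').hom := by
        rw [S.ker_n hW' hV' h]
        exact Ideal.mem_map_of_mem _ ((app_eq_zero_iffS S.j V' _).mpr ⟨y, rfl⟩)
      exact h3.symm)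
    rw [map_zero] at h2
    exact h2
  | zero => simp only [map_zero]
  | add a b _ _ ha hb => rw [map_add, map_add, map_add, ha, hb, add_zero]
  | smul a b _ hb => rw [map_smul, map_smul, map_smul, hb, smul_zero]

include hψ₁ hψ₂ in
theorem exact (w : (Scheme.Modules.pullback (𝟙 Z)).map ψ₁ ≫ ψ₂ = 0) : (ShortComplex.mk _ _ w).Exact := by
  refine exact_of_basis S.Good S.good_basis ?_
  rintro _ ⟨W', V', hW', hV', h, rfl⟩ x hx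
  obtain ⟨x, rfl⟩ := (idS_bijective _ _).2 x
  obtain ⟨t, rfl⟩ := S.exists_of_psi₂_eq_zero ψ₁ ψ₂ hψ₂ hψ₁ hW' hV' h x hx
  exact ⟨idS _ _ t, (idS_nat ψ₁ _ t).symm⟩

end Setup

end K584.TransExact
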