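import Groth.Prelude.Def_Omega3
import Groth.Agent.UnramB.FirstOrderNbhd

/-!
# First order thickenings and universal first order thickenings: restriction to opens, uniqueness, composition

* `fot_iff`: a first order thickening is a surjective closed immersion such that local functions killed by it have
  product zero;
* `isUnivThickening_restrict` (restriction to opens), `isUnivThickening_unique` (uniqueness up to unique iso),
  `isUnivThickening_comp` (the thickening of `Z` over `Y` from those of `Z` and `Y` over `X`),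
  `isUnivThickening_isPullback` (the resulting cartesian square).
-/

set_option autoImplicit false
universe u
open CategoryTheory CategoryTheory.Limits AlgebraicGeometry TopologicalSpace

namespace K584.Univ

open Groth.Agent.UnramB.FirstOrderNbhd (SqZ)
open OmegaSh

/-- First order thickenings. -/
abbrev FOT {X X' : Scheme.{u}} (i : X ⟶ X') : Prop := MoreMor.IsFirstOrderThickening i

theorem FOT.closed {X X' : Scheme.{u}} {i : X ⟶ X'} (h : FOT i) : IsClosedImmersion i := h.1.1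
theorem FOT.surj {X X' : Scheme.{u}} {i : X ⟶ X'} (h : FOT i) : Surjective i := h.1.2

theorem FOT.sqZ {X X' : Scheme.{u}} {i : X ⟶ X'} (h : FOT i) : SqZ i := by
  have := h.closed
  exact SqZ.of_ker i (by rw [sq]; exact h.2)

theorem fot_of_sqZ {X X' : Scheme.{u}} (i : X ⟶ X') [IsClosedImmersion i] [Surjective i] (h : SqZ i) : FOT i := by
  refine ⟨⟨inferInstance, inferInstance⟩, ?_⟩
  ext V : 2
  rw [Scheme.IdealSheafData.ideal_mul, Pi.mul_apply, Scheme.IdealSheafData.ideal_bot, Pi.bot_apply,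
    eq_bot_iff, Ideal.mul_le]
  intro x hx y hy
  rw [Scheme.Hom.ker_apply, RingHom.mem_ker] at hx hy
  exact h V.1 x y hx hy

theorem fot_iff {X X' : Scheme.{u}} (i : X ⟶ X') :
    FOT i ↔ IsClosedImmersion i ∧ Surjective i ∧ SqZ i := by
  constructor
  · intro h
    exact ⟨h.closed, h.surj, h.sqZ⟩
  · rintro ⟨h1, h2, h3⟩
    exact fot_of_sqZ i h3

theorem fot_morphismRestrict {X X' : Scheme.{u}} {i : X ⟶ X'} (h : FOT i) (V : X'.Opens) : FOT (i ∣_ V) := by
  have := h.closed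
  have := h.surj
  have h1 : IsClosedImmersion (i ∣_ V) := inferInstance
  have h2 : Surjective (i ∣_ V) := IsZariskiLocalAtTarget.restrict (P := @Surjective) inferInstance V
  refine fot_of_sqZ _ ?_
  intro W x y hx hy
  have key : ∀ z : Γ(V, W), (i ∣_ V).app W z = 0 → i.app (V.ι ''ᵁ W) z = 0 := by
    intro z hz
    rw [morphismRestrict_app] at hz
    have hinj : Function.Injective (X.presheaf.map (eqToHom (image_morphismRestrict_preimage i V W)).op) :=
      (ConcreteCategory.bijective_of_isIso _).1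
    apply hinj
    rw [map_zero]
    exact hz
  exact h.sqZ (V.ι ''ᵁ W) x y (key x hx) (key y hy)

theorem fot_resLE {X X' : Scheme.{u}} {i : X ⟶ X'} (h : FOT i) (V : X.Opens) (V' : X'.Opens)
    (e : i ⁻¹ᵁ V' = V) : FOT (i.resLE V' V e.ge) := by
  subst e
  rw [Scheme.Hom.resLE_eq_morphismRestrict]
  exact fot_morphismRestrict h V'

theorem isAffineOpen_of_fot {X X' : Scheme.{u}} {i : X ⟶ X'} (h : FOT i) (V' : X'.Opens)
    (hV : IsAffineOpen (i ⁻¹ᵁ V')) : IsAffineOpen V' := by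
  have h1 := fot_morphismRestrict h V'
  have := h1.closed
  have := h1.surj
  have : IsAffine (i ⁻¹ᵁ V' : X.Opens) := hV
  exact Groth.Agent.Flat2C.AffineThickening.isAffine_of_thickening (i ∣_ V')

/-- The open of the thickening with given preimage. -/
theorem exists_open {X X' : Scheme.{u}} {i : X ⟶ X'} (h : FOT i) (V : X.Opens) :
    ∃ V' : X'.Opens, i ⁻¹ᵁ V' = V := by
  have := h.closed
  have h2 := i.isEmbedding.isInducing.isOpen_iff.mp V.isOpen
  obtain ⟨t, ht, e⟩ := h2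
  exact ⟨⟨t, ht⟩, Opens.ext e⟩

/-- A morphism out of a thickening whose restriction lands in an open lands in the open. -/
theorem le_preimage {X X' Y : Scheme.{u}} {i : X ⟶ X'} (h : FOT i) (f : X' ⟶ Y) (U' : X'.Opens) (U : Y.Opens)
    (hU : i ⁻¹ᵁ U' ≤ (i ≫ f) ⁻¹ᵁ U) : U' ≤ f ⁻¹ᵁ U := by
  intro x hx
  obtain ⟨y, rfl⟩ := h.surj.surj x
  have := hU (show y ∈ i ⁻¹ᵁ U' from hx)
  change (i ≫ f) y ∈ U at this
  rw [Scheme.Hom.comp_apply] at this
  exact this

/-- Restriction of a universal thickening to opens. -/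
theorem isUnivThickening_restrict {Z Z' X : Scheme.{u}} (h : Z ⟶ X) (i : Z ⟶ Z') (h' : Z' ⟶ X)
    (hu : IsUnivThickening h i h') (V : Z.Opens) (U : X.Opens) (hVU : V ≤ h ⁻¹ᵁ U)
    (V' : Z'.Opens) (hV' : i ⁻¹ᵁ V' = V) (hV'U : V' ≤ h' ⁻¹ᵁ U) :
    IsUnivThickening (h.resLE U V hVU) (i.resLE V' V hV'.ge) (h'.resLE U V' hV'U) := by
  refine ⟨fot_resLE hu.1 V V' hV', ?_, ?_⟩
  · rw [Scheme.Hom.resLE_comp_resLE]
    congr 1
    exact hu.2.1
  · intro T T' j b a hj w
    obtain ⟨a', ⟨h1, h2⟩, h3⟩ := hu.2.2 T T' j (b ≫ U.ι) (a ≫ V.ι) hj (by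
      rw [← Category.assoc, w, Category.assoc, Category.assoc, Scheme.Hom.resLE_comp_ι])
    have hr : Set.range a' ⊆ Set.range V'.ι := by
      rintro _ ⟨t, rfl⟩
      obtain ⟨s, rfl⟩ := hj.1.2.surj t
      rw [← Scheme.Hom.comp_apply, h1]
      have : (i.resLE V' V hV'.ge ≫ V'.ι) (a s) = (V.ι ≫ i) (a s) := by rw [Scheme.Hom.resLE_comp_ι]
      rw [Category.assoc, Scheme.Hom.comp_apply, ← this, Scheme.Hom.comp_apply]
      exact ⟨_, rfl⟩
    refine ⟨IsOpenImmersion.lift V'.ι a' hr, ⟨?_, ?_⟩, ?_⟩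
    · rw [← cancel_mono V'.ι, Category.assoc, IsOpenImmersion.lift_fac, h1, Category.assoc, Category.assoc,
        Scheme.Hom.resLE_comp_ι]
    · rw [← cancel_mono U.ι, Category.assoc, Scheme.Hom.resLE_comp_ι, ← Category.assoc,
        IsOpenImmersion.lift_fac, h2]
    · rintro a'' ⟨g1, g2⟩
      rw [← cancel_mono V'.ι, IsOpenImmersion.lift_fac]
      apply h3
      refine ⟨?_, ?_⟩
      · rw [← Category.assoc, g1, Category.assoc, Category.assoc, Scheme.Hom.resLE_comp_ι]
      · rw [Category.assoc, ← Scheme.Hom.resLE_comp_ι h' hV'U, ← Category.assoc, g2]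

/-- Uniqueness of universal thickenings. -/
theorem isUnivThickening_unique {Z Z' Z'' X : Scheme.{u}} (h : Z ⟶ X) (i : Z ⟶ Z') (h' : Z' ⟶ X)
    (i'' : Z ⟶ Z'') (h'' : Z'' ⟶ X) (hu : IsUnivThickening h i h') (hu' : IsUnivThickening h i'' h'') :
    ∃ e : Z' ≅ Z'', i ≫ e.hom = i'' ∧ e.hom ≫ h'' = h' := by
  obtain ⟨a, ⟨a1, a2⟩, -⟩ := hu'.2.2 Z Z' i h' (𝟙 Z) hu.1 (by rw [hu.2.1, Category.id_comp])
  obtain ⟨b, ⟨b1, b2⟩, -⟩ := hu.2.2 Z Z'' i'' h'' (𝟙 Z) hu'.1 (by rw [hu'.2.1, Category.id_comp])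
  rw [Category.id_comp] at a1 b1
  refine ⟨⟨a, b, ?_, ?_⟩, a1, a2⟩
  · refine (hu.2.2 Z Z' i h' (𝟙 Z) hu.1 (by rw [hu.2.1, Category.id_comp])).unique ⟨?_, ?_⟩ ⟨?_, ?_⟩
    · rw [← Category.assoc, a1, b1, Category.id_comp]
    · rw [Category.assoc, b2, a2]
    · rw [Category.comp_id, Category.id_comp]
    · rw [Category.id_comp]
  · refine (hu'.2.2 Z Z'' i'' h'' (𝟙 Z) hu'.1 (by rw [hu'.2.1, Category.id_comp])).unique ⟨?_, ?_⟩ ⟨?_, ?_⟩
    · rw [← Category.assoc, b1, a1, Category.id_comp]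
    · rw [Category.assoc, a2, b2]
    · rw [Category.comp_id, Category.id_comp]
    · rw [Category.id_comp]

end K584.Univ
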