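import Groth.Agent.OmegaSh.K584.Univ
import Groth.Agent.Divis.IdealComap

/-!
# Base change of first order thickenings and of universal first order thickenings
-/

set_option autoImplicit false
universe u
open CategoryTheory CategoryTheory.Limits AlgebraicGeometry TopologicalSpace

namespace K584.Univ

open Groth.Agent.UnramB.FirstOrderNbhd (SqZ)
open OmegaSh

/-- Base change of a first order thickening. -/
theorem fot_of_isPullback {Z P W W' : Scheme.{u}} {i : Z ⟶ P} {f : Z ⟶ W} {q : P ⟶ W'} {j : W ⟶ W'}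
    (H : IsPullback i f q j) (hj : FOT j) : FOT i := by
  have h1 : IsClosedImmersion j := hj.closed
  have h2 : Surjective j := hj.surj
  have h3 : IsClosedImmersion i := MorphismProperty.of_isPullback (P := @IsClosedImmersion) H.flip h1
  have h4 : Surjective i := MorphismProperty.of_isPullback (P := @Surjective) H.flip h2
  refine fot_of_sqZ i ?_
  intro V x y hx hy
  refine P.IsSheaf.section_ext ?_
  intro p hp
  obtain ⟨_, ⟨U, hU, rfl⟩, hpU, -⟩ :=
    W'.isBasis_affineOpens.exists_subset_of_mem_open (Set.mem_univ (q p)) isOpen_univ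
  obtain ⟨_, ⟨V₁, hV₁, rfl⟩, hpV₁, hV₁V⟩ :=
    P.isBasis_affineOpens.exists_subset_of_mem_open (a := p)
      (u := (V ⊓ q ⁻¹ᵁ U : P.Opens)) ⟨hp, hpU⟩ (V ⊓ q ⁻¹ᵁ U).2
  have hle : V₁ ≤ V := fun z hz => (hV₁V hz).1
  have hle' : V₁ ≤ q ⁻¹ᵁ U := fun z hz => (hV₁V hz).2
  refine ⟨V₁, hle, hpV₁, ?_⟩
  have h5 : i.ker = j.ker.comap q := by
    rw [← Scheme.IdealSheafData.ker_fst_of_isClosedImmersion]
    have h2 := H.isoPullback_hom_fst
    rw [← h2, Scheme.Hom.ker_comp_of_isIso]
  have h6 := Groth.Agent.Divis.IdealComap.ideal_comap j.ker q ⟨U, hU⟩ ⟨V₁, hV₁⟩ hle'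
  rw [← h5, Scheme.Hom.ker_apply, Scheme.Hom.ker_apply] at h6
  have key : ∀ c : Γ(P, V), i.app V c = 0 → P.presheaf.map (homOfLE hle).op c ∈
      (RingHom.ker (j.app U).hom).map (q.appLE U V₁ hle').hom := by
    intro c hc
    rw [← h6, RingHom.mem_ker]
    have := ConcreteCategory.congr_hom (i.naturality (homOfLE hle).op) c
    refine this.trans ?_
    change Z.presheaf.map _ (i.app V c) = 0
    rw [hc, map_zero]
  have h7 := Ideal.mul_mem_mul (key x hx) (key y hy)
  have h8 : RingHom.ker (j.app U).hom * RingHom.ker (j.app U).hom = ⊥ := by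
    rw [eq_bot_iff, Ideal.mul_le]
    intro a ha b hb
    exact hj.sqZ U a b ha hb
  rw [← Ideal.map_mul, h8, Ideal.map_bot, ← map_mul] at h7
  change P.presheaf.map _ (x * y) = P.presheaf.map _ 0
  rw [map_zero]
  exact h7

/-- Base change of universal thickenings. -/
theorem isUnivThickening_baseChange {Z X W Y W' : Scheme.{u}} (h : Z ⟶ X) (f : Z ⟶ W) (g : X ⟶ Y) (h' : W ⟶ Y)
    (hc : IsPullback h f g h') (j : W ⟶ W') (k : W' ⟶ Y) (hu : IsUnivThickening h' j k) :
    IsUnivThickening h (pullback.lift h (f ≫ j) (hc.w.trans (congrArg (f ≫ ·) hu.2.1).symm)) (pullback.fst g k) := by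
  have w : h ≫ g = (f ≫ j) ≫ k := by rw [hc.w, Category.assoc, hu.2.1]
  have H : IsPullback (pullback.lift h (f ≫ j) w) f (pullback.snd g k) j := by
    have h1 : IsPullback (pullback.fst g k) (pullback.snd g k) g k := IsPullback.of_hasPullback g k
    have h2 : IsPullback f (pullback.lift h (f ≫ j) w ≫ pullback.fst g k) (j ≫ k) g := by
      rw [pullback.lift_fst, hu.2.1]
      exact hc.flip
    exact (IsPullback.of_bot h2 (by rw [pullback.lift_snd]) h1.flip).flip
  refine ⟨fot_of_isPullback H hu.1, pullback.lift_fst _ _ _, ?_⟩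
  intro T T' t b a ht w'
  obtain ⟨γ, ⟨h1, h2⟩, h3⟩ := hu.2.2 T T' t (b ≫ g) (a ≫ f) ht (by
    rw [← Category.assoc, w', Category.assoc, hc.w, Category.assoc])
  refine ⟨pullback.lift b γ h2.symm, ⟨?_, pullback.lift_fst _ _ _⟩, ?_⟩
  · apply pullback.hom_ext
    · rw [Category.assoc, Category.assoc, pullback.lift_fst, pullback.lift_fst, w']
    · rw [Category.assoc, Category.assoc, pullback.lift_snd, pullback.lift_snd, h1, Category.assoc]
  · rintro δ ⟨g1, g2⟩
    apply pullback.hom_ext
    · rw [pullback.lift_fst, g2]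
    · rw [pullback.lift_snd]
      apply h3
      refine ⟨?_, ?_⟩
      · rw [← Category.assoc, g1, Category.assoc, pullback.lift_snd, Category.assoc]
      · rw [Category.assoc, ← pullback.condition, ← Category.assoc, g2]

end K584.Univ
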