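import Groth.Agent.OmegaSh.K584.UnivRing2
import Mathlib.RingTheory.Localization.Basic
import Mathlib.RingTheory.Localization.Ideal

/-!
# Localization of ring-level universal first order thickenings
-/

set_option autoImplicit false
universe u

namespace K584.UnivLoc

open OmegaSh K584.UnivRing

/-- Units lift along square-zero (nilpotent) thickenings. -/
theorem isUnit_of_mk {A : Type*} [CommRing A] (I : Ideal A) (hI : I ^ 2 = ⊥) (x : A)
    (h : IsUnit (Ideal.Quotient.mk I x)) : IsUnit x := by
  have h2 : IsNilpotent (I) := ⟨2, hI⟩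
  obtain ⟨y, hy⟩ := h.exists_right_inv
  obtain ⟨y, rfl⟩ := Ideal.Quotient.mk_surjective y
  rw [← map_mul, ← map_one (Ideal.Quotient.mk I), Ideal.Quotient.mk_eq_mk_iff_sub_mem] at hy
  have h3 : (x * y - 1) * (x * y - 1) = 0 := by
    have := Ideal.mul_mem_mul hy hy
    rw [← sq, hI] at this
    exact this
  refine IsUnit.of_mul_eq_one (y * (2 - x * y)) ?_
  linear_combination -h3

section

variable {A B B' : Type u} [CommRing A] [CommRing B] [CommRing B'] [Algebra A B] [Algebra A B']
    {π : B' →ₐ[A] B} (hπ : IsUnivThickeningRing A B B' π)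

include hπ in
/-- The kernel of the localized map. -/
theorem ker_sq {BS B'S : Type u} [CommRing BS] [CommRing B'S] [Algebra B BS] [Algebra B' B'S]
    (M' : Submonoid B') (M : Submonoid B) [IsLocalization M BS] [IsLocalization M' B'S]
    (hM : ∀ s ∈ M, ∃ s' ∈ M', π s' = s)
    (πS : B'S →+* BS) (hπS : ∀ x : B', πS (algebraMap B' B'S x) = algebraMap B BS (π x)) :
    RingHom.ker πS ^ 2 = ⊥ := by
  -- every element of the kernel is a fraction with numerator in the kernel
  have key : ∀ x : B'S, πS x = 0 → ∃ (k : B') (s : M'), π k = 0 ∧ x * algebraMap B' B'S s = algebraMap B' B'S k := by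
    intro x hx
    obtain ⟨⟨b, s⟩, hb⟩ := IsLocalization.surj M' x
    dsimp only at hb
    have h1 : algebraMap B BS (π b) = 0 := by
      rw [← hπS, ← hb, map_mul, hx, zero_mul]
    obtain ⟨t, ht⟩ := (IsLocalization.map_eq_zero_iff M BS (π b)).mp h1
    obtain ⟨t', ht', e⟩ := hM t.1 t.2
    refine ⟨t' * b, ⟨t', ht'⟩ * s, ?_, ?_⟩
    · rw [map_mul, e, ht]
    · rw [Submonoid.coe_mul, map_mul, map_mul, ← hb]
      ring
  rw [eq_bot_iff, sq, Ideal.mul_le]
  intro x hx y hy
  obtain ⟨k, s, hk, e⟩ := key x hx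
  obtain ⟨l, t, hl, e'⟩ := key y hy
  have h2 : (x * y) * (algebraMap B' B'S s * algebraMap B' B'S t) = 0 := by
    calc (x * y) * (algebraMap B' B'S s * algebraMap B' B'S t)
        = (x * algebraMap B' B'S s) * (y * algebraMap B' B'S t) := by ring
      _ = 0 := by rw [e, e', ← map_mul, ker_mul hπ hk hl, map_zero]
  rw [Submodule.mem_bot]
  have hu : IsUnit (algebraMap B' B'S s * algebraMap B' B'S t) :=
    (IsLocalization.map_units B'S s).mul (IsLocalization.map_units B'S t)
  exact (hu.mul_left_eq_zero).mp h2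

include hπ in
theorem surjective {BS B'S : Type u} [CommRing BS] [CommRing B'S] [Algebra B BS] [Algebra B' B'S]
    (M' : Submonoid B') (M : Submonoid B) [IsLocalization M BS] [IsLocalization M' B'S]
    (hM : ∀ s ∈ M, ∃ s' ∈ M', π s' = s)
    (πS : B'S →+* BS) (hπS : ∀ x : B', πS (algebraMap B' B'S x) = algebraMap B BS (π x)) :
    Function.Surjective πS := by
  intro x
  obtain ⟨⟨b, s⟩, hb⟩ := IsLocalization.surj M x
  dsimp only at hb
  obtain ⟨b', rfl⟩ := hπ.1 b
  obtain ⟨s', hs', e⟩ := hM s.1 s.2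
  refine ⟨IsLocalization.mk' B'S b' ⟨s', hs'⟩, ?_⟩
  have h1 : IsLocalization.mk' B'S b' ⟨s', hs'⟩ * algebraMap B' B'S s' = algebraMap B' B'S b' :=
    IsLocalization.mk'_spec _ _ _
  have h2 := congrArg πS h1
  rw [map_mul, hπS, hπS, e] at h2
  rw [← hb] at h2
  exact (IsLocalization.map_units BS s).mul_right_cancel h2

include hπ in
theorem isUniv {BS B'S : Type u} [CommRing BS] [CommRing B'S] [Algebra B BS] [Algebra B' B'S]
    (M' : Submonoid B') (M : Submonoid B) [IsLocalization M BS] [IsLocalization M' B'S]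
    (hM : ∀ s ∈ M, ∃ s' ∈ M', π s' = s) (hM' : ∀ s' ∈ M', π s' ∈ M)
    (A₁ : Type u) [CommRing A₁] [Algebra A A₁] [Algebra A₁ BS] [Algebra A₁ B'S] [Algebra A BS] [Algebra A B'S]
    [IsScalarTower A A₁ BS] [IsScalarTower A A₁ B'S] [IsScalarTower A B BS] [IsScalarTower A B' B'S]
    (hepi : ∀ (C : Type u) [CommRing C] (f g : A₁ →+* C),
      f.comp (algebraMap A A₁) = g.comp (algebraMap A A₁) → f = g)
    (πS : B'S →ₐ[A₁] BS) (hπS : ∀ x : B', πS (algebraMap B' B'S x) = algebraMap B BS (π x)) :
    IsUnivThickeningRing A₁ BS B'S πS := by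
  refine ⟨surjective hπ M' M hM πS.toRingHom hπS, ker_sq hπ M' M hM πS.toRingHom hπS, ?_⟩
  intro C _ _ I hI a
  let _ : Algebra A C := ((algebraMap A₁ C).comp (algebraMap A A₁)).toAlgebra
  have ht : IsScalarTower A A₁ C := IsScalarTower.of_algebraMap_eq fun _ => rfl
  have ht2 : ∀ r : A, algebraMap A (C ⧸ I) r = algebraMap A₁ (C ⧸ I) (algebraMap A A₁ r) := fun r => rfl
  let a₀ : B →ₐ[A] C ⧸ I :=
    { toRingHom := a.toRingHom.comp (algebraMap B BS)
      commutes' := fun r => by
        change a (algebraMap B BS (algebraMap A B r)) = _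
        rw [← IsScalarTower.algebraMap_apply, IsScalarTower.algebraMap_apply A A₁ BS, AlgHom.commutes, ht2] }
  obtain ⟨φ, h1, h2⟩ := hπ.2.2 C I hI a₀
  have hφ : ∀ x, Ideal.Quotient.mk I (φ x) = a (algebraMap B BS (π x)) := fun x => DFunLike.congr_fun h1 x
  have hunit : ∀ s : M', IsUnit (φ.toRingHom s) := by
    intro s
    apply isUnit_of_mk I hI
    change IsUnit (Ideal.Quotient.mk I (φ s))
    rw [hφ]
    exact (IsLocalization.map_units BS ⟨π s, hM' s s.2⟩).map a
  let ψ : B'S →+* C := IsLocalization.lift hunit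
  have hψ : ∀ x, ψ (algebraMap B' B'S x) = φ x := fun x => IsLocalization.lift_eq hunit x
  have hψA : ∀ r : A₁, ψ (algebraMap A₁ B'S r) = algebraMap A₁ C r := by
    intro r
    have : ψ.comp (algebraMap A₁ B'S) = algebraMap A₁ C := by
      apply hepi
      ext r
      change ψ (algebraMap A₁ B'S (algebraMap A A₁ r)) = algebraMap A C r
      rw [← IsScalarTower.algebraMap_apply, IsScalarTower.algebraMap_apply A B' B'S, hψ, AlgHom.commutes]
    exact DFunLike.congr_fun this r
  refine ⟨{ ψ with commutes' := hψA }, ?_, ?_⟩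
  · apply AlgHom.coe_ringHom_injective
    apply IsLocalization.ringHom_ext M'
    ext x
    change Ideal.Quotient.mk I (ψ (algebraMap B' B'S x)) = a (πS (algebraMap B' B'S x))
    rw [hψ, hφ, hπS]
  · intro χ hχ
    let χ₀ : B' →ₐ[A] C :=
      { toRingHom := χ.toRingHom.comp (algebraMap B' B'S)
        commutes' := fun r => by
          change χ (algebraMap B' B'S (algebraMap A B' r)) = _
          rw [← IsScalarTower.algebraMap_apply, IsScalarTower.algebraMap_apply A A₁ B'S, AlgHom.commutes]
          rfl }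
    have h3 : χ₀ = φ := by
      apply h2
      ext x
      change Ideal.Quotient.mk I (χ (algebraMap B' B'S x)) = a (algebraMap B BS (π x))
      rw [← hπS]
      exact DFunLike.congr_fun hχ (algebraMap B' B'S x)
    apply AlgHom.coe_ringHom_injective
    apply IsLocalization.ringHom_ext M'
    ext x
    change χ (algebraMap B' B'S x) = ψ (algebraMap B' B'S x)
    rw [hψ]
    exact DFunLike.congr_fun h3 x

end

end K584.UnivLoc
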