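import Groth.Agent.OmegaSh.K584.UnivBC
import Groth.Agent.OmegaSh.K584.UnivAff

/-!
# Universal thickenings and open immersions; local nature of first order thickenings
-/

set_option autoImplicit false
universe u
open CategoryTheory CategoryTheory.Limits AlgebraicGeometry TopologicalSpace

namespace K584.UnivOpen

open K584.Univ OmegaSh
open Groth.Agent.UnramB.FirstOrderNbhd (SqZ)

/-- Restriction of a universal thickening along open immersions. -/
theorem isUniv_of_isPullback {Z Z' X V V' : Scheme.{u}} {h : Z ⟶ X} {i : Z ⟶ Z'} {h' : Z' ⟶ X}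
    (hu : IsUnivThickening h i h') {k : V ⟶ V'} {q : V ⟶ Z} {q' : V' ⟶ Z'} [IsOpenImmersion q']
    (H : IsPullback k q q' i) : IsUnivThickening (q ≫ h) k (q' ≫ h') := by
  have hq : IsOpenImmersion q := MorphismProperty.of_isPullback (P := @IsOpenImmersion) H inferInstance
  refine ⟨fot_of_isPullback H hu.1, ?_, ?_⟩
  · rw [← Category.assoc, H.w, Category.assoc, hu.2.1]
  · intro T T' j b a hj w
    obtain ⟨a', ⟨h1, h2⟩, h3⟩ := hu.2.2 T T' j b (a ≫ q) hj (by rw [w, Category.assoc])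
    have hr : Set.range a' ⊆ Set.range q' := by
      rintro _ ⟨t, rfl⟩
      obtain ⟨s, rfl⟩ := hj.1.2.surj t
      rw [← Scheme.Hom.comp_apply, h1, Category.assoc, ← H.w, ← Category.assoc]
      exact ⟨_, (Scheme.Hom.comp_apply _ _ _).symm⟩
    refine ⟨IsOpenImmersion.lift q' a' hr, ⟨?_, ?_⟩, ?_⟩
    · rw [← cancel_mono q', Category.assoc, IsOpenImmersion.lift_fac, h1, Category.assoc, Category.assoc, H.w]
    · rw [← Category.assoc, IsOpenImmersion.lift_fac, h2]
    · rintro a'' ⟨g1, g2⟩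
      rw [← cancel_mono q', IsOpenImmersion.lift_fac]
      apply h3
      refine ⟨?_, ?_⟩
      · rw [← Category.assoc, g1, Category.assoc, Category.assoc, H.w]
      · rw [Category.assoc, g2]

/-- An open immersion into the source of a thickening extends to an open immersion. -/
theorem exists_isPullback {Z Z' V : Scheme.{u}} {i : Z ⟶ Z'} (hi : FOT i) (q : V ⟶ Z) [IsOpenImmersion q] :
    ∃ (V' : Scheme.{u}) (q' : V' ⟶ Z') (k : V ⟶ V'), IsOpenImmersion q' ∧ IsPullback k q q' i := by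
  obtain ⟨V', hV'⟩ := exists_open hi q.opensRange
  have hr : Set.range (q ≫ i) ⊆ Set.range V'.ι := by
    rintro _ ⟨v, rfl⟩
    rw [Scheme.Opens.range_ι, Scheme.Hom.comp_apply]
    have : q v ∈ i ⁻¹ᵁ V' := by rw [hV']; exact ⟨v, rfl⟩
    exact this
  refine ⟨V', V'.ι, IsOpenImmersion.lift V'.ι (q ≫ i) hr, inferInstance, ?_⟩
  refine IsOpenImmersion.isPullback _ _ _ _ (IsOpenImmersion.lift_fac _ _ _).symm ?_
  rw [Scheme.Opens.opensRange_ι, hV']

/-- Enlarging the target along a monomorphism which is an open immersion. -/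
theorem isUniv_comp_openImmersion {Z Z' U X : Scheme.{u}} {h : Z ⟶ U} {i : Z ⟶ Z'} {h' : Z' ⟶ U}
    (hu : IsUnivThickening h i h') (q : U ⟶ X) [IsOpenImmersion q] : IsUnivThickening (h ≫ q) i (h' ≫ q) := by
  refine ⟨hu.1, by rw [← Category.assoc, hu.2.1], ?_⟩
  intro T T' j b a hj w
  have hr : Set.range b ⊆ Set.range q := by
    rintro _ ⟨t, rfl⟩
    obtain ⟨s, rfl⟩ := hj.1.2.surj t
    rw [← Scheme.Hom.comp_apply, w, ← Category.assoc]
    exact ⟨_, (Scheme.Hom.comp_apply _ _ _).symm⟩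
  obtain ⟨a', ⟨h1, h2⟩, h3⟩ := hu.2.2 T T' j (IsOpenImmersion.lift q b hr) a hj (by
    rw [← cancel_mono q, Category.assoc, IsOpenImmersion.lift_fac, w, Category.assoc])
  refine ⟨a', ⟨h1, by rw [← Category.assoc, h2, IsOpenImmersion.lift_fac]⟩, ?_⟩
  rintro a'' ⟨g1, g2⟩
  refine h3 _ ⟨g1, ?_⟩
  rw [← cancel_mono q, IsOpenImmersion.lift_fac, Category.assoc, g2]

/-- Transport along an isomorphism of the source. -/
theorem isUniv_iso_comp {Z Z' V X : Scheme.{u}} {h : Z ⟶ X} {i : Z ⟶ Z'} {h' : Z' ⟶ X}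
    (hu : IsUnivThickening h i h') (e : V ⟶ Z) [IsIso e] : IsUnivThickening (e ≫ h) (e ≫ i) h' := by
  have H : IsPullback (e ≫ i) e (𝟙 Z') i := IsPullback.of_vert_isIso ⟨by rw [Category.comp_id]⟩
  have := isUniv_of_isPullback hu H
  rwa [Category.id_comp] at this

/-- First order thickenings are local on the target. -/
theorem fot_of_local {Z Z' : Scheme.{u}} (i : Z ⟶ Z')
    (H : ∀ z' : Z', ∃ (V V' : Scheme.{u}) (k : V ⟶ V') (q : V ⟶ Z) (q' : V' ⟶ Z') (_ : IsOpenImmersion q'),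
      z' ∈ Set.range q' ∧ IsPullback k q q' i ∧ FOT k) : FOT i := by
  choose V V' k q q' hq' hz' hp hk using H
  let 𝒰 : Z'.OpenCover := {
    I₀ := Z'
    X := V'
    f := q'
    mem₀ := by
      rw [Scheme.presieve₀_mem_precoverage_iff]
      exact ⟨fun x ↦ ⟨x, hz' x⟩, hq'⟩ }
  have h1 : IsClosedImmersion i := by
    rw [IsZariskiLocalAtTarget.iff_of_openCover (P := @IsClosedImmersion) 𝒰]
    intro z'
    have := (hk z').closed
    have e := (hp z').flip.isoPullback_inv_snd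
    change IsClosedImmersion (pullback.snd i (q' z'))
    rw [← e]
    infer_instance
  have h2 : Surjective i := by
    refine ⟨fun z' => ?_⟩
    obtain ⟨v', hv'⟩ := hz' z'
    obtain ⟨v, rfl⟩ := (hk z').surj.surj v'
    refine ⟨q z' v, ?_⟩
    rw [← Scheme.Hom.comp_apply, ← (hp z').w, Scheme.Hom.comp_apply, hv']
  refine fot_of_sqZ i ?_
  intro O x y hx hy
  refine Z'.IsSheaf.section_ext ?_
  intro p hp'
  have := hq' p
  have key : ∀ c : Γ(Z', O), i.app O c = 0 → (k p).app (q' p ⁻¹ᵁ O) ((q' p).app O c) = 0 := by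
    intro c hc
    have h3 : (k p).app (q' p ⁻¹ᵁ O) ((q' p).app O c) = (k p ≫ q' p).app O c := by
      rw [Scheme.Hom.comp_app]; rfl
    have h4 : (k p ≫ q' p).app O c = 0 ↔ (q p ≫ i).app O c = 0 := by
      rw [(hp p).w]
    refine h3.trans (h4.mpr ?_)
    rw [Scheme.Hom.comp_app]
    change (q p).app _ (i.app O c) = 0
    rw [hc, map_zero]
  have h5 := (hk p).sqZ _ _ _ (key x hx) (key y hy)
  rw [← map_mul] at h5
  have hle : (q' p) ''ᵁ ((q' p) ⁻¹ᵁ O) ≤ O := by
    rintro _ ⟨v, hv, rfl⟩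
    exact hv
  refine ⟨(q' p) ''ᵁ ((q' p) ⁻¹ᵁ O), hle, ?_, ?_⟩
  · obtain ⟨v, hv⟩ := hz' p
    refine ⟨v, ?_, hv⟩
    change q' p v ∈ O
    rw [hv]
    exact hp'
  · have h6 : (q' p).app O (x * y) = ((q' p).appIso ((q' p) ⁻¹ᵁ O)).hom
        (Z'.presheaf.map (homOfLE hle).op (x * y)) := by
      rw [Scheme.Hom.appIso_hom']
      have := ConcreteCategory.congr_hom (Scheme.Hom.map_appLE (q' p) (U' := O) (U := (q' p) ''ᵁ ((q' p) ⁻¹ᵁ O))
        (V := (q' p) ⁻¹ᵁ O) (((q' p).preimage_image_eq _).ge) (homOfLE hle).op) (x * y)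
      refine Eq.trans ?_ this.symm
      rw [Scheme.Hom.app_eq_appLE]
    rw [h6] at h5
    have h7 : Function.Injective ((q' p).appIso ((q' p) ⁻¹ᵁ O)).hom :=
      (ConcreteCategory.bijective_of_isIso _).1
    apply h7
    change _ = ((q' p).appIso ((q' p) ⁻¹ᵁ O)).hom (Z'.presheaf.map (homOfLE hle).op 0)
    rw [map_zero, map_zero]
    exact h5

end K584.UnivOpen
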