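import Groth.Agent.OmegaSh.K584.UnivRing2

/-!
# Ring-level universal first order thickenings: `B ⊗ (B' ⊗ Ω_A) → B ⊗ Ω_{B'}` is bijective
-/

set_option autoImplicit false
universe u
open scoped TensorProduct

namespace K584.UnivRing

open KaehlerDifferential OmegaSh

variable (R : Type u) [CommRing R] (A : Type u) [CommRing A] [Algebra R A] (B : Type u) [CommRing B]
    [Algebra A B] (B' : Type u) [CommRing B'] [Algebra A B']
    [Algebra R B'] [IsScalarTower R A B'] [Algebra B' B] [IsScalarTower A B' B]

theorem injective_baseChange (h : OmegaSh.IsUnivThickeningRing A B B' (IsScalarTower.toAlgHom A B' B)) :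
    Function.Injective ((KaehlerDifferential.mapBaseChange R A B').baseChange B) := by
  let N := B ⊗[B'] (B' ⊗[A] Ω[A⁄R])
  have hN : ∀ x : B', IsScalarTower.toAlgHom A B' B x = 0 → ∀ n : N, x • n = 0 := by
    intro x hx n
    rw [← algebraMap_smul B x n]
    have : algebraMap B' B x = 0 := hx
    rw [this, zero_smul]
  let D₀ : A →+ N :=
    { toFun := fun a => (1 : B) ⊗ₜ[B'] ((1 : B') ⊗ₜ[A] D R A a)
      map_zero' := by rw [map_zero, TensorProduct.tmul_zero, TensorProduct.tmul_zero]
      map_add' := fun a b => by rw [map_add, TensorProduct.tmul_add, TensorProduct.tmul_add] }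
  have e0 : ∀ (b' : B') (a : A) (w : Ω[A⁄R]), b' ⊗ₜ[A] (a • w) = algebraMap A B' a • (b' ⊗ₜ[A] w) := by
    intro b' a w
    rw [TensorProduct.tmul_smul, algebraMap_smul]
  have e1 : ∀ (b : B) (b' : B') (a : A) (w : Ω[A⁄R]), b ⊗ₜ[B'] (b' ⊗ₜ[A] (a • w)) =
      algebraMap A B' a • (b ⊗ₜ[B'] (b' ⊗ₜ[A] w)) := by
    intro b b' a w
    rw [e0, TensorProduct.tmul_smul]
  obtain ⟨D', h1, h2⟩ := exists_der h hN D₀ (by
    intro a b
    change (1 : B) ⊗ₜ[B'] ((1 : B') ⊗ₜ[A] D R A (a * b)) =
      algebraMap A B' a • ((1 : B) ⊗ₜ[B'] ((1 : B') ⊗ₜ[A] D R A b)) +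
      algebraMap A B' b • ((1 : B) ⊗ₜ[B'] ((1 : B') ⊗ₜ[A] D R A a))
    rw [Derivation.leibniz, TensorProduct.tmul_add, TensorProduct.tmul_add, e1, e1])
  let _ : Module R N := Module.compHom N (algebraMap R B')
  have : IsScalarTower R B' N := IsScalarTower.of_algebraMap_smul fun _ _ => rfl
  let D'' : Derivation R B' N :=
    { toFun := D'
      map_add' := map_add D'
      map_smul' := fun r b => by
        rw [Algebra.smul_def, h1]
        have h3 : D' (algebraMap R B' r) = 0 := by
          rw [IsScalarTower.algebraMap_apply R A B', h2]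
          change (1 : B) ⊗ₜ[B'] ((1 : B') ⊗ₜ[A] D R A (algebraMap R A r)) = 0
          rw [Derivation.map_algebraMap, TensorProduct.tmul_zero, TensorProduct.tmul_zero]
        rw [h3, smul_zero, add_zero, algebraMap_smul]
        rfl
      map_one_eq_zero' := by
        have := h1 1 1
        change D' 1 = 0
        rw [mul_one, one_smul] at this
        simpa using this
      leibniz' := h1 }
  let g : B ⊗[B'] Ω[B'⁄R] →ₗ[B] N := LinearMap.liftBaseChange B D''.liftKaehlerDifferential
  have hg : ∀ b w, g (b ⊗ₜ[B'] w) = b • D''.liftKaehlerDifferential w := fun b w => by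
    exact LinearMap.liftBaseChange_tmul _ _ _ _
  apply Function.LeftInverse.injective (g := g)
  intro x
  induction x using TensorProduct.induction_on with
  | zero => rw [map_zero, map_zero]
  | add x y hx hy => rw [map_add, map_add, hx, hy]
  | tmul b y =>
    rw [LinearMap.baseChange_tmul, hg]
    induction y using TensorProduct.induction_on with
    | zero => rw [map_zero, map_zero, smul_zero, TensorProduct.tmul_zero]
    | add x y hx hy => rw [map_add, map_add, smul_add, hx, hy, TensorProduct.tmul_add]
    | tmul b' w =>
      have hw : w ∈ Submodule.span A (Set.range (D R A)) := by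
        rw [span_range_derivation]; trivial
      rw [mapBaseChange_tmul, map_smul]
      induction hw using Submodule.span_induction with
      | mem w hw =>
        obtain ⟨a, rfl⟩ := hw
        rw [map_D, Derivation.liftKaehlerDifferential_comp_D]
        change b • b' • D' (algebraMap A B' a) = _
        rw [h2]
        change b • b' • ((1 : B) ⊗ₜ[B'] ((1 : B') ⊗ₜ[A] D R A a)) = _
        rw [← TensorProduct.tmul_smul, TensorProduct.smul_tmul', TensorProduct.smul_tmul', smul_eq_mul, smul_eq_mul,
          mul_one, mul_one]
      | zero => simp only [map_zero, smul_zero, TensorProduct.tmul_zero]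
      | add x y _ _ hx hy => simp only [map_add, smul_add, TensorProduct.tmul_add, hx, hy]
      | smul r x _ hx =>
        rw [map_smul, ← algebraMap_smul B' r (KaehlerDifferential.map R R A B' x), map_smul, smul_comm b',
          smul_comm b, hx, e1]

theorem surjective_baseChange (h : OmegaSh.IsUnivThickeningRing A B B' (IsScalarTower.toAlgHom A B' B)) :
    Function.Surjective ((KaehlerDifferential.mapBaseChange R A B').baseChange B) := by
  have := formallyUnramified h
  have h1 : Function.Surjective (KaehlerDifferential.mapBaseChange R A B') := by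
    intro x
    have : x ∈ LinearMap.range (KaehlerDifferential.mapBaseChange R A B') := by
      rw [KaehlerDifferential.range_mapBaseChange]
      exact Subsingleton.elim _ _
    exact this
  exact LinearMap.lTensor_surjective B h1

end K584.UnivRing
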