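import Groth.Agent.OmegaSh.K584.UnivOpen
import Groth.Agent.OmegaSh.K584.UnivRing

/-!
# Ring-level universal thickenings give scheme-level ones; existence in the affine case
-/

set_option autoImplicit false
universe u
open CategoryTheory CategoryTheory.Limits AlgebraicGeometry TopologicalSpace

namespace K584.UnivSpec

open K584.Univ K584.UnivOpen OmegaSh
open Groth.Agent.UnramB.FirstOrderNbhd (SqZ)

/-- Nilpotence of the kernel of a first order thickening. -/
theorem _root_.K584.Univ.FOT.nilp {Z Z' : Scheme.{u}} {i : Z ⟶ Z'} (hi : FOT i) : IsNilpotent i.ker :=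
  ⟨2, by rw [sq]; exact hi.2⟩

section

variable {R S S' : Type u} [CommRing R] [CommRing S] [CommRing S'] [Algebra R S] [Algebra R S']
  {π : S' →ₐ[R] S} (hu : IsUnivThickeningRing R S S' π)

include hu

theorem exists_lift_ring {A B : CommRingCat.{u}} (ψ : A ⟶ B) (hψ : Function.Surjective ψ)
    (hk : RingHom.ker ψ.hom ^ 2 = ⊥) (β : CommRingCat.of R ⟶ A) (α : CommRingCat.of S ⟶ B)
    (w : β ≫ ψ = CommRingCat.ofHom (algebraMap R S) ≫ α) :
    ∃ φ : CommRingCat.of S' ⟶ A, φ ≫ ψ = CommRingCat.ofHom π.toRingHom ≫ α ∧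
      CommRingCat.ofHom (algebraMap R S') ≫ φ = β := by
  let _ : Algebra R A := β.hom.toAlgebra
  let e : (A ⧸ RingHom.ker ψ.hom) ≃+* B := RingHom.quotientKerEquivOfSurjective hψ
  have he : ∀ x : A, e (Ideal.Quotient.mk _ x) = ψ x := fun x => rfl
  let a : S →ₐ[R] A ⧸ RingHom.ker ψ.hom :=
    { toRingHom := e.symm.toRingHom.comp α.hom
      commutes' := fun r => by
        change e.symm (α (algebraMap R S r)) = Ideal.Quotient.mk _ (β r)
        rw [RingEquiv.symm_apply_eq, he]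
        exact (ConcreteCategory.congr_hom w r).symm }
  obtain ⟨φ, hφ, -⟩ := hu.2.2 A (RingHom.ker ψ.hom) hk a
  refine ⟨CommRingCat.ofHom φ.toRingHom, ?_, ?_⟩
  · ext x
    have h1 := DFunLike.congr_fun hφ x
    change Ideal.Quotient.mk _ (φ x) = e.symm (α (π x)) at h1
    rw [RingEquiv.eq_symm_apply, he] at h1
    exact h1
  · ext r
    exact φ.commutes r

theorem exists_lift_affine {T T' : Scheme.{u}} {j : T ⟶ T'} (hj : FOT j) [IsAffine T']
    (b : T' ⟶ Spec (.of R)) (a : T ⟶ Spec (.of S))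
    (w : j ≫ b = a ≫ Spec.map (CommRingCat.ofHom (algebraMap R S))) :
    ∃ l : T' ⟶ Spec (.of S'), j ≫ l = a ≫ Spec.map (CommRingCat.ofHom π.toRingHom) ∧
      l ≫ Spec.map (CommRingCat.ofHom (algebraMap R S')) = b := by
  have := hj.closed
  have : IsAffine T := (IsClosedImmersion.isAffine_surjective_of_isAffine j).1
  have hψ : Function.Surjective j.appTop := (IsClosedImmersion.isAffine_surjective_of_isAffine j).2
  have hk : RingHom.ker j.appTop.hom ^ 2 = ⊥ := K584.UnivAff.ker_sq hj ⊤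
  obtain ⟨β, hβ⟩ : ∃ β : CommRingCat.of R ⟶ Γ(T', ⊤), b = T'.isoSpec.hom ≫ Spec.map β := by
    obtain ⟨β, hβ⟩ := Spec.homEquiv.symm.surjective (T'.isoSpec.inv ≫ b)
    refine ⟨β, ?_⟩
    rw [← Iso.inv_comp_eq]
    exact hβ.symm
  obtain ⟨α, hα⟩ : ∃ α : CommRingCat.of S ⟶ Γ(T, ⊤), a = T.isoSpec.hom ≫ Spec.map α := by
    obtain ⟨α, hα⟩ := Spec.homEquiv.symm.surjective (T.isoSpec.inv ≫ a)
    refine ⟨α, ?_⟩
    rw [← Iso.inv_comp_eq]
    exact hα.symm
  have hj' : j ≫ T'.isoSpec.hom = T.isoSpec.hom ≫ Spec.map j.appTop := by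
    rw [Scheme.isoSpec_hom_naturality]
  have w' : β ≫ j.appTop = CommRingCat.ofHom (algebraMap R S) ≫ α := by
    apply Spec.map_injective
    rw [Spec.map_comp, Spec.map_comp, ← cancel_epi T.isoSpec.hom, ← Category.assoc, ← hj', Category.assoc,
      ← hβ, w, hα, Category.assoc]
  obtain ⟨φ, h1, h2⟩ := exists_lift_ring hu j.appTop hψ hk β α w'
  refine ⟨T'.isoSpec.hom ≫ Spec.map φ, ?_, ?_⟩
  · rw [← Category.assoc, hj', Category.assoc, ← Spec.map_comp, h1, Spec.map_comp, hα, Category.assoc]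
  · rw [Category.assoc, ← Spec.map_comp, h2, hβ]

theorem formallyUnramified_SpecMap : FormallyUnramified (Spec.map (CommRingCat.ofHom (algebraMap R S'))) := by
  rw [HasRingHomProperty.Spec_iff (P := @FormallyUnramified)]
  have := K584.UnivRing.formallyUnramified hu
  exact (RingHom.formallyUnramified_algebraMap (R := R) (S := S')).mpr this

/-- A ring-level universal thickening gives a scheme-level one. -/
theorem isUnivThickening_SpecMap :
    IsUnivThickening (Spec.map (CommRingCat.ofHom (algebraMap R S))) (Spec.map (CommRingCat.ofHom π.toRingHom))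
      (Spec.map (CommRingCat.ofHom (algebraMap R S'))) := by
  have hfot : FOT (Spec.map (CommRingCat.ofHom π.toRingHom)) :=
    K584.UnivAff.fot_SpecMap _ hu.1 hu.2.1
  have hπ : CommRingCat.ofHom (algebraMap R S') ≫ CommRingCat.ofHom π.toRingHom =
      CommRingCat.ofHom (algebraMap R S) := by
    ext r
    exact π.commutes r
  have hw : Spec.map (CommRingCat.ofHom π.toRingHom) ≫ Spec.map (CommRingCat.ofHom (algebraMap R S')) =
      Spec.map (CommRingCat.ofHom (algebraMap R S)) := by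
    rw [← Spec.map_comp, hπ]
  have := formallyUnramified_SpecMap hu
  refine ⟨hfot, hw, ?_⟩
  intro T T' j b a hj w
  have hj : FOT j := hj
  have hjc : IsClosedImmersion j := hj.closed
  have hjs : Surjective j := hj.surj
  obtain ⟨l, hl1, hl2⟩ := Groth.Agent.Flat2H.FSLift.exists_lift_of_local
    (Spec.map (CommRingCat.ofHom (algebraMap R S'))) j hj.nilp
    (a ≫ Spec.map (CommRingCat.ofHom π.toRingHom)) b (fun t' => by
      obtain ⟨W, hW, htW⟩ : ∃ W : T'.Opens, IsAffineOpen W ∧ t' ∈ W := by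
        obtain ⟨_, ⟨W, hW, rfl⟩, htW, -⟩ :=
          T'.isBasis_affineOpens.exists_subset_of_mem_open (Set.mem_univ t') isOpen_univ
        exact ⟨W, hW, htW⟩
      have : IsAffine W.toScheme := hW
      refine ⟨W, htW, ?_⟩
      obtain ⟨l, h1, h2⟩ := exists_lift_affine hu (fot_morphismRestrict hj W) (W.ι ≫ b) ((j ⁻¹ᵁ W).ι ≫ a) (by
        rw [← Category.assoc, morphismRestrict_ι, Category.assoc, w, Category.assoc])
      exact ⟨l, by rw [h1, Category.assoc], h2⟩)
  refine ⟨l, ⟨hl1, hl2⟩, ?_⟩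
  rintro l' ⟨g1, g2⟩
  exact FormallyUnramified.hom_ext j hj.nilp (Spec.map (CommRingCat.ofHom (algebraMap R S')))
    (g1.trans hl1.symm) (g2.trans hl2.symm)

end

/-- Existence of universal thickenings on affine opens mapping to affine opens. -/
theorem exists_univ_affine {Z X : Scheme.{u}} (h : Z ⟶ X) [FormallyUnramified h] {U : X.Opens}
    (hU : IsAffineOpen U) {V : Z.Opens} (hV : IsAffineOpen V) (e : V ≤ h ⁻¹ᵁ U) :
    ∃ (V' : Scheme.{u}) (i : V.toScheme ⟶ V') (h' : V' ⟶ X), IsUnivThickening (V.ι ≫ h) i h' := by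
  let _ : Algebra Γ(X, U) Γ(Z, V) := (h.appLE U V e).hom.toAlgebra
  have : Algebra.FormallyUnramified Γ(X, U) Γ(Z, V) := h.formallyUnramified_appLE hU hV e
  obtain ⟨S', _, _, π, hπ⟩ := K584.UnivRing.exists_univ Γ(X, U) Γ(Z, V)
  have h1 := isUnivThickening_SpecMap hπ
  have h2 := isUniv_comp_openImmersion h1 hU.fromSpec
  have h3 := isUniv_iso_comp h2 hV.isoSpec.hom
  have h4 : hV.isoSpec.hom ≫ Spec.map (CommRingCat.ofHom (algebraMap Γ(X, U) Γ(Z, V))) ≫ hU.fromSpec =
      V.ι ≫ h := by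
    have h5 : Spec.map (CommRingCat.ofHom (algebraMap Γ(X, U) Γ(Z, V))) = Spec.map (h.appLE U V e) := rfl
    rw [h5, IsAffineOpen.SpecMap_appLE_fromSpec h hU hV e, ← Category.assoc, IsAffineOpen.isoSpec_hom_fromSpec]
  rw [h4] at h3
  exact ⟨_, _, _, h3⟩

end K584.UnivSpec
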